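import Mathlib
import Cfsg.Prelude.Def_Solvable

set_option autoImplicit false

namespace Cfsg.Agent.Lib.Helper76

variable {G : Type*} [Group G]

theorem pCore_normal (p : ℕ) : (Cfsg.pCore p G).Normal :=
  Subgroup.sSup_normal _ (fun _ h => h.1)

theorem fittingSubgroup_normal : (Cfsg.fittingSubgroup G).Normal :=
  Subgroup.sSup_normal _ (fun _ h => h.1)

theorem pCore_isPGroup (p : ℕ) : IsPGroup p (Cfsg.pCore p G) :=
  Sylow.sSup_of_normal _ (fun _ h => h.2) (fun _ h => h.1)

theorem le_pCore {p : ℕ} {N : Subgroup G} (hN : N.Normal) (h : IsPGroup p N) :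
    N ≤ Cfsg.pCore p G :=
  le_sSup ⟨hN, h⟩

theorem le_fittingSubgroup {N : Subgroup G} (hN : N.Normal) (h : Group.IsNilpotent N) :
    N ≤ Cfsg.fittingSubgroup G :=
  le_sSup ⟨hN, h⟩

/-- A choice of Sylow subgroups for all primes dividing the order generates the group. -/
theorem iSup_sylow_eq_top [Finite G] {ι : Type*} (f : ι → ℕ)
    (hf : ∀ p : ℕ, p.Prime → p ∣ Nat.card G → ∃ i, f i = p) (P : ∀ i, Sylow (f i) G) :
    ⨆ i, (P i : Subgroup G) = ⊤ := by
  rw [← Subgroup.index_eq_one, Nat.eq_one_iff_not_exists_prime_dvd]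
  intro p hp hdvd
  have h1 : p ∣ Nat.card G := hdvd.trans (Subgroup.index_dvd_card _)
  obtain ⟨i, rfl⟩ := hf p hp h1
  have : Fact (f i).Prime := ⟨hp⟩
  have h2 : (⨆ i, (P i : Subgroup G)).index ∣ (P i : Subgroup G).index :=
    Subgroup.index_dvd_of_le (le_iSup (fun i => (P i : Subgroup G)) i)
  exact (P i).not_dvd_index (hdvd.trans h2)

/-- The join of the `p`-cores over the primes dividing the order. -/
noncomputable def pCoreJoin (G : Type*) [Group G] : Subgroup G :=
  ⨆ p : (Nat.card G).primeFactors, Cfsg.pCore (p : ℕ) G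

theorem pCoreJoin_isNilpotent [Finite G] : Group.IsNilpotent (pCoreJoin G) := by
  classical
  have hcomm : Pairwise fun i j : (Nat.card G).primeFactors =>
      ∀ x y : G, x ∈ Cfsg.pCore (i : ℕ) G → y ∈ Cfsg.pCore (j : ℕ) G → Commute x y := by
    intro i j hij x y hx hy
    have hi : Fact (i : ℕ).Prime := ⟨Nat.prime_of_mem_primeFactors i.2⟩
    have hj : Fact (j : ℕ).Prime := ⟨Nat.prime_of_mem_primeFactors j.2⟩
    have hne : (i : ℕ) ≠ (j : ℕ) := fun h => hij (Subtype.ext h)
    exact Subgroup.commute_of_normal_of_disjoint _ _ (pCore_normal _) (pCore_normal _)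
      (IsPGroup.disjoint_of_ne _ _ hne _ _ (pCore_isPGroup _) (pCore_isPGroup _)) x y hx hy
  have hnil : ∀ i : (Nat.card G).primeFactors, Group.IsNilpotent (Cfsg.pCore (i : ℕ) G) := by
    intro i
    have hi : Fact (i : ℕ).Prime := ⟨Nat.prime_of_mem_primeFactors i.2⟩
    exact (pCore_isPGroup (G := G) (i : ℕ)).isNilpotent
  have hrange : (Subgroup.noncommPiCoprod hcomm).range = pCoreJoin G :=
    Subgroup.noncommPiCoprod_range
  rw [← hrange]
  exact Group.nilpotent_of_surjective (Subgroup.noncommPiCoprod hcomm).rangeRestrict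
    (Subgroup.noncommPiCoprod hcomm).rangeRestrict_surjective

theorem le_pCoreJoin_of_normal_of_isNilpotent [Finite G] {N : Subgroup G} (hN : N.Normal)
    (hnil : Group.IsNilpotent N) : N ≤ pCoreJoin G := by
  classical
  have key : ∀ (p : (Nat.card G).primeFactors) (Q : Sylow (p : ℕ) N),
      (Q : Subgroup N).map N.subtype ≤ pCoreJoin G := by
    intro p Q
    have hp : Fact (p : ℕ).Prime := ⟨Nat.prime_of_mem_primeFactors p.2⟩
    have hQn : (Q : Subgroup N).Normal := inferInstance
    have hQc : (Q : Subgroup N).Characteristic := Q.characteristic_of_normal hQn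
    have hn : ((Q : Subgroup N).map N.subtype).Normal := inferInstance
    have hpg : IsPGroup (p : ℕ) ((Q : Subgroup N).map N.subtype) := Q.isPGroup'.map _
    exact (le_pCore hn hpg).trans (le_iSup (fun p : (Nat.card G).primeFactors => Cfsg.pCore (p : ℕ) G) p)
  have htop : ⨆ p : (Nat.card G).primeFactors, ((default : Sylow (p : ℕ) N) : Subgroup N) = ⊤ := by
    apply iSup_sylow_eq_top (fun p : (Nat.card G).primeFactors => (p : ℕ))
    intro p hp hdvd
    have h1 : p ∣ Nat.card G := hdvd.trans (Subgroup.card_subgroup_dvd_card N)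
    have h0 : Nat.card G ≠ 0 := Nat.card_pos.ne'
    exact ⟨⟨p, Nat.mem_primeFactors.mpr ⟨hp, h1, h0⟩⟩, rfl⟩
  have h2 : N = (⊤ : Subgroup N).map N.subtype := by
    rw [← MonoidHom.range_eq_map, Subgroup.range_subtype]
  rw [h2, ← htop, Subgroup.map_iSup]
  exact iSup_le (fun p => key p _)

theorem fittingSubgroup_eq_pCoreJoin [Finite G] : Cfsg.fittingSubgroup G = pCoreJoin G := by
  apply le_antisymm
  · exact sSup_le (fun N hN => le_pCoreJoin_of_normal_of_isNilpotent hN.1 hN.2)
  · apply iSup_le
    intro p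
    have hp : Fact (p : ℕ).Prime := ⟨Nat.prime_of_mem_primeFactors p.2⟩
    exact le_fittingSubgroup (pCore_normal _) (pCore_isPGroup (G := G) (p : ℕ)).isNilpotent

/-- Fitting's theorem for finite groups: the Fitting subgroup is nilpotent. -/
theorem fittingSubgroup_isNilpotent [Finite G] : Group.IsNilpotent (Cfsg.fittingSubgroup G) := by
  rw [fittingSubgroup_eq_pCoreJoin]
  exact pCoreJoin_isNilpotent

theorem pCore_le_fittingSubgroup [Finite G] (p : ℕ) [Fact p.Prime] :
    Cfsg.pCore p G ≤ Cfsg.fittingSubgroup G :=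
  le_fittingSubgroup (pCore_normal _) (pCore_isPGroup (G := G) p).isNilpotent

/-- In a finite nilpotent group, `x ^ [G : K] ∈ K` for every subgroup `K`. -/
theorem pow_index_mem_of_isNilpotent [Finite G] [hnil : Group.IsNilpotent G] (K : Subgroup G) (x : G) :
    x ^ K.index ∈ K := by
  have hnc := Group.normalizerCondition_of_isNilpotent (G := G)
  suffices h : ∀ n : ℕ, ∀ K : Subgroup G, K.index = n → ∀ x : G, x ^ n ∈ K from h _ K rfl x
  intro n
  induction n using Nat.strong_induction_on with
  | _ n ih =>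
    intro K hK x
    by_cases htop : K = ⊤
    · rw [htop]; exact Subgroup.mem_top _
    · have hlt : K < ⊤ := lt_top_iff_ne_top.mpr htop
      have hlt2 : K < Subgroup.normalizer (K : Set G) := hnc K hlt
      set M := Subgroup.normalizer (K : Set G) with hM
      have hle : K ≤ M := hlt2.le
      have hidx : K.relIndex M * M.index = K.index := Subgroup.relIndex_mul_index hle
      have hMpos : M.index ≠ 0 := Subgroup.index_ne_zero_of_finite
      have hrel : K.relIndex M ≠ 1 := by
        intro h1
        rw [Subgroup.relIndex_eq_one] at h1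
        exact absurd (le_antisymm h1 hle) hlt2.ne'
      have hrelpos : K.relIndex M ≠ 0 := by
        intro h0
        rw [h0, zero_mul] at hidx
        exact Subgroup.index_ne_zero_of_finite hidx.symm
      have hlt3 : M.index < n := by
        rw [← hK, ← hidx]
        have : 2 ≤ K.relIndex M := by omega
        nlinarith [Nat.pos_of_ne_zero hMpos]
      have hy : x ^ M.index ∈ M := ih M.index hlt3 M rfl x
      have hnorm : (K.subgroupOf M).Normal := Subgroup.normal_in_normalizer
      have h3 : (⟨x ^ M.index, hy⟩ : M) ^ (K.subgroupOf M).index ∈ K.subgroupOf M :=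
        Subgroup.pow_index_mem _ _
      rw [Subgroup.mem_subgroupOf] at h3
      simp only [SubgroupClass.coe_pow] at h3
      rw [← pow_mul, mul_comm] at h3
      change x ^ (K.relIndex M * M.index) ∈ K at h3
      rwa [hidx, hK] at h3

/-- If `N` is normal, then `[N : N ∩ H]` divides `[G : H]`. -/
theorem relIndex_dvd_index_of_normal_right [Finite G] (H N : Subgroup G) [N.Normal] :
    H.relIndex N ∣ H.index := by
  have h1 : (N ⊓ H).relIndex H * H.relIndex (H ⊔ N) = (N ⊓ H).relIndex (H ⊔ N) :=
    Subgroup.relIndex_mul_relIndex _ _ _ inf_le_right le_sup_left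
  have h2 : (N ⊓ H).relIndex N * N.relIndex (H ⊔ N) = (N ⊓ H).relIndex (H ⊔ N) :=
    Subgroup.relIndex_mul_relIndex _ _ _ inf_le_left le_sup_right
  have h3 : N.relIndex (H ⊔ N) = N.relIndex H := Subgroup.relIndex_sup_right H N
  have h4 : (N ⊓ H).relIndex H = N.relIndex H := Subgroup.inf_relIndex_right N H
  have h5 : (N ⊓ H).relIndex N = H.relIndex N := Subgroup.inf_relIndex_left N H
  have h6 : N.relIndex H ≠ 0 := Subgroup.index_ne_zero_of_finite (H := N.subgroupOf H)
  have h7 : H.relIndex (H ⊔ N) = H.relIndex N := by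
    rw [h3, h5] at h2
    rw [h4] at h1
    have : N.relIndex H * H.relIndex (H ⊔ N) = N.relIndex H * H.relIndex N := by
      rw [h1, ← h2, mul_comm]
    exact Nat.eq_of_mul_eq_mul_left (Nat.pos_of_ne_zero h6) this
  rw [← h7]
  exact Subgroup.relIndex_dvd_index_of_le le_sup_left

/-- If `x` lies in a normal nilpotent subgroup of the finite group `G`, then `x ^ [G : H] ∈ H`
for every subgroup `H`. -/
theorem pow_index_mem_of_mem_normal_nilpotent [Finite G] {N : Subgroup G} [N.Normal]
    (hnil : Group.IsNilpotent N) {x : G} (hx : x ∈ N) (H : Subgroup G) : x ^ H.index ∈ H := by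
  have h1 : (⟨x, hx⟩ : N) ^ (H.subgroupOf N).index ∈ H.subgroupOf N :=
    pow_index_mem_of_isNilpotent _ _
  rw [Subgroup.mem_subgroupOf] at h1
  simp only [SubgroupClass.coe_pow] at h1
  change x ^ H.relIndex N ∈ H at h1
  obtain ⟨k, hk⟩ := relIndex_dvd_index_of_normal_right H N
  rw [hk, pow_mul]
  exact Subgroup.pow_mem _ h1 _

end Cfsg.Agent.Lib.Helper76
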