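import Mathlib
import Cfsg.Prelude.Def_Solvable
import Cfsg.Agent.S4299

set_option autoImplicit false

open scoped Pointwise

namespace Cfsg.Agent.Lib.Helper76

/-- Being a Frobenius complement is transported along a group isomorphism (comap version). -/
theorem isFrobeniusComplement_comap {L L' : Type*} [Group L] [Group L'] (f : L ≃* L')
    (C : Subgroup L') (hC : Cfsg.IsFrobeniusComplement C) :
    Cfsg.IsFrobeniusComplement (C.comap f.toMonoidHom) := by
  obtain ⟨h1, h2, h3⟩ := hC
  refine ⟨?_, ?_, ?_⟩
  · intro h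
    apply h1
    rw [eq_bot_iff]
    intro x hx
    have hx' : f.symm x ∈ C.comap f.toMonoidHom := by
      rw [Subgroup.mem_comap]
      simpa using hx
    rw [h, Subgroup.mem_bot] at hx'
    rw [Subgroup.mem_bot]
    have := congrArg f hx'
    simpa using this
  · intro h
    apply h2
    rw [eq_top_iff]
    intro x _
    have hx' : f.symm x ∈ C.comap f.toMonoidHom := by rw [h]; exact Subgroup.mem_top _
    rw [Subgroup.mem_comap] at hx'
    simpa using hx'
  · intro g hg
    have hg' : f g ∉ C := fun h => hg (by rw [Subgroup.mem_comap]; exact h)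
    have h4 := h3 (f g) hg'
    rw [eq_bot_iff]
    rintro x ⟨hx1, hx2⟩
    rw [Subgroup.mem_bot]
    have hx1' : f x ∈ C := hx1
    have hx2' : f x ∈ MulAut.conj (f g) • C := by
      rw [Subgroup.mem_pointwise_smul_iff_inv_smul_mem]
      have hx2'' : x ∈ MulAut.conj g • (C.comap f.toMonoidHom) := hx2
      rw [Subgroup.mem_pointwise_smul_iff_inv_smul_mem] at hx2''
      have h5 : f ((MulAut.conj g)⁻¹ • x) ∈ C := hx2''
      have h6 : f ((MulAut.conj g)⁻¹ • x) = (MulAut.conj (f g))⁻¹ • f x := by
        simp [MulAut.smul_def, ← map_inv]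
      rwa [h6] at h5
    have h7 : f x ∈ C ⊓ MulAut.conj (f g) • C := ⟨hx1', hx2'⟩
    rw [h4, Subgroup.mem_bot] at h7
    have := congrArg f.symm h7
    simpa using this

/-- A finite nontrivial group acting fixed-point-freely on a finite nontrivial group is (isomorphic
to) a Frobenius complement of a finite group living in `Type`. -/
theorem exists_frobenius_of_fpf {N K : Type*} [Group N] [Group K] [Finite N] [Finite K]
    [Nontrivial N] [Nontrivial K] (φ : K →* MulAut N)
    (hfpf : ∀ (a : K) (v : N), φ a v = v → a = 1 ∨ v = 1) :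
    ∃ (L : Type) (_ : Group L) (_ : Finite L) (C : Subgroup L),
      Cfsg.IsFrobeniusComplement C ∧ Nonempty (K ≃* C) := by
  have hfin : Finite (N ⋊[φ] K) := Finite.of_equiv _ SemidirectProduct.equivProd.symm
  have hsmall : Small.{0} (N ⋊[φ] K) := Countable.toSmall _
  let f : Shrink.{0} (N ⋊[φ] K) ≃* N ⋊[φ] K := Shrink.mulEquiv
  let C' : Subgroup (N ⋊[φ] K) := (SemidirectProduct.inr).range
  have hC' : Cfsg.IsFrobeniusComplement C' := Cfsg.Agent.S4299.frob_of_fpf φ hfpf
  refine ⟨Shrink.{0} (N ⋊[φ] K), inferInstance, Finite.of_equiv _ f.symm.toEquiv,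
    C'.comap f.toMonoidHom, isFrobeniusComplement_comap f C' hC', ?_⟩
  have e1 : K ≃* C' := MonoidHom.ofInjective SemidirectProduct.inr_injective
  let e2 : C'.comap f.toMonoidHom ≃* C' :=
    { toFun := fun x => ⟨f x, x.2⟩
      invFun := fun y => ⟨f.symm y, by
        rw [Subgroup.mem_comap]
        simp⟩
      left_inv := fun x => Subtype.ext (by simp)
      right_inv := fun y => Subtype.ext (by simp)
      map_mul' := fun x y => Subtype.ext (by
        change f ((x : Shrink.{0} (N ⋊[φ] K)) * (y : Shrink.{0} (N ⋊[φ] K))) = f x * f y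
        exact map_mul f _ _) }
  exact ⟨e1.trans e2.symm⟩

end Cfsg.Agent.Lib.Helper76
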