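import Mathlib

/-!
# No strongly regular graph with parameters `(m, 3q, q+1, 4)`, `q ≥ 3`
(keystone K-S0690-8)
-/

set_option autoImplicit false

namespace Cfsg.Agent.Lib.Helper76.Zass

open Matrix

/-- `k² + 12k + 20` is not a perfect square -/
theorem not_isSquare_delta (k : ℕ) : ¬ IsSquare (k * k + 12 * k + 20) := by
  rintro ⟨r, hr⟩
  by_cases hk : k ≤ 2
  · have hr7 : r ≤ 7 := by nlinarith
    interval_cases k <;> interval_cases r <;> omega
  · have h1 : k + 5 < r := by nlinarith
    have h2 : r < k + 6 := by nlinarith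
    omega

theorem no_srg (q : ℕ) (hq : 3 ≤ q) {P : Type*} [Fintype P] [DecidableEq P] [Nonempty P]
    (adj : P → P → Prop) [DecidableRel adj] (hsymm : ∀ a b, adj a b → adj b a)
    (hirr : ∀ a, ¬ adj a a)
    (hdeg : ∀ a, (Finset.univ.filter (fun b => adj a b)).card = 3 * q)
    (hlam : ∀ a b, adj a b → (Finset.univ.filter (fun c => adj a c ∧ adj b c)).card = q + 1)
    (hmu : ∀ a b, a ≠ b → ¬ adj a b →
      (Finset.univ.filter (fun c => adj a c ∧ adj b c)).card = 4) : False := by
  obtain ⟨k, rfl⟩ : ∃ k, q = k + 3 := ⟨q - 3, by omega⟩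
  have hadj : ∀ a b, adj a b ↔ adj b a := fun a b => ⟨hsymm a b, hsymm b a⟩
  set A : Matrix P P ℝ := Matrix.of fun a b => if adj a b then (1 : ℝ) else 0 with hA
  set J : Matrix P P ℝ := Matrix.of fun _ _ => (1 : ℝ) with hJ
  have hAab : ∀ a b, A a b = if adj a b then (1 : ℝ) else 0 := fun a b => rfl
  have hJab : ∀ a b, J a b = 1 := fun a b => rfl
  -- the entries of `A * A`
  have hAA : ∀ a b, (A * A) a b =
      ((Finset.univ.filter (fun c => adj a c ∧ adj b c)).card : ℝ) := by
    intro a b
    rw [Matrix.mul_apply, Finset.card_filter, Nat.cast_sum]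
    apply Finset.sum_congr rfl
    intro c _
    rw [hAab, hAab]
    by_cases h1 : adj a c <;> by_cases h2 : adj b c <;>
      simp [h1, h2, (hadj c b).not, hadj c b]
  have hA2 : A * A = ((3 * k + 5 : ℕ) : ℝ) • (1 : Matrix P P ℝ) + ((k : ℕ) : ℝ) • A +
      (4 : ℝ) • J := by
    ext a b
    rw [hAA]
    simp only [Matrix.add_apply, Matrix.smul_apply, smul_eq_mul, hJab, mul_one]
    by_cases hab : a = b
    · subst hab
      have : (Finset.univ.filter (fun c => adj a c ∧ adj a c)) =
          Finset.univ.filter (fun c => adj a c) := by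
        ext c; simp
      rw [this, hdeg, hAab, if_neg (hirr a), Matrix.one_apply_eq]
      push_cast; ring
    · by_cases h : adj a b
      · rw [hlam a b h, hAab, if_pos h, Matrix.one_apply_ne hab]
        push_cast; ring
      · rw [hmu a b hab h, hAab, if_neg h, Matrix.one_apply_ne hab]
        push_cast; ring
  have hAJ : A * J = ((3 * (k + 3) : ℕ) : ℝ) • J := by
    ext a b
    rw [Matrix.mul_apply, Matrix.smul_apply, hJab, smul_eq_mul, mul_one, ← hdeg a,
      Finset.card_filter, Nat.cast_sum]
    apply Finset.sum_congr rfl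
    intro c _
    rw [hAab, hJab, mul_one]
    split_ifs <;> simp
  -- the matrix `N`
  set N : Matrix P P ℝ := (2 : ℝ) • A - ((k : ℕ) : ℝ) • (1 : Matrix P P ℝ) with hNdef
  have hNN : N * N = ((k * k + 12 * k + 20 : ℕ) : ℝ) • (1 : Matrix P P ℝ) + (16 : ℝ) • J := by
    have e : N * N = (4 : ℝ) • (A * A) - (4 * (k : ℝ)) • A + ((k : ℝ) ^ 2) • (1 : Matrix P P ℝ) := by
      rw [hNdef, sub_mul, mul_sub, mul_sub]
      simp only [smul_mul_assoc, mul_smul_comm, mul_one, one_mul]
      module
    rw [e, hA2]
    push_cast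
    module
  have hNJ : N * J = ((5 * k + 18 : ℕ) : ℝ) • J := by
    rw [hNdef, sub_mul, smul_mul_assoc, smul_mul_assoc, one_mul, hAJ]
    push_cast
    module
  have hNherm : N.IsHermitian := by
    apply Matrix.IsHermitian.ext
    intro i j
    simp only [hNdef, Matrix.sub_apply, Matrix.smul_apply, smul_eq_mul, hAab, star_trivial,
      Matrix.one_apply]
    have h1 : (if adj j i then (1 : ℝ) else 0) = if adj i j then (1 : ℝ) else 0 := by
      by_cases h : adj i j
      · rw [if_pos h, if_pos ((hadj i j).mp h)]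
      · rw [if_neg h, if_neg (fun h' => h ((hadj j i).mp h'))]
    have h2 : (if j = i then (1 : ℝ) else 0) = if i = j then (1 : ℝ) else 0 := by
      by_cases h : i = j
      · rw [if_pos h, if_pos h.symm]
      · rw [if_neg h, if_neg (fun h' => h h'.symm)]
    rw [h1, h2]
  -- the trace of `N`
  have htr : N.trace = - ((k : ℝ) * (Fintype.card P : ℝ)) := by
    rw [hNdef, Matrix.trace_sub, Matrix.trace_smul, Matrix.trace_smul, Matrix.trace_one]
    have : A.trace = 0 := by
      unfold Matrix.trace
      apply Finset.sum_eq_zero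
      intro a _
      rw [Matrix.diag_apply, hAab, if_neg (hirr a)]
    rw [this]
    simp
  clear_value N
  -- diagonalisation
  set ev : P → ℝ := hNherm.eigenvalues with hev
  set Φ := Unitary.conjStarAlgAut ℝ (Matrix P P ℝ) (star hNherm.eigenvectorUnitary) with hΦ
  have hΦN : Φ N = diagonal ev := by
    rw [hΦ, hNherm.conjStarAlgAut_star_eigenvectorUnitary]
    congr 1
  set c : ℝ := ((5 * k + 18 : ℕ) : ℝ) with hc
  set Δ : ℝ := ((k * k + 12 * k + 20 : ℕ) : ℝ) with hΔ
  have hpoly : (N - c • (1 : Matrix P P ℝ)) * (N * N - Δ • (1 : Matrix P P ℝ)) = 0 := by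
    rw [hNN, add_sub_cancel_left, mul_smul_comm, sub_mul, hNJ, smul_mul_assoc, one_mul, sub_self,
      smul_zero]
  have hD : (diagonal ev - c • (1 : Matrix P P ℝ)) *
      (diagonal ev * diagonal ev - Δ • (1 : Matrix P P ℝ)) = 0 := by
    have := congrArg Φ hpoly
    rw [map_mul, map_sub, map_sub, map_mul, map_smul, map_smul, map_one, map_zero, hΦN] at this
    exact this
  have hroot : ∀ i, (ev i - c) * (ev i * ev i - Δ) = 0 := by
    intro i
    have := congrFun (congrFun hD i) i
    rw [Matrix.smul_one_eq_diagonal, Matrix.smul_one_eq_diagonal, diagonal_mul_diagonal,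
      diagonal_sub, diagonal_sub, diagonal_mul_diagonal, diagonal_apply_eq] at this
    simpa using this
  -- some eigenvalue equals `c`
  have hex : ∃ i, ev i = c := by
    by_contra hcon
    push Not at hcon
    have hsq : ∀ i, ev i * ev i = Δ := by
      intro i
      rcases mul_eq_zero.mp (hroot i) with h | h
      · exact absurd (sub_eq_zero.mp h) (hcon i)
      · exact sub_eq_zero.mp h
    have h1 : Φ (N * N) = Φ (Δ • (1 : Matrix P P ℝ)) := by
      rw [map_mul, hΦN, map_smul, map_one, diagonal_mul_diagonal, Matrix.smul_one_eq_diagonal]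
      congr 1
      funext i
      exact hsq i
    have h2 : N * N = Δ • (1 : Matrix P P ℝ) := Φ.injective h1
    rw [hNN] at h2
    have h3 : (16 : ℝ) • J = 0 := by
      have := add_left_cancel (a := Δ • (1 : Matrix P P ℝ)) (b := (16 : ℝ) • J) (c := 0)
        (by rw [add_zero]; exact h2)
      exact this
    obtain ⟨a⟩ := ‹Nonempty P›
    have := congrFun (congrFun h3 a) a
    simp [hJab] at this
  -- the trace
  have hsum : ∑ i, ev i = - ((k : ℝ) * (Fintype.card P : ℝ)) := by
    rw [← htr, hNherm.trace_eq_sum_eigenvalues]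
    simp [hev]
  -- irrationality of the square root
  have hirrat : Irrational (Real.sqrt Δ) := by
    rw [hΔ, irrational_sqrt_natCast_iff]
    exact not_isSquare_delta k
  have hΔnn : (0 : ℝ) ≤ Δ := by rw [hΔ]; positivity
  have hcpos : 0 < c := by rw [hc]; positivity
  set s : ℝ := Real.sqrt Δ with hs
  have hss : s * s = Δ := Real.mul_self_sqrt hΔnn
  -- every eigenvalue is `c`, `s` or `-s`
  have hcases : ∀ i, ev i = c ∨ ev i = s ∨ ev i = -s := by
    intro i
    rcases mul_eq_zero.mp (hroot i) with h | h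
    · exact Or.inl (sub_eq_zero.mp h)
    · right
      have : (ev i - s) * (ev i + s) = 0 := by
        have := sub_eq_zero.mp h
        linear_combination this - hss
      rcases mul_eq_zero.mp this with h' | h'
      · exact Or.inl (sub_eq_zero.mp h')
      · exact Or.inr (eq_neg_of_add_eq_zero_left h')
  classical
  set δ : P → ℤ := fun i => if ev i = c then 1 else 0 with hδ
  set ε : P → ℤ := fun i => if ev i = c then 0 else if ev i = s then 1 else -1 with hε
  have hdecomp : ∀ i, ev i = (δ i : ℝ) * c + (ε i : ℝ) * s := by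
    intro i
    have hδi : δ i = if ev i = c then 1 else 0 := rfl
    have hεi : ε i = if ev i = c then 0 else if ev i = s then 1 else -1 := rfl
    by_cases h' : ev i = c
    · rw [hδi, hεi, if_pos h', if_pos h']
      push_cast
      rw [h']; ring
    · by_cases h'' : ev i = s
      · rw [hδi, hεi, if_neg h', if_neg h', if_pos h'']
        push_cast
        rw [h'']; ring
      · have h3 : ev i = -s := by
          rcases hcases i with h | h | h
          · exact absurd h h'
          · exact absurd h h''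
          · exact h
        rw [hδi, hεi, if_neg h', if_neg h', if_neg h'']
        push_cast
        rw [h3]; ring
  have hsum2 : ∑ i, ev i = ((∑ i, δ i : ℤ) : ℝ) * c + ((∑ i, ε i : ℤ) : ℝ) * s := by
    rw [Int.cast_sum, Int.cast_sum, Finset.sum_mul, Finset.sum_mul, ← Finset.sum_add_distrib]
    exact Finset.sum_congr rfl (fun i _ => hdecomp i)
  have hδpos : 1 ≤ ∑ i, δ i := by
    obtain ⟨i0, hi0⟩ := hex
    have h0 : ∀ i ∈ Finset.univ, 0 ≤ δ i := by
      intro i _
      simp only [hδ]
      split_ifs <;> norm_num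
    have h1 : δ i0 ≤ ∑ i, δ i := Finset.single_le_sum h0 (Finset.mem_univ i0)
    have h2 : δ i0 = 1 := by simp [hδ, hi0]
    omega
  set a : ℤ := ∑ i, δ i with ha
  set z : ℤ := ∑ i, ε i with hz
  have hmain : (a : ℝ) * c + (z : ℝ) * s = - ((k : ℝ) * (Fintype.card P : ℝ)) := by
    rw [← hsum2, hsum]
  by_cases hz0 : z = 0
  · rw [hz0, Int.cast_zero, zero_mul, add_zero] at hmain
    have h1 : (1 : ℝ) ≤ (a : ℝ) := by exact_mod_cast hδpos
    have h2 : 0 < (a : ℝ) * c := by positivity
    have h3 : (0 : ℝ) ≤ (k : ℝ) * (Fintype.card P : ℝ) := by positivity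
    linarith
  · apply hirrat
    have hz0' : (z : ℝ) ≠ 0 := by exact_mod_cast hz0
    have hs_eq : s = (- ((k : ℝ) * (Fintype.card P : ℝ)) - (a : ℝ) * c) / (z : ℝ) := by
      field_simp
      linarith
    rw [hs_eq, hc]
    refine ⟨((-((k : ℚ) * (Fintype.card P : ℚ)) - (a : ℚ) * ((5 * k + 18 : ℕ) : ℚ)) / (z : ℚ)), ?_⟩
    push_cast
    rfl

end Cfsg.Agent.Lib.Helper76.Zass
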