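import Mathlib
import Cfsg.Agent.Lib.Helper23.SylowPerm2
import Cfsg.Agent.Lib.Helper23.SylowEmbed
import Cfsg.Agent.Lib.Helper23.SylowPrime2
import Cfsg.Agent.Lib.Helper23.Burnside

/-!
# Tools for the order `175560 = 2³·3·5·7·11·19` (S4274)

Sylow numerology for a (hypothetical) nonabelian simple group `G` of order `n`, `19 ∣ n`, in which
every proper subgroup containing a Sylow `19`-subgroup normalizes it (`HMin`).
-/

set_option autoImplicit false

namespace Cfsg.Agent.Lib.Helper76.J1

open Subgroup MulAction Cfsg.Agent.Lib.Helper23 Cfsg.Agent.Lib.Helper23.SylowPerm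

/-- Minimality hypothesis: every proper subgroup containing a Sylow `19`-subgroup normalizes it. -/
def HMin (G : Type*) [Group G] : Prop :=
  ∀ (P : Sylow 19 G) (K : Subgroup G), K ≠ ⊤ → (P : Subgroup G) ≤ K →
    K ≤ normalizer ((P : Subgroup G) : Set G)

/-- Candidates for the number of Sylow `p`-subgroups of a nonabelian simple group of order `n`,
when `p` divides `n` exactly once and `19 ∣ n`: divisors `k` of `n / p` with `k ≡ 1 mod p`,
`19 ≤ k` and `gcd (n / (k p)) (p - 1) ≠ 1` (Burnside). -/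
def validList (n p : ℕ) : List ℕ :=
  (List.range (n / p + 1)).filter fun k =>
    decide (0 < k) && decide ((n / p) % k = 0) && decide (k % p = 1) && decide (19 ≤ k) &&
      decide (Nat.gcd (n / (k * p)) (p - 1) ≠ 1)

variable {G : Type*} [Group G] [Finite G]

theorem card_sylow_eq_prime {n p : ℕ} [Fact p.Prime] (hn : Nat.card G = n) (hp : p ∣ n)
    (hp2 : ¬ p ^ 2 ∣ n) (S : Sylow p G) : Nat.card ↥(S : Subgroup G) = p := by
  obtain ⟨m, rfl⟩ := hp
  have hm : ¬ p ∣ m := by
    intro h
    apply hp2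
    rw [sq]
    exact Nat.mul_dvd_mul_left p h
  have := sylow_card_of_card_eq p 1 m (by rw [hn, pow_one]) hm S
  rwa [pow_one] at this

theorem card_sylow_dvd_div {n p : ℕ} [Fact p.Prime] (hn : Nat.card G = n) (hp : p ∣ n)
    (hp2 : ¬ p ^ 2 ∣ n) : Nat.card (Sylow p G) ∣ n / p := by
  have hpp : p.Prime := Fact.out
  obtain ⟨m, rfl⟩ := hp
  have hm : ¬ p ∣ m := by
    intro h
    apply hp2
    rw [sq]
    exact Nat.mul_dvd_mul_left p h
  have := card_sylow_dvd_of_card_eq p 1 m (by rw [hn, pow_one]) hm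
  rwa [Nat.mul_div_cancel_left m hpp.pos]

/-- `|N(S)| = n / n_p`. -/
theorem card_normalizer_eq_div {n p : ℕ} [Fact p.Prime] (hn : Nat.card G = n) (S : Sylow p G) :
    Nat.card ↥(normalizer ((S : Subgroup G) : Set G)) = n / Nat.card (Sylow p G) := by
  have h := card_normalizer_mul_card_sylow p S
  rw [hn] at h
  have hpos : 0 < Nat.card (Sylow p G) := Nat.card_pos
  rw [← h, Nat.mul_div_cancel _ hpos]

theorem sylow_le_centralizer_of_card_prime {p : ℕ} [Fact p.Prime] (S : Sylow p G)
    (hS : Nat.card ↥(S : Subgroup G) = p) :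
    (S : Subgroup G) ≤ centralizer ((S : Subgroup G) : Set G) := by
  have hpp : p.Prime := Fact.out
  have : IsCyclic ↥(S : Subgroup G) := isCyclic_of_prime_card hS
  letI : CommGroup ↥(S : Subgroup G) := IsCyclic.commGroup
  intro x hx
  rw [mem_centralizer_iff]
  intro y hy
  have := mul_comm (⟨y, hy⟩ : ↥(S : Subgroup G)) ⟨x, hx⟩
  exact congrArg Subtype.val this

/-- structure of `N(S)/C(S)` for a Sylow subgroup of prime order in a simple group -/
theorem exists_relIndex [IsSimpleGroup G] {n p : ℕ} [Fact p.Prime] (hn : Nat.card G = n)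
    (hp : p ∣ n) (hp2 : ¬ p ^ 2 ∣ n) (hnp : n ≠ p) (S : Sylow p G) :
    ∃ e c : ℕ, e ∣ p - 1 ∧ e ≠ 1 ∧
      Nat.card ↥(centralizer ((S : Subgroup G) : Set G)) = p * c ∧
      p * c * e = n / Nat.card (Sylow p G) := by
  have hpp : p.Prime := Fact.out
  have hS := card_sylow_eq_prime hn hp hp2 S
  have hnprime : ¬ (Nat.card G).Prime := by
    rw [hn]
    intro hprime
    rcases (Nat.dvd_prime hprime).mp hp with h | h
    · exact hpp.one_lt.ne' h
    · exact hnp h.symm
  have hnc : ¬ IsMulCommutative G := not_isMulCommutative_of_simple hnprime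
  have hrel := relIndex_centralizer_normalizer_dvd_pred p (S : Subgroup G) hS
  have hmul := card_centralizer_mul_relIndex (S : Subgroup G)
  have hdvd : p ∣ Nat.card ↥(centralizer ((S : Subgroup G) : Set G)) := by
    have := Subgroup.card_dvd_of_le (sylow_le_centralizer_of_card_prime S hS)
    rwa [hS] at this
  obtain ⟨c, hc⟩ := hdvd
  refine ⟨_, c, hrel, ?_, hc, ?_⟩
  · intro h1
    rw [Subgroup.relIndex_eq_one] at h1
    exact false_of_normalizer_le_centralizer hnc p (by rw [hn]; exact hp) S h1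
  · rw [← hc, hmul, card_normalizer_eq_div hn S]

theorem card_sylow_mem_validList [IsSimpleGroup G] {n p : ℕ} [Fact p.Prime]
    (hn : Nat.card G = n) (h19 : 19 ∣ n) (hp : p ∣ n) (hp2 : ¬ p ^ 2 ∣ n) (hnp : n ≠ p) :
    Nat.card (Sylow p G) ∈ validList n p := by
  have hpp : p.Prime := Fact.out
  obtain ⟨S⟩ : Nonempty (Sylow p G) := inferInstance
  have hS := card_sylow_eq_prime hn hp hp2 S
  have hnprime : ¬ (Nat.card G).Prime := by
    rw [hn]
    intro hprime
    rcases (Nat.dvd_prime hprime).mp hp with h | h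
    · exact hpp.one_lt.ne' h
    · exact hnp h.symm
  have hnc : ¬ IsMulCommutative G := not_isMulCommutative_of_simple hnprime
  have hkpos : 0 < Nat.card (Sylow p G) := Nat.card_pos
  have hkdvd := card_sylow_dvd_div (G := G) hn hp hp2
  have hn0 : 0 < n := by rw [← hn]; exact Nat.card_pos
  have hnp0 : 0 < n / p := Nat.div_pos (Nat.le_of_dvd hn0 hp) hpp.pos
  have hmod : Nat.card (Sylow p G) % p = 1 := by
    have := card_sylow_modEq_one p G
    rw [Nat.ModEq, Nat.mod_eq_of_lt hpp.one_lt] at this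
    exact this
  have h19' : 19 ≤ Nat.card (Sylow p G) := by
    rw [Sylow.card_eq_index_normalizer S]
    apply prime_le_index hnc 19 (by norm_num) (by rw [hn]; exact h19)
    intro htop
    have hnormal : (S : Subgroup G).Normal := normalizer_eq_top_iff.mp htop
    rcases hnormal.eq_bot_or_eq_top with h | h
    · rw [h, Subgroup.card_bot] at hS
      exact hpp.one_lt.ne hS
    · rw [h, Subgroup.card_top, hn] at hS
      exact hnp hS
  obtain ⟨e, c, he1, he2, hc, hce⟩ := exists_relIndex hn hp hp2 hnp S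
  have hgcd : Nat.gcd (n / (Nat.card (Sylow p G) * p)) (p - 1) ≠ 1 := by
    intro hg
    apply he2
    have h1 : e ∣ n / (Nat.card (Sylow p G) * p) := by
      rw [← Nat.div_div_eq_div_mul, ← hce]
      rw [show p * c * e = (c * e) * p by ring, Nat.mul_div_cancel _ hpp.pos]
      exact Dvd.intro_left c rfl
    have := Nat.dvd_gcd h1 he1
    rw [hg] at this
    exact Nat.dvd_one.mp this
  unfold validList
  rw [List.mem_filter, List.mem_range]
  refine ⟨Nat.lt_succ_of_le (Nat.le_of_dvd hnp0 hkdvd), ?_⟩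
  simp only [Bool.and_eq_true, decide_eq_true_eq]
  exact ⟨⟨⟨⟨hkpos, Nat.mod_eq_zero_of_dvd hkdvd⟩, hmod⟩, h19'⟩, hgcd⟩

/-- an element of order `p` generates a Sylow `p`-subgroup when these have order `p` -/
theorem exists_sylow_eq_zpowers {p : ℕ} [Fact p.Prime]
    (hS : ∀ S : Sylow p G, Nat.card ↥(S : Subgroup G) = p) (y : G) (hy : orderOf y = p) :
    ∃ T : Sylow p G, y ∈ (T : Subgroup G) ∧ zpowers y = (T : Subgroup G) := by
  have hpp : p.Prime := Fact.out
  have hpg : IsPGroup p (zpowers y) :=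
    IsPGroup.of_card (n := 1) (by rw [Nat.card_zpowers, hy, pow_one])
  obtain ⟨T, hT⟩ := hpg.exists_le_sylow
  have hyT : y ∈ (T : Subgroup G) := hT (mem_zpowers _)
  have hy1 : y ≠ 1 := by
    intro h
    rw [h, orderOf_one] at hy
    exact hpp.one_lt.ne hy
  exact ⟨T, hyT, zpowers_eq_of_mem_of_card_eq_prime p (T : Subgroup G) (hS T) hyT hy1⟩

/-- centralizers of Sylow subgroups have a common order -/
theorem card_centralizer_sylow_eq {p : ℕ} [Fact p.Prime] (S T : Sylow p G) :
    Nat.card ↥(centralizer ((S : Subgroup G) : Set G)) =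
      Nat.card ↥(centralizer ((T : Subgroup G) : Set G)) := by
  obtain ⟨g, rfl⟩ := MulAction.exists_smul_eq G S T
  apply Nat.card_congr
  refine ⟨fun w => ⟨g * w * g⁻¹, ?_⟩, fun w => ⟨g⁻¹ * w * g, ?_⟩, ?_, ?_⟩
  · rw [mem_centralizer_smul_iff p g _ S]
    have : g⁻¹ * (g * (w : G) * g⁻¹) * g = w := by group
    rw [this]
    exact w.2
  · exact (mem_centralizer_smul_iff p g _ S).mp w.2
  · intro w
    apply Subtype.ext
    show g⁻¹ * (g * (w : G) * g⁻¹) * g = w
    group
  · intro w
    apply Subtype.ext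
    show g * (g⁻¹ * (w : G) * g) * g⁻¹ = w
    group

/-- a prime `q` dividing `|N(S)|` but not `p - 1` divides `|C(S)|` -/
theorem dvd_card_centralizer_of_dvd_card_normalizer {p q : ℕ} [Fact p.Prime] (hq : q.Prime)
    (S : Sylow p G) (hS : Nat.card ↥(S : Subgroup G) = p)
    (hqN : q ∣ Nat.card ↥(normalizer ((S : Subgroup G) : Set G))) (hqp : ¬ q ∣ p - 1) :
    q ∣ Nat.card ↥(centralizer ((S : Subgroup G) : Set G)) := by
  have hrel := relIndex_centralizer_normalizer_dvd_pred p (S : Subgroup G) hS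
  have hmul := card_centralizer_mul_relIndex (S : Subgroup G)
  rw [← hmul] at hqN
  rcases (Nat.Prime.dvd_mul hq).mp hqN with h | h
  · exact h
  · exact absurd (h.trans hrel) hqp

/-- **cross rule**: if `q ∣ |C(S)|` for a Sylow `p`-subgroup `S` of order `p`, then
`p ∣ |C(T)|` for every Sylow `q`-subgroup `T` (of order `q`). -/
theorem cross {p q : ℕ} [Fact p.Prime] [Fact q.Prime]
    (hS : ∀ S : Sylow p G, Nat.card ↥(S : Subgroup G) = p)
    (hT : ∀ T : Sylow q G, Nat.card ↥(T : Subgroup G) = q) (S : Sylow p G)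
    (hq : q ∣ Nat.card ↥(centralizer ((S : Subgroup G) : Set G))) (T : Sylow q G) :
    p ∣ Nat.card ↥(centralizer ((T : Subgroup G) : Set G)) := by
  have hqq : q.Prime := Fact.out
  obtain ⟨y, hy⟩ := exists_prime_orderOf_dvd_card' q hq
  have hyo : orderOf (y : G) = q := by rw [Subgroup.orderOf_coe]; exact hy
  obtain ⟨T0, hyT0, hz⟩ := exists_sylow_eq_zpowers hT (y : G) hyo
  have hle : (S : Subgroup G) ≤ centralizer ((T0 : Subgroup G) : Set G) := by
    intro s hs
    rw [mem_centralizer_iff]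
    intro t ht
    rw [SetLike.mem_coe, ← hz, mem_zpowers_iff] at ht
    obtain ⟨k, rfl⟩ := ht
    have hys : s * (y : G) = (y : G) * s := mem_centralizer_iff.mp y.2 s hs
    exact ((Commute.zpow_right (show Commute s (y : G) from hys) k).eq).symm
  have := Subgroup.card_dvd_of_le hle
  rw [hS S, card_centralizer_sylow_eq T0 T] at this
  exact this

/-- numeric cross rule: `q ∣ n / n_p`, `q ∤ p - 1` imply `p ∣ n / n_q`. -/
theorem cross_num {n p q : ℕ} [Fact p.Prime] [Fact q.Prime] (hn : Nat.card G = n)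
    (hp : p ∣ n) (hp2 : ¬ p ^ 2 ∣ n) (hq : q ∣ n) (hq2 : ¬ q ^ 2 ∣ n)
    (hqN : q ∣ n / Nat.card (Sylow p G)) (hqp : ¬ q ∣ p - 1) :
    p ∣ n / Nat.card (Sylow q G) := by
  obtain ⟨S⟩ : Nonempty (Sylow p G) := inferInstance
  obtain ⟨T⟩ : Nonempty (Sylow q G) := inferInstance
  have hqq : q.Prime := Fact.out
  have hS := fun S : Sylow p G => card_sylow_eq_prime hn hp hp2 S
  have hT := fun T : Sylow q G => card_sylow_eq_prime hn hq hq2 T
  have h1 : q ∣ Nat.card ↥(normalizer ((S : Subgroup G) : Set G)) := by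
    rw [card_normalizer_eq_div hn S]; exact hqN
  have h2 := dvd_card_centralizer_of_dvd_card_normalizer hqq S (hS S) h1 hqp
  have h3 := cross hS hT S h2 T
  have h4 : Nat.card ↥(centralizer ((T : Subgroup G) : Set G)) ∣
      Nat.card ↥(normalizer ((T : Subgroup G) : Set G)) :=
    Subgroup.card_dvd_of_le (Subgroup.centralizer_le_normalizer _)
  rw [← card_normalizer_eq_div hn T]
  exact h3.trans h4

/-- no element of order divisible by `p q` when `q ∤ |C(S)|` -/
theorem not_dvd_orderOf_of_not_dvd_card_centralizer {p q : ℕ} [Fact p.Prime] (hq : q.Prime)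
    (hS : ∀ S : Sylow p G, Nat.card ↥(S : Subgroup G) = p) (S : Sylow p G)
    (hqC : ¬ q ∣ Nat.card ↥(centralizer ((S : Subgroup G) : Set G))) (x : G)
    (hpx : p ∣ orderOf x) : ¬ q ∣ orderOf x := by
  intro hqx
  have hpp : p.Prime := Fact.out
  have hx0 : orderOf x ≠ 0 := (orderOf_pos x).ne'
  have hyo : orderOf (x ^ (orderOf x / p)) = p := orderOf_pow_orderOf_div hx0 hpx
  have hwo : orderOf (x ^ (orderOf x / q)) = q := orderOf_pow_orderOf_div hx0 hqx
  obtain ⟨T0, hyT0, hz⟩ := exists_sylow_eq_zpowers hS (x ^ (orderOf x / p)) hyo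
  have hle : zpowers (x ^ (orderOf x / q)) ≤ centralizer ((T0 : Subgroup G) : Set G) := by
    rw [zpowers_le, mem_centralizer_iff]
    intro t ht
    rw [SetLike.mem_coe, ← hz, mem_zpowers_iff] at ht
    obtain ⟨k, rfl⟩ := ht
    have hc : Commute (x ^ (orderOf x / p)) (x ^ (orderOf x / q)) :=
      (Commute.refl x).pow_pow _ _
    exact (Commute.zpow_left hc k).eq
  have := Subgroup.card_dvd_of_le hle
  rw [Nat.card_zpowers, hwo, card_centralizer_sylow_eq T0 S] at this
  exact hqC this

/-- the Sylow `p`-subgroup centralized by `x` (with `p ∣ o(x)`) is generated by a power of `x` -/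
theorem zpowers_pow_eq_of_mem_centralizer {p : ℕ} [Fact p.Prime]
    (hS : ∀ S : Sylow p G, Nat.card ↥(S : Subgroup G) = p) (S : Sylow p G) (x : G)
    (hx : x ∈ centralizer ((S : Subgroup G) : Set G)) (hpx : p ∣ orderOf x) :
    zpowers (x ^ (orderOf x / p)) = (S : Subgroup G) := by
  have hpp : p.Prime := Fact.out
  have hx0 : orderOf x ≠ 0 := (orderOf_pos x).ne'
  have hyo : orderOf (x ^ (orderOf x / p)) = p := orderOf_pow_orderOf_div hx0 hpx
  obtain ⟨T0, hyT0, -⟩ := exists_sylow_eq_zpowers hS (x ^ (orderOf x / p)) hyo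
  have hyC : x ^ (orderOf x / p) ∈ centralizer ((S : Subgroup G) : Set G) := pow_mem hx _
  have hyN : x ^ (orderOf x / p) ∈ normalizer ((S : Subgroup G) : Set G) :=
    Subgroup.centralizer_le_normalizer _ hyC
  have hyS : (x ^ (orderOf x / p)) • S = S := Sylow.smul_eq_iff_mem_normalizer.mpr hyN
  have hmem := mem_of_mem_normalizer_of_mem_sylow p T0 S _ hyT0 hyS
  have hy1 : x ^ (orderOf x / p) ≠ 1 := by
    intro h
    rw [h, orderOf_one] at hyo
    exact hpp.one_lt.ne hyo
  exact zpowers_eq_of_mem_of_card_eq_prime p (S : Subgroup G) (hS S) hmem hy1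

/-- in `C(S)` at least `(p - 1) c` elements have order divisible by `p` -/
theorem card_centralizer_dvd_orderOf_ge {p c : ℕ} [Fact p.Prime] (S : Sylow p G)
    (hS : Nat.card ↥(S : Subgroup G) = p)
    (hc : Nat.card ↥(centralizer ((S : Subgroup G) : Set G)) = p * c) :
    (p - 1) * c ≤
      Nat.card {x : G // x ∈ centralizer ((S : Subgroup G) : Set G) ∧ p ∣ orderOf x} := by
  classical
  have hpp : p.Prime := Fact.out
  set C := centralizer ((S : Subgroup G) : Set G) with hCdef
  have hSC : (S : Subgroup G) ≤ C := sylow_le_centralizer_of_card_prime S hS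
  set S' := (S : Subgroup G).subgroupOf C with hS'
  have hcardS' : Nat.card ↥S' = p := by
    rw [← hS]
    exact Nat.card_congr (Subgroup.subgroupOfEquivOfLe hSC).toEquiv
  have hquot : Nat.card (↥C ⧸ S') = c := by
    have h1 := Subgroup.card_eq_card_quotient_mul_card_subgroup S'
    rw [hc, hcardS', mul_comm] at h1
    exact (Nat.eq_of_mul_eq_mul_right hpp.pos h1).symm
  have hinj : Function.Injective
      (fun x : {x : ↥C // ¬ p ∣ orderOf (x : G)} => (QuotientGroup.mk x.1 : ↥C ⧸ S')) := by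
    intro x x' h
    have h' := QuotientGroup.eq.mp h
    rw [hS', Subgroup.mem_subgroupOf] at h'
    have hs : ((x.1 : G))⁻¹ * (x'.1 : G) ∈ (S : Subgroup G) := by simpa using h'
    set a : G := (x.1 : G) with ha
    set b : G := (x'.1 : G) with hb
    have hab : Commute a (a⁻¹ * b) := by
      have := mem_centralizer_iff.mp x.1.2 _ hs
      exact this.symm
    have hcomm : Commute a b := by
      have : b = a * (a⁻¹ * b) := by group
      rw [this]
      exact (Commute.refl a).mul_right hab
    by_contra hne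
    have hs1 : a⁻¹ * b ≠ 1 := by
      intro h1
      apply hne
      apply Subtype.ext
      apply Subtype.ext
      show a = b
      have : b = a * (a⁻¹ * b) := by group
      rw [this, h1, mul_one]
    have hos := orderOf_eq_of_mem_of_card_eq_prime p (S : Subgroup G) hS hs hs1
    have hpow : (a⁻¹ * b) ^ (orderOf a * orderOf b) = 1 := by
      rw [(hcomm.inv_left).mul_pow, inv_pow, pow_mul, pow_orderOf_eq_one, one_pow, inv_one,
        one_mul, mul_comm, pow_mul, pow_orderOf_eq_one, one_pow]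
    have hdvd := orderOf_dvd_of_pow_eq_one hpow
    rw [hos] at hdvd
    rcases (Nat.Prime.dvd_mul hpp).mp hdvd with h1 | h1
    · exact x.2 h1
    · exact x'.2 h1
  have hB : Nat.card {x : ↥C // ¬ p ∣ orderOf (x : G)} ≤ c := by
    rw [← hquot]
    exact Nat.card_le_card_of_injective _ hinj
  have hsum : Nat.card {x : ↥C // p ∣ orderOf (x : G)} +
      Nat.card {x : ↥C // ¬ p ∣ orderOf (x : G)} = p * c := by
    rw [← Nat.card_sum, ← hc]
    exact Nat.card_congr (Equiv.sumCompl (fun x : ↥C => p ∣ orderOf (x : G)))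
  have heq : Nat.card {x : G // x ∈ C ∧ p ∣ orderOf x} =
      Nat.card {x : ↥C // p ∣ orderOf (x : G)} :=
    (Nat.card_congr (Equiv.subtypeSubtypeEquivSubtypeInter (fun x : G => x ∈ C)
      (fun x : G => p ∣ orderOf x))).symm
  rw [heq]
  have hp1 : (p - 1) * c + c = p * c := by
    have : p - 1 + 1 = p := Nat.sub_add_cancel hpp.one_lt.le
    calc (p - 1) * c + c = (p - 1 + 1) * c := by ring
      _ = p * c := by rw [this]
  omega

/-- **counting**: at least `n_p (p - 1) c` elements have order divisible by `p`, where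
`|C(S)| = p c`. -/
theorem card_dvd_orderOf_ge {p c : ℕ} [Fact p.Prime]
    (hS : ∀ S : Sylow p G, Nat.card ↥(S : Subgroup G) = p)
    (hc : ∀ S : Sylow p G, Nat.card ↥(centralizer ((S : Subgroup G) : Set G)) = p * c) :
    Nat.card (Sylow p G) * ((p - 1) * c) ≤ Nat.card {x : G // p ∣ orderOf x} := by
  classical
  have hpp : p.Prime := Fact.out
  have := Fintype.ofFinite (Sylow p G)
  let F : Sylow p G → Type _ := fun S =>
    {x : G // x ∈ centralizer ((S : Subgroup G) : Set G) ∧ p ∣ orderOf x}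
  have hinj : Function.Injective
      (fun z : (Σ S : Sylow p G, F S) => (⟨z.2.1, z.2.2.2⟩ : {x : G // p ∣ orderOf x})) := by
    rintro ⟨S, x, hxS, hpx⟩ ⟨S', x', hxS', hpx'⟩ h
    simp only [Subtype.mk.injEq] at h
    subst h
    have hSS' : S = S' := by
      apply Sylow.ext
      rw [← zpowers_pow_eq_of_mem_centralizer hS S x hxS hpx,
        ← zpowers_pow_eq_of_mem_centralizer hS S' x hxS' hpx']
    subst hSS'
    rfl
  have h1 := Nat.card_le_card_of_injective _ hinj
  rw [Nat.card_sigma] at h1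
  calc Nat.card (Sylow p G) * ((p - 1) * c) = ∑ _S : Sylow p G, (p - 1) * c := by
        simp [Nat.card_eq_fintype_card]
    _ ≤ ∑ S : Sylow p G, Nat.card (F S) :=
        Finset.sum_le_sum (fun S _ => card_centralizer_dvd_orderOf_ge S (hS S) (hc S))
    _ ≤ _ := h1

theorem card_add_card_le_of_disjoint (A B : G → Prop) (hAB : ∀ x, A x → ¬ B x) :
    Nat.card {x : G // A x} + Nat.card {x : G // B x} ≤ Nat.card {x : G // A x ∨ B x} := by
  rw [← Nat.card_sum]
  apply Nat.card_le_card_of_injective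
    (Sum.elim (fun a : {x : G // A x} => (⟨a.1, Or.inl a.2⟩ : {x : G // A x ∨ B x}))
      (fun b : {x : G // B x} => ⟨b.1, Or.inr b.2⟩))
  rintro (a | a) (b | b) h
  · simp only [Sum.elim_inl, Subtype.mk.injEq] at h
    rw [Subtype.ext h]
  · simp only [Sum.elim_inl, Sum.elim_inr, Subtype.mk.injEq] at h
    exact absurd b.2 (h ▸ hAB a.1 a.2)
  · simp only [Sum.elim_inl, Sum.elim_inr, Subtype.mk.injEq] at h
    exact absurd a.2 (h.symm ▸ hAB b.1 b.2)
  · simp only [Sum.elim_inr, Subtype.mk.injEq] at h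
    rw [Subtype.ext h]

theorem card_add3_le_of_disjoint (A B C : G → Prop) (hAB : ∀ x, A x → ¬ B x)
    (hAC : ∀ x, A x → ¬ C x) (hBC : ∀ x, B x → ¬ C x) :
    Nat.card {x : G // A x} + Nat.card {x : G // B x} + Nat.card {x : G // C x} ≤
      Nat.card G := by
  have h1 := card_add_card_le_of_disjoint A B hAB
  have h2 := card_add_card_le_of_disjoint (fun x => A x ∨ B x) C
    (fun x h => h.elim (hAC x) (hBC x))
  have h3 : Nat.card {x : G // (A x ∨ B x) ∨ C x} ≤ Nat.card G :=
    Nat.card_le_card_of_injective (fun x => x.1) Subtype.val_injective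
  omega

theorem card_add4_le_of_disjoint (A B C D : G → Prop) (hAB : ∀ x, A x → ¬ B x)
    (hAC : ∀ x, A x → ¬ C x) (hAD : ∀ x, A x → ¬ D x) (hBC : ∀ x, B x → ¬ C x)
    (hBD : ∀ x, B x → ¬ D x) (hCD : ∀ x, C x → ¬ D x) :
    Nat.card {x : G // A x} + Nat.card {x : G // B x} + Nat.card {x : G // C x} +
      Nat.card {x : G // D x} ≤ Nat.card G := by
  have h1 := card_add_card_le_of_disjoint A B hAB
  have h2 := card_add_card_le_of_disjoint (fun x => A x ∨ B x) C
    (fun x h => h.elim (hAC x) (hBC x))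
  have h3 := card_add_card_le_of_disjoint (fun x => (A x ∨ B x) ∨ C x) D
    (fun x h => h.elim (fun h' => h'.elim (hAD x) (hBD x)) (hCD x))
  have h4 : Nat.card {x : G // ((A x ∨ B x) ∨ C x) ∨ D x} ≤ Nat.card G :=
    Nat.card_le_card_of_injective (fun x => x.1) Subtype.val_injective
  omega

/-- **H1**: under `HMin`, a prime `r` dividing `|G|` but not `|N(P)|` (`P` a Sylow
`19`-subgroup) has `19 ∣ n_r`. -/
theorem dvd_card_sylow_of_hmin [IsSimpleGroup G] (hmin : HMin G) (P : Sylow 19 G) {r : ℕ}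
    [Fact r.Prime] (hrG : r ∣ Nat.card G)
    (hrN : ¬ r ∣ Nat.card ↥(normalizer ((P : Subgroup G) : Set G))) :
    19 ∣ Nat.card (Sylow r G) := by
  by_contra h19
  have hrr : r.Prime := Fact.out
  have : Fact (Nat.Prime 19) := ⟨by norm_num⟩
  -- `P` fixes some Sylow `r`-subgroup
  have hmod := (P.2).card_modEq_card_fixedPoints (Sylow r G)
  have hne : Nat.card ↥(fixedPoints ↥(P : Subgroup G) (Sylow r G)) ≠ 0 := by
    intro h0
    rw [h0] at hmod
    exact h19 ((Nat.modEq_zero_iff_dvd).mp hmod)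
  have hnonempty : Nonempty ↥(fixedPoints ↥(P : Subgroup G) (Sylow r G)) := by
    by_contra hempty
    rw [not_nonempty_iff] at hempty
    exact hne Nat.card_of_isEmpty
  obtain ⟨⟨R, hR⟩⟩ := hnonempty
  have hPN : (P : Subgroup G) ≤ normalizer ((R : Subgroup G) : Set G) := by
    intro x hx
    have := hR ⟨x, hx⟩
    exact Sylow.smul_eq_iff_mem_normalizer.mp this
  have hRr : r ∣ Nat.card ↥(R : Subgroup G) := R.dvd_card_of_dvd_card hrG
  have hK : (P : Subgroup G) ⊔ (R : Subgroup G) ≠ ⊤ := by
    intro htop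
    have hNtop : normalizer ((R : Subgroup G) : Set G) = ⊤ := by
      rw [eq_top_iff, ← htop]
      exact sup_le hPN le_normalizer
    have hnormal : (R : Subgroup G).Normal := normalizer_eq_top_iff.mp hNtop
    rcases hnormal.eq_bot_or_eq_top with h | h
    · rw [h, Subgroup.card_bot] at hRr
      exact hrr.one_lt.ne' (Nat.dvd_one.mp hRr)
    · -- `G` is an `r`-group, so `N(P)` is an `r`-group of order prime to `r`: trivial
      have hNp : IsPGroup r ↥(normalizer ((P : Subgroup G) : Set G)) :=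
        R.2.to_le (by rw [h]; exact le_top)
      obtain ⟨k, hk⟩ := hNp.exists_card_eq
      have hk0 : k = 0 := by
        by_contra hk0
        apply hrN
        rw [hk]
        exact dvd_pow_self r hk0
      rw [hk0, pow_zero] at hk
      have hNbot : normalizer ((P : Subgroup G) : Set G) = ⊥ := Subgroup.card_eq_one.mp hk
      have hPbot : (P : Subgroup G) = ⊥ := by
        rw [eq_bot_iff, ← hNbot]
        exact le_normalizer
      have : normalizer ((P : Subgroup G) : Set G) = ⊤ := by
        rw [hPbot]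
        exact normalizer_eq_top_iff.mpr inferInstance
      rw [hNbot] at this
      exact bot_ne_top this
  have hle := hmin P _ hK le_sup_left
  have hRN : (R : Subgroup G) ≤ normalizer ((P : Subgroup G) : Set G) := le_sup_right.trans hle
  exact hrN (hRr.trans (Subgroup.card_dvd_of_le hRN))

end Cfsg.Agent.Lib.Helper76.J1
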