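import Mathlib
import Cfsg.Agent.Lib.Helper23.SylowEmbed
import Cfsg.Agent.Lib.Helper23.SylowCount
import Cfsg.Agent.Lib.Helper23.SylowPerm

/-!
# K-S0496-720E: in a simple group of order 720 with ten Sylow 3-subgroups, `|C_G(P)| = 9`.
-/

set_option autoImplicit false

namespace Cfsg.Agent.Lib.Helper76.Small1092

open Subgroup MulAction

theorem card_centralizer_sylow_three_720 {G : Type*} [Group G] [Finite G] [IsSimpleGroup G]
    (hG : ¬ IsMulCommutative G)
    (h : Nat.card G = 720) (h3 : Nat.card (Sylow 3 G) = 10) (P : Sylow 3 G) :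
    Nat.card (centralizer ((P : Subgroup G) : Set G)) = 9 := by
  classical
  have hP9 : Nat.card ↥(P : Subgroup G) = 3 ^ 2 :=
    Cfsg.Agent.Lib.Helper23.sylow_card_of_card_eq 3 2 80 (by rw [h]; norm_num) (by norm_num) P
  have hN : Nat.card ↥(normalizer ((P : Subgroup G) : Set G)) * 10 = 720 := by
    have := Cfsg.Agent.Lib.Helper23.card_normalizer_mul_card_sylow 3 P
    rw [h3, h] at this
    exact this
  have hN72 : Nat.card ↥(normalizer ((P : Subgroup G) : Set G)) = 72 := by omega
  -- `P` is abelian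
  have hcomm : IsMulCommutative ↥(P : Subgroup G) :=
    IsPGroup.isMulCommutative_of_card_eq_prime_sq (p := 3) hP9
  have hPC : (P : Subgroup G) ≤ centralizer ((P : Subgroup G) : Set G) := by
    intro x hx
    rw [Subgroup.mem_centralizer_iff]
    intro y hy
    have := hcomm.is_comm.comm (⟨y, hy⟩ : ↥(P : Subgroup G)) ⟨x, hx⟩
    exact congrArg Subtype.val this
  have hCN : centralizer ((P : Subgroup G) : Set G) ≤ normalizer ((P : Subgroup G) : Set G) :=
    Subgroup.centralizer_le_normalizer _
  have h9dvd : 9 ∣ Nat.card ↥(centralizer ((P : Subgroup G) : Set G)) := by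
    have := Subgroup.card_dvd_of_le hPC
    rw [hP9] at this
    exact this
  have hdvd72 : Nat.card ↥(centralizer ((P : Subgroup G) : Set G)) ∣ 72 := by
    have := Subgroup.card_dvd_of_le hCN
    rw [hN72] at this
    exact this
  -- the centralizer has odd order
  have hodd : ¬ 2 ∣ Nat.card ↥(centralizer ((P : Subgroup G) : Set G)) := by
    intro h2
    obtain ⟨v, hv⟩ := exists_prime_orderOf_dvd_card' (G := ↥(centralizer ((P : Subgroup G) : Set G))) 2 h2
    have hv' : orderOf (v : G) = 2 := by
      rw [Subgroup.orderOf_coe]; exact hv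
    have hv2 : (v : G) ^ 2 = 1 := by
      rw [← hv']; exact pow_orderOf_eq_one _
    have hv1 : (v : G) ≠ 1 := by
      intro h1
      rw [h1, orderOf_one] at hv'
      omega
    have hne : Nat.card (Sylow 3 G) ≠ 1 := by rw [h3]; norm_num
    have hmod := Cfsg.Agent.Lib.Helper23.SylowPerm.card_fixedBy_modEq_one 3 P (v : G) v.2
    obtain ⟨t, ht⟩ := Cfsg.Agent.Lib.Helper23.SylowPerm.card_fixedBy_involution 3
      (by rw [h]; norm_num : 2 < Nat.card G) (v : G) hv2
    have hlt := Cfsg.Agent.Lib.Helper23.SylowPerm.card_fixedBy_lt 3 hne (v : G) hv1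
    rw [h3] at ht hlt
    unfold Nat.ModEq at hmod
    omega
  -- so it divides 9
  have hcop : Nat.Coprime (Nat.card ↥(centralizer ((P : Subgroup G) : Set G))) 8 := by
    have : Nat.Coprime (Nat.card ↥(centralizer ((P : Subgroup G) : Set G))) 2 := by
      rw [Nat.coprime_comm]
      exact (Nat.Prime.coprime_iff_not_dvd Nat.prime_two).mpr hodd
    have h8 : (8 : ℕ) = 2 ^ 3 := by norm_num
    rw [h8]
    exact Nat.Coprime.pow_right 3 this
  have hdvd9 : Nat.card ↥(centralizer ((P : Subgroup G) : Set G)) ∣ 9 := by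
    have h72 : (72 : ℕ) = 8 * 9 := by norm_num
    rw [h72] at hdvd72
    exact hcop.dvd_of_dvd_mul_left hdvd72
  exact Nat.dvd_antisymm hdvd9 h9dvd

end Cfsg.Agent.Lib.Helper76.Small1092
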