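import Cfsg.Agent.Lib.Helper76.ReeTorus

/-!
# The `σ`-fixed points of the torus of `G₂(K)` and `H ∩ ²G₂`

For a twisting automorphism `S : Helper33.Ree.Sigma K e` (`e` odd):
* `sigma_wG`, `sigma_hWord` : `σ` on words, `σ (h_r(t)) = h_{r̄}(t ^ (λ(r) e))`;
* `sigma_torG` : `σ (h_a(c₀) h_b(c₁)) = h_a(c₁^e) h_b(c₀^(3e))`;
* `exists_torFix_of_fixed` : `H ⊓ S.Fx ⊆ { h_a(τ^e) h_b(τ) }`;
* `torFixEquiv` : if `twistedG2 K e ≤ S.Fx` (and characteristic 3, `t ^ (3 e²) = t`) then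
  `Kˣ ≃* H ⊓ twistedG2 K e`; hence `card_diag_inf_twisted` and `isCyclic_diag_inf_twisted`.
-/

set_option autoImplicit false

namespace Cfsg.Agent.Lib.Helper76.Ree

open Cfsg.Lie Cfsg.Agent.Lib.Helper24 Cfsg.Agent.Lib.Helper33.Ree
  Cfsg.Agent.Lib.Helper76.ChevTorus Cfsg.Agent.Lib.Helper76.MonomialAct

section sigma

variable {K : Type*} [Field K] {e : ℕ}

/-- a word as an element of `G₂(K)` -/
noncomputable def wG (w : List (ℕ × K)) : ↥(chevG2.group K) :=
  ⟨factsG2.wordGL w, factsG2.wordGL_mem_group w⟩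

theorem wG_nil : wG ([] : List (ℕ × K)) = 1 := by
  apply Subtype.ext
  simp [wG, Facts.wordGL]

theorem wG_cons (p : ℕ × K) (w : List (ℕ × K)) : wG (p :: w) = wG [p] * wG w := by
  apply Subtype.ext
  simp [wG, Facts.wordGL]

theorem wG_append (w₁ w₂ : List (ℕ × K)) : wG (w₁ ++ w₂) = wG w₁ * wG w₂ := by
  apply Subtype.ext
  simp [wG, Facts.wordGL, List.map_append, List.prod_append]

/-- the twisted word -/
def barWord (e : ℕ) (w : List (ℕ × K)) : List (ℕ × K) :=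
  w.map fun p => (bar p.1, p.2 ^ (lam p.1 * e))

theorem sigma_wG (S : Sigma K e) (w : List (ℕ × K)) (hw : ∀ p ∈ w, p.1 < 12) :
    S.σ (wG w) = wG (barWord e w) := by
  induction w with
  | nil => simp [barWord, wG_nil]
  | cons p rest ih =>
    rw [wG_cons, map_mul, ih (fun q hq => hw q (List.mem_cons_of_mem _ hq))]
    have h1 : S.σ (wG [p]) = wG [(bar p.1, p.2 ^ (lam p.1 * e))] := by
      apply Subtype.ext
      apply Units.ext
      have := S.map_x p.1 (hw p (List.mem_cons_self)) p.2 (wG [p]) (by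
        simp [wG, Facts.wordGL])
      rw [this]
      simp [wG, Facts.wordGL]
    rw [h1]
    show _ = wG ((bar p.1, p.2 ^ (lam p.1 * e)) :: barWord e rest)
    rw [wG_cons _ (barWord e rest)]

theorem lam_odd : ∀ r < 12, Odd (lam r) := by decide

theorem neg_lt_12 : ∀ r < 12, chevG2.neg r < 12 := by decide

theorem barWord_hWord (he : Odd e) (r : ℕ) (hr : r < 12) (t : K) :
    barWord e (chevG2.hWord r t) = chevG2.hWord (bar r) (t ^ (lam r * e)) := by
  have hodd : Odd (lam r * e) := (lam_odd r hr).mul he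
  have h1 : (-1 : K) ^ (lam r * e) = -1 := hodd.neg_one_pow
  simp only [barWord, ChevalleyDatum.hWord, ChevalleyDatum.nWord, List.map_append, List.map_cons,
    List.map_nil, bar_neg r hr, lam_neg r hr, h1, Odd.neg_pow hodd, inv_pow]

theorem hWord_lt (r : ℕ) (hr : r < 12) (t : K) : ∀ p ∈ chevG2.hWord r t, p.1 < 12 := by
  have hneg := neg_lt_12 r hr
  intro p hp
  simp only [ChevalleyDatum.hWord, ChevalleyDatum.nWord, List.cons_append, List.nil_append,
    List.mem_cons, List.not_mem_nil, or_false] at hp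
  rcases hp with rfl | rfl | rfl | rfl | rfl | rfl <;> assumption

theorem sigma_hWord (S : Sigma K e) (he : Odd e) (r : ℕ) (hr : r < 12) (t : K) :
    S.σ (wG (chevG2.hWord r t)) = wG (chevG2.hWord (bar r) (t ^ (lam r * e))) := by
  rw [sigma_wG S _ (hWord_lt r hr t), barWord_hWord he r hr]

/-- the torus element as an element of `G₂(K)` -/
noncomputable def torG (c₀ c₁ : Kˣ) : ↥(chevG2.group K) :=
  ⟨tor c₀ c₁, factsG2.diagonal_le_group (tor_mem_diagonal c₀ c₁)⟩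

theorem torG_eq (c₀ c₁ : Kˣ) :
    torG c₀ c₁ = wG (chevG2.hWord 7 (c₀ : K)) * wG (chevG2.hWord 6 (c₁ : K)) := by
  apply Subtype.ext
  apply Units.ext
  show ((tor c₀ c₁ : GL chevG2.Idx K) : Matrix chevG2.Idx chevG2.Idx K) = _
  rw [tor_val]
  simp only [wG, Subgroup.coe_mul, Units.val_mul, Facts.wordGL_val]
  rfl

theorem torG_eq' (c₀ c₁ : Kˣ) :
    torG c₀ c₁ = wG (chevG2.hWord 6 (c₁ : K)) * wG (chevG2.hWord 7 (c₀ : K)) := by
  rw [torG_eq]
  apply Subtype.ext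
  apply Units.ext
  simp only [wG, Subgroup.coe_mul, Units.val_mul, Facts.wordGL_val]
  show chevG2.hMat K 7 (c₀ : K) * chevG2.hMat K 6 (c₁ : K) = chevG2.hMat K 6 (c₁ : K) * chevG2.hMat K 7 (c₀ : K)
  rw [factsG2.hMat_root 7 (by decide) _ c₀.ne_zero, factsG2.hMat_root 6 (by decide) _ c₁.ne_zero,
    Matrix.diagonal_mul_diagonal, Matrix.diagonal_mul_diagonal]
  congr 1
  funext i
  exact mul_comm _ _

/-- `σ (h_a(c₀) h_b(c₁)) = h_a(c₁^e) h_b(c₀^(3e))` -/
theorem sigma_torG (S : Sigma K e) (he : Odd e) (c₀ c₁ : Kˣ) :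
    S.σ (torG c₀ c₁) = torG (c₁ ^ e) (c₀ ^ (3 * e)) := by
  rw [torG_eq, map_mul, sigma_hWord S he 7 (by decide), sigma_hWord S he 6 (by decide), torG_eq']
  have b7 : bar 7 = 6 := by decide
  have b6 : bar 6 = 7 := by decide
  have l7 : lam 7 = 3 := by decide
  have l6 : lam 6 = 1 := by decide
  rw [b7, b6, l7, l6, one_mul]
  simp only [Units.val_pow_eq_pow_val]

/-- the elements of `H` fixed by `σ` -/
theorem exists_torFix_of_fixed (S : Sigma K e) (he : Odd e) (g : GL chevG2.Idx K)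
    (hg : g ∈ chevG2.diagonalSubgroup K) (hfix : g ∈ S.Fx) : ∃ τ : Kˣ, g = tor (τ ^ e) τ := by
  obtain ⟨c₀, c₁, rfl⟩ := exists_tor_of_mem_diagonal g hg
  obtain ⟨h, hσ⟩ := hfix
  have h1 : (⟨tor c₀ c₁, h⟩ : ↥(chevG2.group K)) = torG c₀ c₁ := rfl
  rw [h1, sigma_torG S he] at hσ
  have h2 : tor (c₁ ^ e) (c₀ ^ (3 * e)) = tor c₀ c₁ := congrArg Subtype.val hσ
  obtain ⟨h3, _⟩ := tor_injective _ _ _ _ h2
  exact ⟨c₁, by rw [h3]⟩

/-- the fixed torus, as a homomorphism -/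
noncomputable def torFixHom (K : Type*) [Field K] (e : ℕ) : Kˣ →* GL chevG2.Idx K where
  toFun τ := tor (τ ^ e) τ
  map_one' := by rw [one_pow, tor_one]
  map_mul' a b := by rw [tor_mul, mul_pow]

theorem torFixHom_injective : Function.Injective (torFixHom K e) := by
  intro a b h
  exact (tor_injective _ _ _ _ h).2

theorem torFixHom_range (S : Sigma K e) (hle : twistedG2 K e ≤ S.Fx) [CharP K 3] (he : Odd e)
    (hθ : ∀ t : K, t ^ (3 * e * e) = t) :
    (torFixHom K e).range = chevG2.diagonalSubgroup K ⊓ twistedG2 K e := by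
  ext g
  constructor
  · rintro ⟨τ, rfl⟩
    exact ⟨tor_mem_diagonal _ _, torFix_mem e he hθ τ⟩
  · rintro ⟨h1, h2⟩
    obtain ⟨τ, rfl⟩ := exists_torFix_of_fixed S he g h1 (hle h2)
    exact ⟨τ, rfl⟩

/-- `Kˣ ≃* H ∩ ²G₂` -/
noncomputable def torFixEquiv (S : Sigma K e) (hle : twistedG2 K e ≤ S.Fx) [CharP K 3] (he : Odd e)
    (hθ : ∀ t : K, t ^ (3 * e * e) = t) :
    Kˣ ≃* ↥(chevG2.diagonalSubgroup K ⊓ twistedG2 K e) :=
  (MonoidHom.ofInjective (torFixHom_injective (K := K) (e := e))).trans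
    (MulEquiv.subgroupCongr (torFixHom_range S hle he hθ))

theorem card_diag_inf_twisted [Fintype K] (S : Sigma K e) (hle : twistedG2 K e ≤ S.Fx) [CharP K 3]
    (he : Odd e) (hθ : ∀ t : K, t ^ (3 * e * e) = t) :
    Nat.card ↥(chevG2.diagonalSubgroup K ⊓ twistedG2 K e) = Fintype.card K - 1 := by
  classical
  rw [← Nat.card_congr (torFixEquiv S hle he hθ).toEquiv, Nat.card_eq_fintype_card, Fintype.card_units]

theorem isCyclic_diag_inf_twisted [Finite K] (S : Sigma K e) (hle : twistedG2 K e ≤ S.Fx) [CharP K 3]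
    (he : Odd e) (hθ : ∀ t : K, t ^ (3 * e * e) = t) :
    IsCyclic ↥(chevG2.diagonalSubgroup K ⊓ twistedG2 K e) :=
  isCyclic_of_surjective (torFixEquiv S hle he hθ) (torFixEquiv S hle he hθ).surjective

end sigma

end Cfsg.Agent.Lib.Helper76.Ree
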