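import Cfsg.Agent.Lib.Helper33.ReeTor
import Cfsg.Agent.Lib.Helper76.ReeFixed

/-!
# Leaves E and F of the Ree pack (architect helper33), exact signatures

`nn_mem`, `sGL_mem`, `tor_mem` (leaf E) and `torG_inj`, `fix_diag` (leaf F) of
`notes/Ree_keystones.lean.txt`, stated with `Helper33.Ree.torG`, `sGL`, `envG2`, `Sigma.ext`;
wrappers of `Cfsg.Agent.Lib.Helper76.Ree` (ReeTorus / ReeFixed).
-/

set_option autoImplicit false

namespace Cfsg.Agent.Lib.Helper76.ReeEF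

open Cfsg.Lie Cfsg.Agent.Lib.Helper24 Cfsg.Agent.Lib.Helper33.Ree

variable {K : Type*} [Field K] [CharP K 3] {e : ℕ} (S : Sigma K e)

omit [CharP K 3] in
theorem torusHom24_mulSingle (i : Fin 2) (γ : Kˣ) :
    ((torusHom chevG2 2 K (Pi.mulSingle i γ) : GL chevG2.Idx K) : Matrix chevG2.Idx chevG2.Idx K) =
      chevG2.hMat K (chevG2.simple i.val) (γ : K) := by
  have hi : i.val < chevG2.rank := i.isLt
  rw [torusHom_val, Cfsg.Agent.Lib.Helper76.Ree.factsG2.hMat_root _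
    (simpleOK_spec chevG2 simpleOK_G2 i.val hi).1 _ γ.ne_zero]
  congr 1
  funext idx
  rw [zpowMap_mulSingle, AE_simple chevG2 simpleOK_G2 i.val hi _ (enc_lt chevG2 idx)]
  simp [torusExp]

omit [CharP K 3] in
/-- helper33's `torG` is `tor (μ ^ e) μ` -/
theorem torG_eq_tor (μ : Kˣ) : torG K e μ = Cfsg.Agent.Lib.Helper76.Ree.tor (μ ^ e) μ := by
  apply Units.ext
  rw [Cfsg.Agent.Lib.Helper76.Ree.tor_val]
  have h0 := torusHom24_mulSingle (K := K) 0 (μ ^ e)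
  have h1 := torusHom24_mulSingle (K := K) 1 μ
  have e0 : chevG2.simple ((0 : Fin 2) : ℕ) = 7 := by decide
  have e1 : chevG2.simple ((1 : Fin 2) : ℕ) = 6 := by decide
  rw [e0] at h0
  rw [e1] at h1
  rw [← h0, ← h1, ← Units.val_mul, ← map_mul]
  show ((torusHom chevG2 2 K (torParam K e μ) : GL chevG2.Idx K) : Matrix chevG2.Idx chevG2.Idx K) = _
  congr 2
  funext i
  fin_cases i
  · simp [torParam]
  · simp [torParam]

/-! ## Leaf E -/

omit [CharP K 3] in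
theorem nn_mem (he : Odd e) (c : K) (hc : c ≠ 0) :
    (envG2 K).hF.nGL 8 (c ^ e) * (envG2 K).hF.nGL 10 c ∈ twistedG2 K e := by
  have _ := hc
  exact Cfsg.Agent.Lib.Helper76.Ree.nn_mem e he.pos.ne' c

omit [CharP K 3] in
theorem sGL_mem (he : Odd e) : sGL K ∈ twistedG2 K e := by
  have h := Cfsg.Agent.Lib.Helper76.Ree.nn_mem (K := K) e he.pos.ne' 1
  rw [one_pow] at h
  exact h

theorem tor_mem (he : Odd e) (hθ : ∀ t : K, t ^ (3 * e * e) = t)
    (hsq : ∀ μ : K, μ ≠ 0 → IsSquare μ ∨ IsSquare (-μ)) (μ : Kˣ) : torG K e μ ∈ twistedG2 K e := by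
  have _ := hsq
  rw [torG_eq_tor]
  exact Cfsg.Agent.Lib.Helper76.Ree.torFix_mem e he hθ μ

/-! ## Leaf F -/

omit [CharP K 3] in
theorem torG_inj : Function.Injective (torG K e) := by
  intro a b h
  rw [torG_eq_tor, torG_eq_tor] at h
  exact (Cfsg.Agent.Lib.Helper76.Ree.tor_injective _ _ _ _ h).2

omit [CharP K 3] in
theorem fix_diag (he : Odd e) (hθ : ∀ t : K, t ^ (3 * e * e) = t)
    (hC : ∀ (r : ℕ), r < 12 → ∀ t : K, t ≠ 0 →
      S.ext ((envG2 K).hF.nGL r t) = (envG2 K).hF.nGL (bar r) (t ^ (lam r * e)))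
    (h : GL chevG2.Idx K) (hh : h ∈ chevG2.diagonalSubgroup K) (hfix : S.ext h = h) :
    ∃ μ : Kˣ, h = torG K e μ := by
  have _ := hθ
  have _ := hC
  have hG : h ∈ chevG2.group K := Cfsg.Agent.Lib.Helper76.Ree.factsG2.diagonal_le_group hh
  obtain ⟨τ, rfl⟩ := Cfsg.Agent.Lib.Helper76.Ree.exists_torFix_of_fixed S he h hh
    ((S.mem_Fx_iff_ext h).mpr ⟨hG, hfix⟩)
  exact ⟨τ, (torG_eq_tor τ).symm⟩

end Cfsg.Agent.Lib.Helper76.ReeEF
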