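import Cfsg.Agent.Lib.Helper76.ReeFixed
import Cfsg.Agent.Lib.Helper24.ReeInst

/-!
# Elements of odd order of the torus `H¹` of `²G₂` act fixed-point-freely on `U¹`

* `tor_conj_xGL`, `tor_conj_word` : conjugation of root elements / words by `h_a(c₀) h_b(c₁)`;
* `fpf_coeffs` : if `h_a(τ^e) h_b(τ)` (`τ ≠ 1` of odd order) commutes with `u(t,u,v)` then `t = u = v = 0`
  (coefficients compared with helper24's `ree_ordProd_inj`);
* `card_odd_order_units`, `odd_torus` : the statement S1151.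
-/

set_option autoImplicit false

namespace Cfsg.Agent.Lib.Helper76.Ree

open Cfsg.Lie Cfsg.Agent.Lib.Helper24 Cfsg.Agent.Lib.Helper33.Ree
  Cfsg.Agent.Lib.Helper76.ChevTorus Cfsg.Agent.Lib.Helper76.MonomialAct

section oddAction

variable {K : Type*} [Field K]

/-- the character of `tor c₀ c₁` on the root `s` -/
noncomputable def chi (c₀ c₁ : Kˣ) (s : ℕ) : Kˣ := c₀ ^ Aroot chevG2 7 s * c₁ ^ Aroot chevG2 6 s

theorem tor_conj_xGL (c₀ c₁ : Kˣ) (s : ℕ) (hs : s < 12) (t : K) :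
    tor c₀ c₁ * factsG2.xGL s t * (tor c₀ c₁)⁻¹ = factsG2.xGL s ((chi c₀ c₁ s : K) * t) := by
  have e1 : tor c₀ c₁ = factsG2.wordGL (chevG2.hWord 7 (c₀ : K)) * factsG2.wordGL (chevG2.hWord 6 (c₁ : K)) := by
    apply Units.ext
    rw [tor_val, Units.val_mul, Facts.wordGL_val, Facts.wordGL_val]
    rfl
  have h6 := factsG2.hgen_mul_xGL (factsG2.wordGL (chevG2.hWord 6 (c₁ : K))) 6 (by decide) (c₁ : K) c₁.ne_zero
    (by rw [Facts.wordGL_val]; rfl) s hs t
  have h7 := factsG2.hgen_mul_xGL (factsG2.wordGL (chevG2.hWord 7 (c₀ : K))) 7 (by decide) (c₀ : K) c₀.ne_zero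
    (by rw [Facts.wordGL_val]; rfl) s hs ((c₁ : K) ^ Aroot chevG2 6 s * t)
  rw [e1]
  set g7 := factsG2.wordGL (chevG2.hWord 7 (c₀ : K))
  set g6 := factsG2.wordGL (chevG2.hWord 6 (c₁ : K))
  have e2 : g7 * g6 * factsG2.xGL s t * (g7 * g6)⁻¹ = g7 * (g6 * factsG2.xGL s t * g6⁻¹) * g7⁻¹ := by group
  rw [e2, h6, h7]
  congr 1
  unfold chi
  rw [Units.val_mul, Units.val_zpow_eq_zpow_val, Units.val_zpow_eq_zpow_val, mul_assoc]

/-- the word scaled by the character -/
noncomputable def chiWord (c₀ c₁ : Kˣ) (w : List (ℕ × K)) : List (ℕ × K) :=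
  w.map fun p => (p.1, (chi c₀ c₁ p.1 : K) * p.2)

theorem tor_conj_word (c₀ c₁ : Kˣ) (w : List (ℕ × K)) (hw : ∀ p ∈ w, p.1 < 12) :
    tor c₀ c₁ * factsG2.wordGL w * (tor c₀ c₁)⁻¹ = factsG2.wordGL (chiWord c₀ c₁ w) := by
  induction w with
  | nil => simp [chiWord, Facts.wordGL]
  | cons p rest ih =>
    have h1 : factsG2.wordGL (p :: rest) = factsG2.xGL p.1 p.2 * factsG2.wordGL rest := by
      simp [Facts.wordGL]
    have h2 : factsG2.wordGL (chiWord c₀ c₁ (p :: rest)) =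
        factsG2.xGL p.1 ((chi c₀ c₁ p.1 : K) * p.2) * factsG2.wordGL (chiWord c₀ c₁ rest) := by
      simp [Facts.wordGL, chiWord]
    rw [h1, h2, ← ih (fun q hq => hw q (List.mem_cons_of_mem _ hq)),
      ← tor_conj_xGL c₀ c₁ p.1 (hw p List.mem_cons_self) p.2]
    group

theorem A7_6 : Aroot chevG2 7 6 = -3 := by decide
theorem A6_6 : Aroot chevG2 6 6 = 2 := by decide
theorem A7_10 : Aroot chevG2 7 10 = 3 := by decide
theorem A6_10 : Aroot chevG2 6 10 = -1 := by decide
theorem A7_11 : Aroot chevG2 7 11 = 0 := by decide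
theorem A6_11 : Aroot chevG2 6 11 = 1 := by decide

theorem unit_eq_one_of_mul_eq (χ : Kˣ) (x : K) (hx : x ≠ 0) (h : (χ : K) * x = x) : χ = 1 := by
  apply Units.ext
  have : ((χ : K) - 1) * x = 0 := by rw [sub_mul, h, one_mul, sub_self]
  rcases mul_eq_zero.mp this with h1 | h1
  · rw [Units.val_one]; exact sub_eq_zero.mp h1
  · exact absurd h1 hx

/-- a non-identity element of odd order of the fixed torus centralises no non-identity element of `U¹` -/
theorem fpf_coeffs {e : ℕ} (hθ : ∀ t : K, t ^ (3 * e * e) = t) (τ : Kˣ) (hτ1 : τ ≠ 1)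
    (hodd : Odd (orderOf τ)) (t u v : K)
    (hcomm : tor (τ ^ e) τ * factsG2.wordGL (reeWordU e t u v) =
      factsG2.wordGL (reeWordU e t u v) * tor (τ ^ e) τ) : t = 0 ∧ u = 0 ∧ v = 0 := by
  have hN := unit_pow_of_theta e hθ τ
  have hconj : tor (τ ^ e) τ * factsG2.wordGL (reeWordU e t u v) * (tor (τ ^ e) τ)⁻¹ =
      factsG2.wordGL (reeWordU e t u v) := by rw [hcomm]; group
  rw [tor_conj_word _ _ _ (reeWordU_lt t u v)] at hconj
  have key := ree_ordProd_inj
    (reeC ((chi (τ ^ e) τ 7 : K) * t ^ e) ((chi (τ ^ e) τ 6 : K) * t)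
      ((chi (τ ^ e) τ 8 : K) * (t ^ (e + 1) + u ^ e)) ((chi (τ ^ e) τ 9 : K) * (t ^ (2 * e + 1) + v ^ e))
      ((chi (τ ^ e) τ 10 : K) * u) ((chi (τ ^ e) τ 11 : K) * v))
    (reeC (t ^ e) t (t ^ (e + 1) + u ^ e) (t ^ (2 * e + 1) + v ^ e) u v) hconj
  have h6 : (chi (τ ^ e) τ 6 : K) * t = t := by
    have := key 6 (by decide)
    simpa [reeC] using this
  have h10 : (chi (τ ^ e) τ 10 : K) * u = u := by
    have := key 10 (by decide)
    simpa [reeC] using this
  have h11 : (chi (τ ^ e) τ 11 : K) * v = v := by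
    have := key 11 (by decide)
    simpa [reeC] using this
  refine ⟨?_, ?_, ?_⟩
  · by_contra ht
    have h := unit_eq_one_of_mul_eq _ t ht h6
    unfold chi at h
    rw [A7_6, A6_6, zpow_neg, inv_mul_eq_one] at h
    have h' : (τ ^ e) ^ 3 = τ ^ 2 := by exact_mod_cast h
    have a1 : τ ^ (3 * e) = τ ^ 2 := by rw [← h', ← pow_mul, mul_comm]
    have a2 : τ ^ (2 * e) = τ := by
      have h3 := congrArg (· ^ e) a1
      simp only [← pow_mul] at h3
      rw [hN] at h3
      exact h3.symm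
    have a3 : τ ^ 4 = τ ^ 3 := by
      calc τ ^ 4 = (τ ^ 2) ^ 2 := by rw [← pow_mul]
        _ = (τ ^ (3 * e)) ^ 2 := by rw [a1]
        _ = (τ ^ (2 * e)) ^ 3 := by rw [← pow_mul, ← pow_mul]; congr 1; ring
        _ = τ ^ 3 := by rw [a2]
    rw [pow_succ τ 3] at a3
    exact hτ1 (mul_eq_left.mp a3)
  · by_contra hu
    have h := unit_eq_one_of_mul_eq _ u hu h10
    unfold chi at h
    rw [A7_10, A6_10, zpow_neg_one, mul_inv_eq_one] at h
    have h' : (τ ^ e) ^ 3 = τ := by exact_mod_cast h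
    have b1 : τ ^ (3 * e) = τ := by rw [← pow_mul, mul_comm] at h'; exact h'
    have b2 : τ ^ e = τ := by
      have h3 := congrArg (· ^ e) b1
      simp only [← pow_mul] at h3
      rw [hN] at h3
      exact h3.symm
    have b3 : τ ^ 3 = τ := by rw [b2] at h'; exact h'
    have b4 : τ ^ 2 = 1 := by
      rw [pow_succ τ 2] at b3
      have : τ ^ 2 * τ = 1 * τ := by rw [b3, one_mul]
      exact mul_right_cancel this
    have hd : orderOf τ ∣ 2 := orderOf_dvd_of_pow_eq_one b4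
    rcases (Nat.dvd_prime Nat.prime_two).mp hd with h1 | h2
    · exact hτ1 (orderOf_eq_one_iff.mp h1)
    · rw [h2] at hodd; exact absurd hodd (by decide)
  · by_contra hv
    have h := unit_eq_one_of_mul_eq _ v hv h11
    unfold chi at h
    rw [A7_11, A6_11, zpow_zero, zpow_one, one_mul] at h
    exact hτ1 h

end oddAction

section assembly

variable {K : Type*} [Field K] {e : ℕ}

theorem wordU_zero (he : e ≠ 0) : factsG2.wordGL (reeWordU e (0 : K) 0 0) = 1 := by
  simp [Facts.wordGL, reeWordU, zero_pow he, Facts.xGL_zero]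

/-- the number of elements of odd order of `Kˣ` when `|K| - 1 = 2k`, `k` odd -/
theorem card_odd_order_units [Fintype K] (k : ℕ) (hk : Odd k) (hq : Fintype.card K - 1 = 2 * k) :
    Nat.card {x : Kˣ // Odd (orderOf x)} = k := by
  classical
  have hcard : Fintype.card Kˣ = 2 * k := by rw [Fintype.card_units, hq]
  have hequiv : ∀ x : Kˣ, Odd (orderOf x) ↔ x ^ k = 1 := by
    intro x
    constructor
    · intro hx
      have h1 : orderOf x ∣ 2 * k := by rw [← hcard]; exact orderOf_dvd_card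
      have h2 : Nat.Coprime (orderOf x) 2 := Nat.Coprime.symm (Nat.coprime_two_left.mpr hx)
      exact orderOf_dvd_iff_pow_eq_one.mp (h2.dvd_of_dvd_mul_left h1)
    · intro hx
      exact Odd.of_dvd_nat hk (orderOf_dvd_of_pow_eq_one hx)
  have h := IsCyclic.card_powMonoidHom_ker Kˣ k
  rw [Nat.card_units, Nat.card_eq_fintype_card (α := K), hq] at h
  rw [Nat.card_congr (Equiv.subtypeEquivRight hequiv)]
  have e2 : Nat.card {x : Kˣ // x ^ k = 1} = Nat.card ↥(powMonoidHom k : Kˣ →* Kˣ).ker :=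
    Nat.card_congr (Equiv.subtypeEquivRight (fun x => by rw [MonoidHom.mem_ker]; rfl))
  rw [e2, h]
  exact Nat.gcd_eq_right (Dvd.intro_left 2 rfl)

theorem odd_torus [Fintype K] [CharP K 3] (S : Sigma K e) (hE : ReeExp K e) (k : ℕ) (hk : Odd k)
    (hq : Fintype.card K - 1 = 2 * k) :
    2 * Nat.card {h : ↥(chevG2.diagonalSubgroup K ⊓ twistedG2 K e) // Odd (orderOf h)} =
        Fintype.card K - 1 ∧
      ∀ h ∈ (chevG2.diagonalSubgroup K ⊓ twistedG2 K e), h ≠ 1 → Odd (orderOf h) →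
        (chevG2.posUnipotent K ⊓ twistedG2 K e) ⊓ Subgroup.centralizer {h} = ⊥ := by
  have hle := ree_le_Fx S hE
  constructor
  · let φ := torFixEquiv S hle hE.hodd hE.hθ
    have e1 : {h : ↥(chevG2.diagonalSubgroup K ⊓ twistedG2 K e) // Odd (orderOf h)} ≃
        {x : Kˣ // Odd (orderOf x)} :=
      Equiv.subtypeEquiv φ.symm.toEquiv (fun h => by
        show Odd (orderOf h) ↔ Odd (orderOf (φ.symm h))
        rw [MulEquiv.orderOf_eq])
    rw [Nat.card_congr e1, card_odd_order_units k hk hq, hq]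
  · intro h hh h1 hodd
    have hr : h ∈ (torFixHom K e).range := by
      rw [torFixHom_range S hle hE.hodd hE.hθ]; exact hh
    obtain ⟨τ, rfl⟩ := hr
    have hτ1 : τ ≠ 1 := by
      rintro rfl
      exact h1 (map_one _)
    have hoddτ : Odd (orderOf τ) := by
      rwa [orderOf_injective (torFixHom K e) torFixHom_injective τ] at hodd
    rw [eq_bot_iff]
    rintro g ⟨hg1, hg2⟩
    obtain ⟨t, u, v, hg⟩ := (ree_U_inf S hE g).mp hg1
    have hg' : g = factsG2.wordGL (reeWordU e t u v) := factsG2.eq_wordGL g _ hg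
    have hcomm : tor (τ ^ e) τ * factsG2.wordGL (reeWordU e t u v) =
        factsG2.wordGL (reeWordU e t u v) * tor (τ ^ e) τ := by
      rw [← hg']
      exact Subgroup.mem_centralizer_iff.mp hg2 _ rfl
    obtain ⟨rfl, rfl, rfl⟩ := fpf_coeffs hE.hθ τ hτ1 hoddτ t u v hcomm
    rw [Subgroup.mem_bot, hg']
    exact wordU_zero hE.hodd.pos.ne'

end assembly

end Cfsg.Agent.Lib.Helper76.Ree
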