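import Cfsg.Agent.Lib.Helper76.F4Weyl
import Cfsg.Agent.Lib.Helper33.F4Ext

/-!
# K-2F4-D (keystone 108906, architect helper33): `s1F`, `s2F` lie in `²F₄`
-/

set_option autoImplicit false

namespace Cfsg.Agent.Lib.Helper76.F4

open Cfsg.Lie Cfsg.Agent.Lib.Helper24 Cfsg.Agent.Lib.Helper33.F4 Cfsg.Agent.Lib.Helper33.Ree
  Cfsg.Agent.Lib.Helper76.ModC Cfsg.Agent.Lib.Helper76.F4T

variable {K : Type*} [Field K] [CharP K 2] {e : ℕ}

/-- K-2F4-D1. -/
theorem s1F_mem (he : e ≠ 0) : s1F K ∈ twistedF4 K e := by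
  have h := nn_mem (K := K) e 1
  rw [one_pow] at h
  have e1 : s1F K = factsF4.nGL 33 (1 : K) * factsF4.nGL 24 1 := by
    simp only [s1F, Facts.nW, Facts.nS, List.map_cons, List.map_nil, List.prod_cons, List.prod_nil,
      mul_one]
    rfl
  rw [e1]
  exact h

/-- the symbolic word of `n_{p₂}(1) n_{p₃}(1) n_{p₂}(1) n_{p₃}(1)` in characteristic 2 -/
def s2word : List (ℕ × Poly) :=
  [(27, Poly.one), (20, Poly.one), (27, Poly.one), (25, Poly.one), (22, Poly.one), (25, Poly.one),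
   (27, Poly.one), (20, Poly.one), (27, Poly.one), (25, Poly.one), (22, Poly.one), (25, Poly.one)]

theorem s2_check : checkWordEqModC 2 chevF4 s2word nSword = true := by
  decide +kernel

theorem neg27 : chevF4.neg 27 = 20 := by decide
theorem neg25 : chevF4.neg 25 = 22 := by decide

theorem s2F_eq_nS : s2F K = nS K := by
  have h1 := wordGL_eq_of_checkModC (K := K) 0 0 0 0 _ _ s2_check
  rw [denW_nSword] at h1
  have e1 : s2F K = factsF4.nGL 27 (1 : K) * (factsF4.nGL 25 1 * (factsF4.nGL 27 1 * factsF4.nGL 25 1)) := by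
    simp only [s2F, Facts.nW, Facts.nS, List.map_cons, List.map_nil, List.prod_cons, List.prod_nil,
      mul_one]
    rfl
  rw [e1, nGL_char2, nGL_char2, neg27, neg25, inv_one]
  rw [nS, ← h1]
  simp [denW, s2word, Facts.wordGL, Poly.one, Mono.den_one, mul_assoc]

/-- K-2F4-D2. -/
theorem s2F_mem (he : e ≠ 0) : s2F K ∈ twistedF4 K e := by
  rw [s2F_eq_nS]
  exact nS_mem e he

end Cfsg.Agent.Lib.Helper76.F4
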