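import Cfsg.Agent.Lib.Helper76.F4Torus
import Cfsg.Agent.Lib.Helper33.F4Tor

/-!
# K-2F4-E (keystone 108907, architect helper33): the torus of `²F₄` (S1110)
-/

set_option autoImplicit false

namespace Cfsg.Agent.Lib.Helper76.F4

open Cfsg.Lie Cfsg.Agent.Lib.Helper24 Cfsg.Agent.Lib.Helper33.F4 Cfsg.Agent.Lib.Helper33.Ree
  Cfsg.Agent.Lib.Helper76.ModC Cfsg.Agent.Lib.Helper76.F4T

section general

variable {K : Type*} [Field K]

/-- helper24's torus parametrisation in terms of `tor4` -/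
theorem torusHom_eq_tor4 (c : Fin 4 → Kˣ) :
    torusHom chevF4 4 K c = tor4 (c 0) (c 1) (c 2) (c 3) := by
  apply Units.ext
  rw [Cfsg.Agent.Lib.Helper24.torusHom_val]
  unfold tor4
  rw [Cfsg.Agent.Lib.Helper76.ChevTorus.torusHom_val]
  congr 1
  funext idx
  congr 1
  rcases idx with i | s
  · simp [zpowMap, torusExp, Eexp, enc, Cfsg.Agent.Lib.Helper76.ChevTorus.entHom]
  · have hlt : ¬ (chevF4.rank + (s : ℕ) < chevF4.rank) := by omega
    have hsub : chevF4.rank + (s : ℕ) - chevF4.rank = (s : ℕ) := by omega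
    show (∏ i : Fin 4, c i ^ torusExp chevF4 4 i (Sum.inr s)) =
      ∏ i : Fin 4, par4 (c 0) (c 1) (c 2) (c 3) i ^ Cfsg.Agent.Lib.Helper76.ChevTorus.cart chevF4 i s
    rw [Fin.prod_univ_four, Fin.prod_univ_four]
    simp only [torusExp, Eexp, enc, hlt, if_false, hsub, Cfsg.Agent.Lib.Helper76.ChevTorus.cart]
    rfl

theorem par4_apply0 (a b c d : Kˣ) : par4 a b c d ⟨0, by decide⟩ = a := by simp [par4]
theorem par4_apply1 (a b c d : Kˣ) : par4 a b c d ⟨1, by decide⟩ = b := by simp [par4]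
theorem par4_apply2 (a b c d : Kˣ) : par4 a b c d ⟨2, by decide⟩ = c := by simp [par4]
theorem par4_apply3 (a b c d : Kˣ) : par4 a b c d ⟨3, by decide⟩ = d := by simp [par4]

theorem tor4_inj {a b c d a' b' c' d' : Kˣ} (h : tor4 a b c d = tor4 a' b' c' d') :
    a = a' ∧ b = b' ∧ c = c' ∧ d = d' := by
  have h1 := tor4_injective (K := K) h
  refine ⟨?_, ?_, ?_, ?_⟩
  · have := congrFun h1 ⟨0, by decide⟩
    rwa [par4_apply0, par4_apply0] at this
  · have := congrFun h1 ⟨1, by decide⟩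
    rwa [par4_apply1, par4_apply1] at this
  · have := congrFun h1 ⟨2, by decide⟩
    rwa [par4_apply2, par4_apply2] at this
  · have := congrFun h1 ⟨3, by decide⟩
    rwa [par4_apply3, par4_apply3] at this

theorem torF_eq_tor4 (e : ℕ) (p : Kˣ × Kˣ) :
    torF K e p = tor4 (p.2 ^ e) (p.1 ^ e) p.1 p.2 := by
  show torusHom chevF4 4 K (torParamF K e p) = _
  rw [torusHom_eq_tor4]
  rfl

/-- K-2F4-E1. -/
theorem torF_inj {e : ℕ} (he : e ≠ 0) : Function.Injective (torF K e) := by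
  intro p p' h
  rw [torF_eq_tor4, torF_eq_tor4] at h
  obtain ⟨-, -, h2, h3⟩ := tor4_inj h
  exact Prod.ext h2 h3

theorem tor4_split (a b c d : Kˣ) :
    tor4 a b c d = factsF4.wordGL (chevF4.hWord 33 (a : K)) * (factsF4.wordGL (chevF4.hWord 27 (b : K)) *
      (factsF4.wordGL (chevF4.hWord 25 (c : K)) * factsF4.wordGL (chevF4.hWord 24 (d : K)))) := by
  have h27 : factsF4.wordGL (chevF4.hWord 27 (b : K)) = tor4 1 b 1 1 := by
    rw [hGL_eq_tor4 27 (by decide) 0 1 0 0 (by decide) b]; simp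
  have h25 : factsF4.wordGL (chevF4.hWord 25 (c : K)) = tor4 1 1 c 1 := by
    rw [hGL_eq_tor4 25 (by decide) 0 0 1 0 (by decide) c]; simp
  rw [h33_eq, h24_eq, h27, h25, tor4_mul, tor4_mul, tor4_mul]
  simp

end general

section sigma

variable {K : Type*} [Field K] [CharP K 2] {e : ℕ} (S : SigmaF K e)

theorem neg_lt_48 : ∀ r < 48, chevF4.neg r < 48 := by decide

/-- `σ (h_r(t)) = h_{r̄}(t ^ (λ(r) e))` (characteristic 2) -/
theorem ext_hWord (r : ℕ) (hr : r < 48) (t : K) :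
    S.ext (factsF4.wordGL (chevF4.hWord r t)) =
      factsF4.wordGL (chevF4.hWord (barF r) (t ^ (lamF r * e))) := by
  have hneg := neg_lt_48 r hr
  have h1 := S.ext_wordGL (chevF4.hWord r t) (by
    intro p hp
    simp only [ChevalleyDatum.hWord, ChevalleyDatum.nWord, List.cons_append, List.nil_append,
      List.mem_cons, List.not_mem_nil, or_false] at hp
    rcases hp with rfl | rfl | rfl | rfl | rfl | rfl <;> assumption)
  rw [show (envF4 K).hF = factsF4 from rfl] at h1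
  rw [h1]
  congr 1
  simp only [ChevalleyDatum.hWord, ChevalleyDatum.nWord, List.map_append, List.map_cons,
    List.map_nil, barF_neg r hr, lamF_neg r hr, CharTwo.neg_eq, inv_pow, one_pow, inv_one]

theorem ext_tor4 (a b c d : Kˣ) :
    S.ext (tor4 a b c d) = tor4 (d ^ e) (c ^ e) (b ^ (2 * e)) (a ^ (2 * e)) := by
  have hm : ∀ (r : ℕ) (t : K), factsF4.wordGL (chevF4.hWord r t) ∈ chevF4.group K :=
    fun r t => factsF4.wordGL_mem_group _
  rw [tor4_split, S.ext_mul (hm _ _) (Subgroup.mul_mem _ (hm _ _) (Subgroup.mul_mem _ (hm _ _) (hm _ _))),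
    S.ext_mul (hm _ _) (Subgroup.mul_mem _ (hm _ _) (hm _ _)), S.ext_mul (hm _ _) (hm _ _),
    ext_hWord S 33 (by decide), ext_hWord S 27 (by decide), ext_hWord S 25 (by decide),
    ext_hWord S 24 (by decide)]
  have b33 : barF 33 = 24 := by decide
  have b27 : barF 27 = 25 := by decide
  have b25 : barF 25 = 27 := by decide
  have b24 : barF 24 = 33 := by decide
  have l33 : lamF 33 = 2 := by decide
  have l27 : lamF 27 = 2 := by decide
  have l25 : lamF 25 = 1 := by decide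
  have l24 : lamF 24 = 1 := by decide
  rw [b33, b27, b25, b24, l33, l27, l25, l24, one_mul]
  simp only [← Units.val_pow_eq_pow_val]
  have h27 : ∀ x : Kˣ, factsF4.wordGL (chevF4.hWord 27 (x : K)) = tor4 1 x 1 1 := by
    intro x; rw [hGL_eq_tor4 27 (by decide) 0 1 0 0 (by decide) x]; simp
  have h25 : ∀ x : Kˣ, factsF4.wordGL (chevF4.hWord 25 (x : K)) = tor4 1 1 x 1 := by
    intro x; rw [hGL_eq_tor4 25 (by decide) 0 0 1 0 (by decide) x]; simp
  rw [h33_eq, h24_eq, h27, h25, tor4_mul, tor4_mul, tor4_mul]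
  simp

/-- K-2F4-E2. -/
theorem fix_diag (hθ : ∀ t : K, t ^ (2 * e * e) = t)
    (hC : ∀ (r : ℕ), r < 48 → ∀ t : K, t ≠ 0 →
      S.ext ((envF4 K).hF.nGL r t) = (envF4 K).hF.nGL (barF r) (t ^ (lamF r * e)))
    (h : GL chevF4.Idx K) (hh : h ∈ chevF4.diagonalSubgroup K) (hfix : S.ext h = h) :
    ∃ p : Kˣ × Kˣ, h = torF K e p := by
  rw [← (envF4 K).hF.torusHom_range (envF4 K).hS 4 rfl] at hh
  obtain ⟨c, rfl⟩ := hh
  rw [torusHom_eq_tor4, ext_tor4] at hfix
  obtain ⟨h0, h1, -, -⟩ := tor4_inj hfix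
  refine ⟨(c 2, c 3), ?_⟩
  rw [torusHom_eq_tor4, torF_eq_tor4]
  show tor4 (c 0) (c 1) (c 2) (c 3) = tor4 (c 3 ^ e) (c 2 ^ e) (c 2) (c 3)
  rw [← h0, ← h1]

/-- K-2F4-E3. -/
theorem tor_mem (he : e ≠ 0) (hθ : ∀ t : K, t ^ (2 * e * e) = t) (hs2 : s2F K ∈ twistedF4 K e)
    (p : Kˣ × Kˣ) : torF K e p ∈ twistedF4 K e := by
  rw [torF_eq_tor4]
  exact torFix4_mem e he hθ p.1 p.2

end sigma

end Cfsg.Agent.Lib.Helper76.F4
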