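import Cfsg.Agent.Lib.Helper24.Fast
import Cfsg.Agent.Lib.Helper33.ReeEngine

/-!
Word identities modulo `p`, with the sparse vectors collected and reduced modulo `p` after every
letter: the intermediate lists stay short, so that long words (and large root systems, `F₄`) can be
checked by the kernel without deep recursion.
-/

set_option autoImplicit false

namespace Cfsg.Agent.Lib.Helper76.ModC

open Cfsg.Lie Cfsg.Agent.Lib.Helper24 Cfsg.Agent.Lib.Helper33.Ree

/-- reduce the coefficients modulo `p`, dropping the terms that vanish -/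
def redPoly (p : ℕ) (q : Poly) : Poly :=
  (q.map fun mc => (mc.1, mc.2 % (p : ℤ))).filter fun mc => !(Poly.izero mc.2)

/-- collect and reduce a sparse vector -/
def redV (p : ℕ) (v : SV) : SV :=
  ((collect v).map fun kp => (kp.1, redPoly p kp.2)).filter fun kp => !(Poly.isZero kp.2)

/-- apply a word, collecting after each letter -/
def applyWordC (p : ℕ) (D : ChevalleyDatum) (w : List (ℕ × Poly)) (v : SV) : SV :=
  w.foldr (fun ra acc => redV p (applyX D ra.1 ra.2 acc)) v

/-- the check -/
def checkWordEqModC (p : ℕ) (D : ChevalleyDatum) (w1 w2 : List (ℕ × Poly)) : Bool :=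
  (List.range (D.rank + D.nroots)).all fun k =>
    vecIsZeroMod p (subV (applyWordC p D w1 [(k, Poly.one)]) (applyWordC p D w2 [(k, Poly.one)]))

section semantics

variable {F : Type*} [Field F] (p : ℕ) [CharP F p] (D : ChevalleyDatum) (y0 y1 y2 y3 : F)

theorem den_redPoly (q : Poly) : Poly.den y0 y1 y2 y3 (redPoly p q) = Poly.den y0 y1 y2 y3 q := by
  induction q with
  | nil => rfl
  | cons mc rest ih =>
    have hc : ((mc.2 % (p : ℤ) : ℤ) : F) = ((mc.2 : ℤ) : F) := by
      have h1 : (mc.2 : ℤ) = mc.2 % (p : ℤ) + (p : ℤ) * (mc.2 / (p : ℤ)) := (Int.emod_add_mul_ediv _ _).symm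
      conv_rhs => rw [h1]
      push_cast
      rw [CharP.cast_eq_zero F p, zero_mul, add_zero]
    simp only [redPoly, List.map_cons, List.filter_cons] at ih ⊢
    split_ifs with h
    · rw [Poly.den_cons, Poly.den_cons, ih]
      simp only [hc]
    · rw [Poly.den_cons, ih]
      have h2 : Poly.izero (mc.2 % (p : ℤ)) = true := by simpa using h
      have h3 := Poly.eq_zero_of_izero h2
      rw [← hc, h3]
      simp

theorem denV_map_redPoly (v : SV) :
    denV D y0 y1 y2 y3 (v.map fun kp => (kp.1, redPoly p kp.2)) = denV D y0 y1 y2 y3 v := by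
  induction v with
  | nil => rfl
  | cons kp rest ih =>
    rw [List.map_cons, denV_cons, denV_cons, ih]
    simp only [den_redPoly]

theorem denV_filter_nonzero (v : SV) :
    denV D y0 y1 y2 y3 (v.filter fun kp => !(Poly.isZero kp.2)) = denV D y0 y1 y2 y3 v := by
  induction v with
  | nil => rfl
  | cons kp rest ih =>
    rw [List.filter_cons]
    split_ifs with h
    · rw [denV_cons, denV_cons, ih]
    · rw [ih, denV_cons]
      have h2 : Poly.isZero kp.2 = true := by simpa using h
      have h3 := Poly.den_eq_zero_of_isZero y0 y1 y2 y3 _ h2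
      funext i
      simp [h3]

theorem denV_redV (v : SV) : denV D y0 y1 y2 y3 (redV p v) = denV D y0 y1 y2 y3 v := by
  rw [redV, denV_filter_nonzero, denV_map_redPoly, denV_collect]

theorem denV_applyWordC (w : List (ℕ × Poly)) (v : SV) :
    denV D y0 y1 y2 y3 (applyWordC p D w v) = denV D y0 y1 y2 y3 (applyWord D w v) := by
  induction w with
  | nil => rfl
  | cons ra rest ih =>
    simp only [applyWordC, applyWord, List.foldr_cons] at ih ⊢
    rw [denV_redV]
    exact denV_applyX_congr D y0 y1 y2 y3 _ _ _ _ ih

/-- soundness of the collected check modulo `p` -/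
theorem wordMat_eq_of_checkModC (w1 w2 : List (ℕ × Poly)) (h : checkWordEqModC p D w1 w2 = true) :
    D.wordMat F (denW y0 y1 y2 y3 w1) = D.wordMat F (denW y0 y1 y2 y3 w2) := by
  simp only [checkWordEqModC, List.all_eq_true, List.mem_range] at h
  ext i j
  have h1 := h (enc D j) (enc_lt D j)
  have h2 := denV_eq_zero_of_vecIsZeroMod p D y0 y1 y2 y3 _ h1
  rw [denV_subV, denV_applyWordC, denV_applyWordC, ← wordMat_mulVec_denV, ← wordMat_mulVec_denV,
    denV_single, Matrix.mulVec_single_one, Matrix.mulVec_single_one] at h2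
  have h3 := congrFun h2 i
  simp only [Pi.sub_apply, Pi.zero_apply, Matrix.col_apply] at h3
  exact sub_eq_zero.mp h3

end semantics

end Cfsg.Agent.Lib.Helper76.ModC
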