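import Cfsg.Agent.Lib.Helper76.F4OrderDefs
import Cfsg.Agent.Lib.Helper33.F4Count
import Cfsg.Agent.Lib.Helper33.F4B2

/-!
# K-2F4-O4 (keystone 106803): the fixed points on a segment of classes

`|rootClosure (classes i, ..., i + len - 1) ⊓ ²F₄| = q ^ segDim i len`, by splitting off the first class of the
segment (`exists_ordProd_gen` on the good list `segRoots i (len + 1) = clsF i ++ segRoots (i + 1) len`, trivial
intersection of the two factors, `σ`-stability of both factors).
-/

set_option autoImplicit false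
set_option maxRecDepth 100000

namespace Cfsg.Agent.Lib.Helper76.F4O

open Cfsg.Lie Cfsg.Agent.Lib.Helper24 Cfsg.Agent.Lib.Helper33.F4 Cfsg.Agent.Lib.Helper33.TwBN

/-! ### tables -/

theorem seg_split : ∀ i < 9, ∀ len < 9, i + len < 8 →
    segRoots i (len + 1) = clsF i ++ segRoots (i + 1) len := by decide
theorem seg_good : ∀ i < 9, ∀ len < 9, i + len ≤ 8 → goodListOK chevF4 (segRoots i len) = true := by
  decide +kernel
theorem seg_nodup : ∀ i < 9, ∀ len < 9, i + len ≤ 8 → (segRoots i len).Nodup := by decide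
theorem seg_pos : ∀ i < 9, ∀ len < 9, i + len ≤ 8 → ∀ r ∈ segRoots i len, chevF4.IsPosRoot r := by
  decide
theorem seg_bar : ∀ i < 9, ∀ len < 9, i + len ≤ 8 →
    ∀ r ∈ segRoots i len, r < 48 ∧ barF r ∈ segRoots i len := by decide
theorem seg_sub_LF : ∀ i < 9, ∀ len < 9, i + len ≤ 8 → ∀ r ∈ segRoots i len, r ∈ LF i := by decide
theorem segDim_succ : ∀ i < 9, ∀ len < 9, i + len < 8 →
    segDim i (len + 1) = (1 + i % 2) + segDim (i + 1) len := by decide
theorem cls_sub_seg : ∀ i < 9, ∀ len < 9, i + len < 8 → ∀ r ∈ clsF i, r ∈ segRoots i (len + 1) := by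
  decide
theorem seg_sub_seg : ∀ i < 9, ∀ len < 9, i + len < 8 →
    ∀ r ∈ segRoots (i + 1) len, r ∈ segRoots i (len + 1) := by decide

variable {K : Type*} [Field K] {e : ℕ} {S : SigmaF K e}

/-! ### one class -/

/-- a fixed element of the root closure of a class lies in the twisted group, and is a conjugate of a generator -/
theorem cls_fixed_form (C : CountLeavesF S) (k : ℕ) (hk : k < 8) (x : GL chevF4.Idx K)
    (hx : x ∈ rootClosure chevF4 K (· ∈ classesF.getD k [])) (hfix : S.ext x = x) :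
    ∃ c : K × K × K, x = (envF4 K).hF.nW (wordsF.getD k []) * yForm K e c k *
      ((envF4 K).hF.nW (wordsF.getD k []))⁻¹ := by
  set n := (envF4 K).hF.nW (F := K) (wordsF.getD k []) with hn
  have hnG := C.nW_mem k hk
  have hnF := twistedF4_le_group hnG
  have hxF := rootClosure_le_groupF _ hx
  have hy1 := (C.conj_class k hk x).1 hx
  have hyfix : S.ext (n⁻¹ * x * n) = n⁻¹ * x * n := by
    rw [S.ext_mul (Subgroup.mul_mem _ (Subgroup.inv_mem _ hnF) hxF) hnF,
      S.ext_mul (Subgroup.inv_mem _ hnF) hxF, S.ext_inv hnF, C.G1_fix n hnG, hfix]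
  have hyc : ∃ c : K × K × K, n⁻¹ * x * n = yForm K e c k := by
    unfold fundF at hy1
    unfold yForm
    by_cases hk2 : k % 2 = 0
    · rw [if_pos hk2] at hy1
      obtain ⟨t, ht⟩ := C.fix_J1 _ hy1 hyfix
      exact ⟨(t, 0, 0), by rw [if_pos hk2, ht]⟩
    · rw [if_neg hk2] at hy1
      obtain ⟨t, u, ht⟩ := C.fix_J2 _ hy1 hyfix
      exact ⟨(0, t, u), by rw [if_neg hk2, ht]⟩
  obtain ⟨c, hc⟩ := hyc
  refine ⟨c, ?_⟩
  rw [← hc]; group

theorem conj_yForm_mem (C : CountLeavesF S) (k : ℕ) (hk : k < 8) (c : K × K × K) :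
    (envF4 K).hF.nW (wordsF.getD k []) * yForm K e c k * ((envF4 K).hF.nW (wordsF.getD k []))⁻¹ ∈
      rootClosure chevF4 K (· ∈ classesF.getD k []) ⊓ twistedF4 K e := by
  refine Subgroup.mem_inf.mpr ⟨?_, ?_⟩
  · rw [C.conj_class k hk]
    have : ((envF4 K).hF.nW (wordsF.getD k []))⁻¹ * ((envF4 K).hF.nW (wordsF.getD k []) *
        yForm K e c k * ((envF4 K).hF.nW (wordsF.getD k []))⁻¹) *
        (envF4 K).hF.nW (wordsF.getD k []) = yForm K e c k := by group
    rw [this]
    exact yForm_mem _ _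
  · exact Subgroup.mul_mem _ (Subgroup.mul_mem _ (C.nW_mem k hk) (yForm_mem_twisted _ _))
      (Subgroup.inv_mem _ (C.nW_mem k hk))

theorem cls_fixed_mem (C : CountLeavesF S) (k : ℕ) (hk : k < 8) (x : GL chevF4.Idx K)
    (hx : x ∈ rootClosure chevF4 K (· ∈ classesF.getD k [])) (hfix : S.ext x = x) :
    x ∈ twistedF4 K e := by
  obtain ⟨c, rfl⟩ := cls_fixed_form C k hk x hx hfix
  exact (conj_yForm_mem C k hk c).2

/-- the number of fixed points on one class -/
theorem card_cls [Fintype K] (C : CountLeavesF S) (k : ℕ) (hk : k < 8) :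
    Nat.card ↥(rootClosure chevF4 K (· ∈ classesF.getD k []) ⊓ twistedF4 K e) =
      Fintype.card K ^ (1 + k % 2) := by
  classical
  by_cases hk2 : k % 2 = 0
  · let Θ : K → ↥(rootClosure chevF4 K (· ∈ classesF.getD k []) ⊓ twistedF4 K e) := fun t =>
      ⟨_, conj_yForm_mem C k hk (t, 0, 0)⟩
    have hinj : Function.Injective Θ := by
      intro t t' h
      have h1 := congrArg Subtype.val h
      simp only [Θ] at h1
      have h2 := mul_left_cancel (mul_right_cancel h1)
      unfold yForm at h2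
      rw [if_pos hk2, if_pos hk2] at h2
      exact C.pGL_inj _ _ h2
    have hsurj : Function.Surjective Θ := by
      rintro ⟨g, hg, hgG⟩
      obtain ⟨c, hc⟩ := cls_fixed_form C k hk g hg (C.G1_fix g hgG)
      refine ⟨c.1, Subtype.ext ?_⟩
      simp only [Θ]
      rw [hc]
      unfold yForm
      rw [if_pos hk2, if_pos hk2]
    rw [← Nat.card_congr (Equiv.ofBijective Θ ⟨hinj, hsurj⟩), Nat.card_eq_fintype_card, hk2]
    simp
  · let Θ : K × K → ↥(rootClosure chevF4 K (· ∈ classesF.getD k []) ⊓ twistedF4 K e) := fun p =>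
      ⟨_, conj_yForm_mem C k hk (0, p.1, p.2)⟩
    have hinj : Function.Injective Θ := by
      intro p p' h
      have h1 := congrArg Subtype.val h
      simp only [Θ] at h1
      have h2 := mul_left_cancel (mul_right_cancel h1)
      unfold yForm at h2
      rw [if_neg hk2, if_neg hk2] at h2
      obtain ⟨h3, h4⟩ := C.bGL_inj _ _ _ _ h2
      exact Prod.ext h3 h4
    have hsurj : Function.Surjective Θ := by
      rintro ⟨g, hg, hgG⟩
      obtain ⟨c, hc⟩ := cls_fixed_form C k hk g hg (C.G1_fix g hgG)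
      refine ⟨(c.2.1, c.2.2), Subtype.ext ?_⟩
      simp only [Θ]
      rw [hc]
      unfold yForm
      rw [if_neg hk2, if_neg hk2]
    have hk1 : k % 2 = 1 := by omega
    rw [← Nat.card_congr (Equiv.ofBijective Θ ⟨hinj, hsurj⟩), Nat.card_eq_fintype_card,
      Fintype.card_prod, hk1]
    ring

/-! ### splitting off the first class of a segment -/

theorem seg_exists_split (i len : ℕ) (h : i + len < 8) (g : GL chevF4.Idx K)
    (hg : g ∈ rootClosure chevF4 K (· ∈ segRoots i (len + 1))) :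
    ∃ x ∈ rootClosure chevF4 K (· ∈ clsF i), ∃ y ∈ rootClosure chevF4 K (· ∈ segRoots (i + 1) len),
      g = x * y := by
  have hi : i < 9 := by omega
  have hl : len + 1 < 9 := by omega
  obtain ⟨t, _, hc⟩ := (envF4 K).hF.exists_ordProd_gen (envF4 K).hC (envF4 K).hcomm
    (fun r s hr hs => (envF4 K).pos_ne_neg r s hr hs) (segRoots i (len + 1))
    (seg_nodup i hi _ hl (by omega)) (seg_pos i hi _ hl (by omega)) (seg_good i hi _ hl (by omega)) g hg
  rw [seg_split i hi len (by omega) h, ordProd_append] at hc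
  exact ⟨_, (envF4 K).hF.ordProd_mem _ t, _, (envF4 K).hF.ordProd_mem _ t, hc⟩

theorem seg_inter_trivial (i len : ℕ) (h : i + len < 8) (z : GL chevF4.Idx K)
    (hz1 : z ∈ rootClosure chevF4 K (· ∈ clsF i))
    (hz2 : z ∈ rootClosure chevF4 K (· ∈ segRoots (i + 1) len)) : z = 1 :=
  inter_trivial i (by omega) z hz1
    (rootClosure_mono' _ _ (fun r hr => seg_sub_LF (i + 1) (by omega) len (by omega) (by omega) r hr) hz2)

theorem seg_split_unique (i len : ℕ) (h : i + len < 8) (x x' y y' : GL chevF4.Idx K)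
    (hx : x ∈ rootClosure chevF4 K (· ∈ clsF i)) (hx' : x' ∈ rootClosure chevF4 K (· ∈ clsF i))
    (hy : y ∈ rootClosure chevF4 K (· ∈ segRoots (i + 1) len))
    (hy' : y' ∈ rootClosure chevF4 K (· ∈ segRoots (i + 1) len))
    (hxy : x * y = x' * y') : x = x' ∧ y = y' := by
  have e1 : x'⁻¹ * x = y' * y⁻¹ := by
    have : x'⁻¹ * x = x'⁻¹ * (x * y) * y⁻¹ := by group
    rw [this, hxy]; group
  have h1 := seg_inter_trivial i len h (x'⁻¹ * x) (Subgroup.mul_mem _ (Subgroup.inv_mem _ hx') hx)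
    (by rw [e1]; exact Subgroup.mul_mem _ hy' (Subgroup.inv_mem _ hy))
  have hxx : x = x' := by
    have : x = x' * (x'⁻¹ * x) := by group
    rw [this, h1, mul_one]
  refine ⟨hxx, ?_⟩
  rw [hxx] at hxy
  exact mul_left_cancel hxy

/-- the count for a segment, one class at a time -/
theorem card_seg_succ [Fintype K] (C : CountLeavesF S) (i len : ℕ) (h : i + len < 8) :
    Nat.card ↥(rootClosure chevF4 K (· ∈ segRoots i (len + 1)) ⊓ twistedF4 K e) =
      Nat.card ↥(rootClosure chevF4 K (· ∈ classesF.getD i []) ⊓ twistedF4 K e) *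
        Nat.card ↥(rootClosure chevF4 K (· ∈ segRoots (i + 1) len) ⊓ twistedF4 K e) := by
  classical
  have hi : i < 9 := by omega
  have hl : len < 9 := by omega
  let Ψ : ↥(rootClosure chevF4 K (· ∈ classesF.getD i []) ⊓ twistedF4 K e) ×
      ↥(rootClosure chevF4 K (· ∈ segRoots (i + 1) len) ⊓ twistedF4 K e) →
      ↥(rootClosure chevF4 K (· ∈ segRoots i (len + 1)) ⊓ twistedF4 K e) := fun p =>
    ⟨(p.1 : GL chevF4.Idx K) * (p.2 : GL chevF4.Idx K),
      Subgroup.mul_mem _
        (rootClosure_mono' _ _ (fun r hr => cls_sub_seg i hi len hl h r hr) p.1.2.1)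
        (rootClosure_mono' _ _ (fun r hr => seg_sub_seg i hi len hl h r hr) p.2.2.1),
      Subgroup.mul_mem _ p.1.2.2 p.2.2.2⟩
  have hinj : Function.Injective Ψ := by
    rintro ⟨⟨x, hx, hxG⟩, ⟨y, hy, hyG⟩⟩ ⟨⟨x', hx', hxG'⟩, ⟨y', hy', hyG'⟩⟩ hΨ
    have h1 : x * y = x' * y' := congrArg Subtype.val hΨ
    obtain ⟨rfl, rfl⟩ := seg_split_unique i len h x x' y y' hx hx' hy hy' h1
    rfl
  have hsurj : Function.Surjective Ψ := by
    rintro ⟨g, hg, hgG⟩
    obtain ⟨x, hx, y, hy, rfl⟩ := seg_exists_split i len h g hg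
    obtain ⟨hxF, hσx⟩ := ext_rootClosure S (clsF i) (clsF_bar i (by omega)) x hx
    obtain ⟨hyF, hσy⟩ := ext_rootClosure S (segRoots (i + 1) len)
      (seg_bar (i + 1) (by omega) len hl (by omega)) y hy
    have hfix := C.G1_fix _ hgG
    rw [S.ext_mul hxF hyF] at hfix
    obtain ⟨h1, h2⟩ := seg_split_unique i len h _ _ _ _ hσx hx hσy hy hfix
    have hxG : x ∈ twistedF4 K e := cls_fixed_mem C i (by omega) x hx h1
    have hyG : y ∈ twistedF4 K e := by
      have : y = x⁻¹ * (x * y) := by group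
      rw [this]
      exact Subgroup.mul_mem _ (Subgroup.inv_mem _ hxG) hgG
    exact ⟨⟨⟨x, hx, hxG⟩, ⟨y, hy, hyG⟩⟩, rfl⟩
  rw [← Nat.card_congr (Equiv.ofBijective Ψ ⟨hinj, hsurj⟩), Nat.card_prod]

/-- K-2F4-O4. -/
theorem card_seg [Fintype K] (C : CountLeavesF S) (he : e ≠ 0) (i len : ℕ) (h : i + len ≤ 8) :
    Nat.card ↥(rootClosure chevF4 K (· ∈ segRoots i len) ⊓ twistedF4 K e) =
      Fintype.card K ^ segDim i len := by
  induction len generalizing i with
  | zero =>
    have h0 : rootClosure chevF4 K (· ∈ segRoots i 0) = ⊥ := by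
      unfold rootClosure
      rw [Subgroup.closure_eq_bot_iff]
      rintro x ⟨s, u, hs, _⟩
      simp [segRoots] at hs
    rw [h0, bot_inf_eq]
    simp [segDim]
  | succ len ih =>
    have hi : i < 9 := by omega
    have hl : len < 9 := by omega
    rw [card_seg_succ C i len (by omega), card_cls C i (by omega), ih (i + 1) (by omega),
      segDim_succ i hi len hl (by omega), ← pow_add]

end Cfsg.Agent.Lib.Helper76.F4O
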