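import Cfsg.Agent.Lib.Helper76.F4OrderDefs
import Cfsg.Agent.Lib.Helper33.F4BN

/-!
# K-2F4-O3 (keystone 106802): `U_w⁻` is the root closure of the inversion segment
-/

set_option autoImplicit false
set_option maxRecDepth 100000

namespace Cfsg.Agent.Lib.Helper76.F4O

open Cfsg.Lie Cfsg.Agent.Lib.Helper24 Cfsg.Agent.Lib.Helper33.F4 Cfsg.Agent.Lib.Helper33.TwBN

variable {K : Type*} [Field K]

theorem seg_lt : ∀ j < 16, ∀ r ∈ segRoots (segStart j) (segLen j), r < 48 := by decide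

/-- `NegSet (n_w) r ↔ w r < 0` -/
theorem negSet_nW_iff (w : List ℕ) (hw : ∀ i ∈ w, i < 4) (r : ℕ) (hr : r < 48) :
    NegSet chevF4 K ((envF4 K).hF.nW w) r ↔ rhoW chevF4 w r < 24 := by
  obtain ⟨η, hη, hconj⟩ := (envF4 K).hF.nW_conj (F := K) (envF4 K).hN w hw r hr
  have hlt : rhoW chevF4 w r < 48 := (envF4 K).hN.rhoW_lt w hw r hr
  constructor
  · intro h
    by_contra hge
    rw [not_lt] at hge
    have h1 : (envF4 K).hF.nW w * (envF4 K).hF.xGL r (1 : K) * ((envF4 K).hF.nW w)⁻¹ ∈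
        chevF4.negUnipotent K := by
      apply h
      refine ⟨(envF4 K).hF.xGL r 1, Subgroup.subset_closure ⟨1, (envF4 K).hF.xGL_val r 1⟩, ?_⟩
      simp [MulAut.conj_apply]
    rw [hconj, mul_one] at h1
    have h2 : (envF4 K).hF.xGL (rhoW chevF4 w r) (η : K) ∈ chevF4.borelSubgroup K :=
      pos_le_borel chevF4 K (xF_mem_pos _ ⟨hge, hlt⟩ _)
    have h3 : (envF4 K).hF.xGL (rhoW chevF4 w r) (η : K) ∈
        chevF4.borelSubgroup K ⊓ chevF4.negUnipotent K := ⟨h2, h1⟩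
    rw [(envF4 K).hF.borel_inf_neg.1, Subgroup.mem_bot] at h3
    have h4 := (envF4 K).hF.xGL_eq_one (envF4 K).hNe _ hlt _ h3
    rcases hη with h' | h' <;> rw [h'] at h4 <;> simp at h4
  · intro h
    rintro y ⟨z, hz, rfl⟩
    obtain ⟨t, rfl⟩ := (envF4 K).hF.exists_of_mem_rootSubgroup r z hz
    simp only [MulEquiv.coe_toMonoidHom, MulAut.conj_apply]
    rw [hconj]
    exact xF_mem_neg _ h _

/-- K-2F4-O3. -/
theorem Un_eq (j : ℕ) (hj : j < 16) :
    Un chevF4 K ((envF4 K).hF.nW (wordsW.getD j [])) =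
      rootClosure chevF4 K (· ∈ segRoots (segStart j) (segLen j)) := by
  unfold Un
  apply le_antisymm
  · apply rootClosure_mono
    rintro r ⟨hpos, hneg⟩
    obtain ⟨h24, h48⟩ := (isPos_iff r).1 hpos
    exact (inv_check j hj r h48).1
      ⟨h24, (negSet_nW_iff _ (wordsW_lt j hj) r h48).1 hneg⟩
  · apply rootClosure_mono
    intro r hr
    have h48 := seg_lt j hj r hr
    obtain ⟨h24, hlt⟩ := (inv_check j hj r h48).2 hr
    exact ⟨(isPos_iff r).2 ⟨h24, h48⟩, (negSet_nW_iff _ (wordsW_lt j hj) r h48).2 hlt⟩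

end Cfsg.Agent.Lib.Helper76.F4O
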