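import Cfsg.Agent.Lib.Helper76.ChevTorusCard
import Cfsg.Prelude.Def_LieTypes
import Cfsg.Prelude.Def_ChevB2
import Cfsg.Prelude.Def_ChevD4

/-!
# Smith decompositions of the Cartan matrices of the seven tabulated Chevalley data
-/

set_option autoImplicit false

namespace Cfsg.Agent.Lib.Helper76.ChevTorus

open Cfsg.Lie Cfsg.Agent.Lib.Helper24 Cfsg.Agent.Lib.Helper76.MonomialAct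

/-- entry of a table -/
def gt (M : List (List ℤ)) (i j : ℕ) : ℤ := (M.getD i []).getD j 0

/-- tables for a Smith decomposition -/
structure CertTab where
  X : List (List ℤ)
  U : List (List ℤ)
  Ui : List (List ℤ)
  V : List (List ℤ)
  Vi : List (List ℤ)
  d : List ℕ

def lsum (n : ℕ) (f : ℕ → ℤ) : ℤ := ((List.range n).map f).sum

theorem lsum_eq (n : ℕ) (f : ℕ → ℤ) : lsum n f = ∑ j : Fin n, f j := list_range_sum f n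

/-- the table check -/
def certOK (D : ChevalleyDatum) (C : CertTab) : Bool :=
  ((List.range D.rank).all fun j => decide (D.simple j < D.nroots)) &&
  ((List.range D.rank).all fun i => (List.range D.nroots).all fun s =>
    decide (D.cartan i s = lsum D.rank fun j => D.cartan i (D.simple j) * gt C.X j s)) &&
  ((List.range D.rank).all fun i => (List.range D.rank).all fun k =>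
    decide (D.cartan i (D.simple k) =
      lsum D.rank fun j => gt C.Ui i j * (((C.d.getD j 0 : ℕ) : ℤ) * gt C.Vi j k)) &&
    decide (lsum D.rank (fun j => gt C.Ui i j * gt C.U j k) = if i = k then 1 else 0) &&
    decide (lsum D.rank (fun j => gt C.U i j * gt C.Ui j k) = if i = k then 1 else 0) &&
    decide (lsum D.rank (fun j => gt C.Vi i j * gt C.V j k) = if i = k then 1 else 0))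

/-- the Smith data attached to a verified table -/
def smithOfCert (D : ChevalleyDatum) (C : CertTab) (h : certOK D C = true) :
    SmithData D.rank D.nroots (cart D) where
  sel := D.simple
  X := gt C.X
  U := gt C.U
  Ui := gt C.Ui
  V := gt C.V
  Vi := gt C.Vi
  d := fun j => C.d.getD j 0
  sel_lt := by
    simp only [certOK, Bool.and_eq_true, List.all_eq_true, List.mem_range, decide_eq_true_eq] at h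
    exact h.1.1
  hX := by
    simp only [certOK, Bool.and_eq_true, List.all_eq_true, List.mem_range, decide_eq_true_eq] at h
    intro i hi s hs
    have := h.1.2 i hi s hs
    rw [lsum_eq] at this
    exact this
  hS := by
    simp only [certOK, Bool.and_eq_true, List.all_eq_true, List.mem_range, decide_eq_true_eq] at h
    intro i hi k hk
    have := (h.2 i hi k hk).1.1.1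
    rw [lsum_eq] at this
    exact this
  hU1 := by
    simp only [certOK, Bool.and_eq_true, List.all_eq_true, List.mem_range, decide_eq_true_eq] at h
    intro i hi k hk
    have := (h.2 i hi k hk).1.1.2
    rw [lsum_eq] at this
    exact this
  hU2 := by
    simp only [certOK, Bool.and_eq_true, List.all_eq_true, List.mem_range, decide_eq_true_eq] at h
    intro i hi k hk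
    have := (h.2 i hi k hk).1.2
    rw [lsum_eq] at this
    exact this
  hV := by
    simp only [certOK, Bool.and_eq_true, List.all_eq_true, List.mem_range, decide_eq_true_eq] at h
    intro i hi k hk
    have := (h.2 i hi k hk).2
    rw [lsum_eq] at this
    exact this

theorem smithOfCert_d (D : ChevalleyDatum) (C : CertTab) (h : certOK D C = true) (j : ℕ) :
    (smithOfCert D C h).d j = C.d.getD j 0 := rfl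

def certG2 : CertTab where
  X := [[-3, -3, -2, -1, -1, 0, 0, 1, 1, 2, 3, 3], [-2, -1, -1, -1, 0, -1, 1, 0, 1, 1, 1, 2]]
  U := [[0, -1], [1, 2]]
  Ui := [[2, 1], [-1, 0]]
  V := [[1, 2], [0, 1]]
  Vi := [[1, -2], [0, 1]]
  d := [1, 1]

theorem certOK_G2 : certOK chevG2 certG2 = true := by decide +kernel

def certB2 : CertTab where
  X := [[-2, -1, -1, 0, 0, 1, 1, 2], [-1, -1, 0, -1, 1, 0, 1, 1]]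
  U := [[0, -1], [1, 2]]
  Ui := [[2, 1], [-1, 0]]
  V := [[1, 2], [0, 1]]
  Vi := [[1, -2], [0, 1]]
  d := [1, 2]

theorem certOK_B2 : certOK chevB2 certB2 = true := by decide +kernel

def certD4 : CertTab where
  X := [[-1, -1, -1, -1, -1, -1, 0, 0, 0, 0, 0, 0, 0, 0, 0, 0, 0, 0, 1, 1, 1, 1, 1, 1], [-2, -1, -1, -1, -1, 0, -1, -1, -1, -1, 0, 0, 0, 0, 1, 1, 1, 1, 0, 1, 1, 1, 1, 2], [-1, -1, -1, 0, 0, 0, -1, -1, 0, 0, -1, 0, 0, 1, 0, 0, 1, 1, 0, 0, 0, 1, 1, 1], [-1, -1, 0, -1, 0, 0, -1, 0, -1, 0, 0, -1, 1, 0, 0, 1, 0, 1, 0, 0, 1, 0, 1, 1]]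
  U := [[-1, 0, 0, 0], [-2, -1, 0, 0], [-3, -2, -1, 0], [2, 2, 1, 1]]
  Ui := [[-1, 0, 0, 0], [2, -1, 0, 0], [-1, 2, -1, 0], [-1, 0, 1, 1]]
  V := [[0, 0, 0, 1], [1, 0, 0, 2], [0, 1, -1, 1], [0, 0, 1, 2]]
  Vi := [[-2, 1, 0, 0], [-3, 0, 1, 1], [-2, 0, 0, 1], [1, 0, 0, 0]]
  d := [1, 1, 2, 2]

theorem certOK_D4 : certOK chevD4 certD4 = true := by decide +kernel

def certF4 : CertTab where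
  X := [[-2, -2, -2, -2, -2, -2, -2, -1, -1, -1, -1, -1, -1, -1, -1, 0, 0, 0, 0, 0, 0, 0, 0, 0, 0, 0, 0, 0, 0, 0, 0, 0, 0, 1, 1, 1, 1, 1, 1, 1, 1, 2, 2, 2, 2, 2, 2, 2], [-4, -4, -4, -3, -2, -2, -2, -3, -2, -2, -2, -1, -1, -1, 0, -2, -2, -2, -1, -1, -1, 0, 0, 0, 0, 0, 0, 1, 1, 1, 2, 2, 2, 0, 1, 1, 1, 2, 2, 2, 3, 2, 2, 2, 3, 4, 4, 4], [-3, -3, -2, -2, -2, -1, -1, -2, -2, -1, -1, -1, -1, 0, 0, -2, -1, -1, -1, -1, 0, -1, -1, 0, 0, 1, 1, 0, 1, 1, 1, 1, 2, 0, 0, 1, 1, 1, 1, 2, 2, 1, 1, 2, 2, 2, 3, 3], [-2, -1, -1, -1, -1, -1, 0, -1, -1, -1, 0, -1, 0, 0, 0, -1, -1, 0, -1, 0, 0, -1, 0, -1, 1, 0, 1, 0, 0, 1, 0, 1, 1, 0, 0, 0, 1, 0, 1, 1, 1, 0, 1, 1, 1, 1, 1, 2]]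
  U := [[-1, 0, 0, 0], [1, 0, -1, 0], [-2, -1, 0, 0], [-2, -2, -2, -1]]
  Ui := [[-1, 0, 0, 0], [2, 0, -1, 0], [-1, -1, 0, 0], [0, 2, 2, -1]]
  V := [[0, 0, 1, -2], [1, 0, 2, -4], [0, 0, 2, -3], [0, 1, 2, -2]]
  Vi := [[-2, 1, 0, 0], [2, 0, -2, 1], [-3, 0, 2, 0], [-2, 0, 1, 0]]
  d := [1, 1, 1, 1]

theorem certOK_F4 : certOK chevF4 certF4 = true := by decide +kernel

def certE6 : CertTab where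
  X := [[-1, -1, -1, -1, -1, -1, -1, -1, -1, -1, -1, -1, -1, -1, -1, -1, 0, 0, 0, 0, 0, 0, 0, 0, 0, 0, 0, 0, 0, 0, 0, 0, 0, 0, 0, 0, 0, 0, 0, 0, 0, 0, 0, 0, 0, 0, 0, 0, 0, 0, 0, 0, 0, 0, 0, 0, 1, 1, 1, 1, 1, 1, 1, 1, 1, 1, 1, 1, 1, 1, 1, 1], [-2, -1, -1, -1, -1, -1, -1, -1, -1, -1, -1, 0, 0, 0, 0, 0, -1, -1, -1, -1, -1, -1, -1, -1, -1, -1, 0, 0, 0, 0, 0, 0, 0, 0, 0, 0, 0, 0, 0, 0, 0, 0, 0, 0, 0, 0, 1, 1, 1, 1, 1, 1, 1, 1, 1, 1, 0, 0, 0, 0, 0, 1, 1, 1, 1, 1, 1, 1, 1, 1, 1, 2], [-2, -2, -2, -2, -2, -1, -1, -1, -1, -1, -1, -1, -1, -1, -1, 0, -1, -1, -1, -1, -1, -1, 0, 0, 0, 0, -1, -1, -1, -1, 0, 0, 0, 0, 0, 0, 0, 0, 0, 0, 0, 0, 1, 1, 1, 1, 0, 0, 0, 0, 1, 1, 1, 1, 1, 1, 0, 1, 1, 1, 1, 1, 1, 1, 1, 1, 1, 2, 2, 2, 2, 2], [-3, -3, -2, -2,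 -2, -2, -2, -2, -1, -1, -1, -1, -1, -1, 0, 0, -2, -2, -2, -1, -1, -1, -1, -1, -1, 0, -1, -1, -1, 0, -1, -1, -1, 0, 0, 0, 0, 0, 0, 1, 1, 1, 0, 1, 1, 1, 0, 1, 1, 1, 1, 1, 1, 2, 2, 2, 0, 0, 1, 1, 1, 1, 1, 1, 2, 2, 2, 2, 2, 2, 3, 3], [-2, -2, -2, -1, -1, -2, -1, -1, -1, -1, 0, -1, -1, 0, 0, 0, -2, -1, -1, -1, -1, 0, -1, -1, 0, 0, -1, -1, 0, 0, -1, -1, 0, -1, -1, 0, 0, 1, 1, 0, 1, 1, 0, 0, 1, 1, 0, 0, 1, 1, 0, 1, 1, 1, 1, 2, 0, 0, 0, 1, 1, 0, 1, 1, 1, 1, 2, 1, 1, 2, 2, 2], [-1, -1, -1, -1, 0, -1, -1, 0, -1, 0, 0, -1, 0, 0, 0, 0, -1, -1, 0, -1, 0, 0, -1, 0, 0, 0, -1, 0, 0, 0, -1, 0, 0, -1, 0, -1, 1, 0, 1, 0, 0, 1, 0, 0, 0, 1, 0, 0, 0, 1, 0, 0, 1, 0, 1, 1, 0, 0, 0, 0, 1, 0, 0, 1, 0, 1, 1, 0, 1, 1, 1, 1]]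
  U := [[-1, 0, 0, 0, 0, 0], [0, -1, 0, 0, 0, 0], [1, -2, 0, -1, 0, 0], [2, -3, 0, -2, -1, 0], [-2, 1, -1, 0, 0, 0], [-5, 0, -4, -3, -2, -1]]
  Ui := [[-1, 0, 0, 0, 0, 0], [0, -1, 0, 0, 0, 0], [2, -1, 0, 0, -1, 0], [-1, 2, -1, 0, 0, 0], [0, -1, 2, -1, 0, 0], [0, 0, -1, 2, 4, -1]]
  V := [[0, 0, 0, 0, 1, -2], [0, 0, 0, 0, 2, -3], [1, 0, 0, 0, 2, -4], [0, 1, 0, 0, 4, -6], [0, 0, 1, 0, 4, -5], [0, 0, 0, 1, 4, -4]]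
  Vi := [[-2, 0, 1, 0, 0, 0], [0, -2, 0, 1, 0, 0], [2, -3, 0, 0, 1, 0], [4, -4, 0, 0, 0, 1], [-3, 2, 0, 0, 0, 0], [-2, 1, 0, 0, 0, 0]]
  d := [1, 1, 1, 1, 1, 3]

theorem certOK_E6 : certOK chevE6 certE6 = true := by decide +kernel

def certE7 : CertTab where
  X := [[-2, -1, -1, -1, -1, -1, -1, -1, -1, -1, -1, -1, -1, -1, -1, -1, -1, -1, -1, -1, -1, -1, -1, -1, -1, -1, -1, -1, -1, -1, -1, -1, -1, 0, 0, 0, 0, 0, 0, 0, 0, 0, 0, 0, 0, 0, 0, 0, 0, 0, 0, 0, 0, 0, 0, 0, 0, 0, 0, 0, 0, 0, 0, 0, 0, 0, 0, 0, 0, 0, 0, 0, 0, 0, 0, 0, 0, 0, 0, 0, 0, 0, 0, 0, 0, 0, 0, 0, 0, 0, 0, 0, 0, 1, 1, 1, 1, 1, 1, 1, 1, 1, 1, 1, 1, 1, 1, 1, 1, 1, 1, 1, 1, 1, 1, 1, 1, 1, 1, 1, 1, 1, 1, 1, 1, 2], [-2, -2, -2, -2, -2, -2, -2, -1, -1, -1, -1, -1, -1, -1, -1,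 -1, -1, -1, -1, -1, -1, -1, -1, -1, -1, -1, -1, 0, 0, 0, 0, 0, 0, -1, -1, -1, -1, -1, -1, -1, -1, -1, -1, -1, -1, -1, -1, -1, 0, 0, 0, 0, 0, 0, 0, 0, 0, 0, 0, 0, 0, 0, 0, 0, 0, 0, 0, 0, 0, 0, 0, 0, 0, 0, 0, 0, 0, 0, 1, 1, 1, 1, 1, 1, 1, 1, 1, 1, 1, 1, 1, 1, 1, 0, 0, 0, 0, 0, 0, 1, 1, 1, 1, 1, 1, 1, 1, 1, 1, 1, 1, 1, 1, 1, 1, 1, 1, 1, 1, 2, 2, 2, 2, 2, 2, 2], [-3, -3, -2, -2, -2, -2, -2, -2, -2, -2, -2, -2, -2, -2, -2, -2, -2, -1, -1, -1, -1, -1, -1, -1, -1, -1, -1, -1, -1, -1, -1, -1, 0, -1, -1, -1, -1, -1, -1, -1, -1, -1, -1, 0, 0, 0, 0, 0, -1, -1, -1, -1, -1, 0, 0, 0, 0, 0, 0, 0, 0, 0, 0, 0, 0, 0, 0, 0, 0, 0, 0, 0, 0, 1, 1, 1, 1, 1, 0, 0, 0, 0, 0, 1, 1, 1, 1, 1, 1, 1, 1, 1, 1, 0, 1, 1, 1, 1, 1, 1, 1, 1, 1, 1, 1, 1, 1, 1, 1, 2,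 2, 2, 2, 2, 2, 2, 2, 2, 2, 2, 2, 2, 2, 2, 3, 3], [-4, -4, -4, -3, -3, -3, -3, -3, -3, -3, -3, -2, -2, -2, -2, -2, -2, -2, -2, -2, -2, -2, -2, -1, -1, -1, -1, -1, -1, -1, -1, 0, 0, -2, -2, -2, -2, -2, -2, -1, -1, -1, -1, -1, -1, -1, -1, 0, -1, -1, -1, -1, 0, -1, -1, -1, -1, 0, 0, 0, 0, 0, 0, 0, 0, 0, 0, 0, 0, 1, 1, 1, 1, 0, 1, 1, 1, 1, 0, 1, 1, 1, 1, 1, 1, 1, 1, 2, 2, 2, 2, 2, 2, 0, 0, 1, 1, 1, 1, 1, 1, 1, 1, 2, 2, 2, 2, 2, 2, 2, 2, 2, 2, 2, 2, 3, 3, 3, 3, 3, 3, 3, 3, 4, 4, 4], [-3, -3, -3, -3, -2, -2, -2, -3, -2, -2, -2, -2, -2, -2, -1, -1, -1, -2, -2, -2, -1, -1, -1, -1, -1, -1, 0, -1, -1, -1, 0, 0, 0, -2, -2, -2, -1, -1, -1, -1, -1, -1, 0, -1, -1, -1, 0, 0, -1, -1, -1, 0, 0, -1, -1, -1, 0, -1, -1, -1, 0, 0, 0, 0, 0, 0, 1, 1, 1,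 0, 1, 1, 1, 0, 0, 1, 1, 1, 0, 0, 1, 1, 1, 0, 1, 1, 1, 1, 1, 1, 2, 2, 2, 0, 0, 0, 1, 1, 1, 0, 1, 1, 1, 1, 1, 1, 2, 2, 2, 1, 1, 1, 2, 2, 2, 2, 2, 2, 3, 2, 2, 2, 3, 3, 3, 3], [-2, -2, -2, -2, -2, -1, -1, -2, -2, -1, -1, -2, -1, -1, -1, -1, 0, -2, -1, -1, -1, -1, 0, -1, -1, 0, 0, -1, -1, 0, 0, 0, 0, -2, -1, -1, -1, -1, 0, -1, -1, 0, 0, -1, -1, 0, 0, 0, -1, -1, 0, 0, 0, -1, -1, 0, 0, -1, -1, 0, -1, -1, 0, 0, 1, 1, 0, 1, 1, 0, 0, 1, 1, 0, 0, 0, 1, 1, 0, 0, 0, 1, 1, 0, 0, 1, 1, 0, 1, 1, 1, 1, 2, 0, 0, 0, 0, 1, 1, 0, 0, 1, 1, 0, 1, 1, 1, 1, 2, 0, 1, 1, 1, 1, 2, 1, 1, 2, 2, 1, 1, 2, 2, 2, 2, 2], [-1, -1, -1, -1, -1, -1, 0, -1, -1, -1, 0, -1, -1, 0, -1, 0, 0, -1, -1, 0, -1, 0, 0, -1, 0, 0, 0, -1, 0, 0, 0, 0, 0, -1, -1, 0, -1, 0, 0, -1, 0,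 0, 0, -1, 0, 0, 0, 0, -1, 0, 0, 0, 0, -1, 0, 0, 0, -1, 0, 0, -1, 0, -1, 1, 0, 1, 0, 0, 1, 0, 0, 0, 1, 0, 0, 0, 0, 1, 0, 0, 0, 0, 1, 0, 0, 0, 1, 0, 0, 1, 0, 1, 1, 0, 0, 0, 0, 0, 1, 0, 0, 0, 1, 0, 0, 1, 0, 1, 1, 0, 0, 1, 0, 1, 1, 0, 1, 1, 1, 0, 1, 1, 1, 1, 1, 1]]
  U := [[-1, 0, 0, 0, 0, 0, 0], [0, -1, 0, 0, 0, 0, 0], [1, -2, 0, -1, 0, 0, 0], [2, -3, 0, -2, -1, 0, 0], [3, -4, 0, -3, -2, -1, 0], [-2, 1, -1, 0, 0, 0, 0], [-4, -1, -4, -4, -3, -2, -1]]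
  Ui := [[-1, 0, 0, 0, 0, 0, 0], [0, -1, 0, 0, 0, 0, 0], [2, -1, 0, 0, 0, -1, 0], [-1, 2, -1, 0, 0, 0, 0], [0, -1, 2, -1, 0, 0, 0], [0, 0, -1, 2, -1, 0, 0], [0, 0, 0, -1, 2, 4, -1]]
  V := [[0, 0, 0, 0, 0, 1, -2], [0, 0, 0, 0, 0, 2, -3], [1, 0, 0, 0, 0, 2, -4], [0, 1, 0, 0, 0, 4, -6], [0, 0, 1, 0, 0, 4, -5], [0, 0, 0, 1, 0, 4, -4], [0, 0, 0, 0, 1, 4, -3]]
  Vi := [[-2, 0, 1, 0, 0, 0, 0], [0, -2, 0, 1, 0, 0, 0], [2, -3, 0, 0, 1, 0, 0], [4, -4, 0, 0, 0, 1, 0], [6, -5, 0, 0, 0, 0, 1], [-3, 2, 0, 0, 0, 0, 0], [-2, 1, 0, 0, 0, 0, 0]]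
  d := [1, 1, 1, 1, 1, 1, 2]

theorem certOK_E7 : certOK chevE7 certE7 = true := by decide +kernel

set_option maxHeartbeats 4000000 in
def certE8 : CertTab where
  X := [[-2, -2, -2, -2, -2, -2, -2, -2, -2, -2, -2, -2, -2, -2, -1, -1, -1, -1, -1, -1, -1, -1, -1, -1, -1, -1, -1, -1, -1, -1, -1, -1, -1, -1, -1, -1, -1, -1, -1, -1, -1, -1, -1, -1, -1, -1, -1, -1, -1, -1, -1, -1, -1, -1, -1, -1, -1, -1, -1, -1, -1, -1, -1, -1, -1, -1, -1, -1, -1, -1, -1, -1, -1, -1, -1, -1, -1, -1, 0, 0, 0, 0, 0, 0, 0, 0, 0, 0, 0, 0, 0, 0, 0, 0, 0, 0, 0, 0, 0, 0, 0, 0, 0, 0, 0, 0, 0, 0, 0, 0, 0, 0, 0, 0, 0, 0, 0, 0, 0, 0, 0, 0, 0, 0, 0, 0, 0, 0, 0, 0, 0, 0, 0, 0, 0, 0, 0, 0, 0, 0, 0, 0, 0, 0, 0, 0, 0, 0, 0, 0, 0, 0, 0, 0, 0, 0, 0, 0, 0, 0, 0, 0, 1,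 1, 1, 1, 1, 1, 1, 1, 1, 1, 1, 1, 1, 1, 1, 1, 1, 1, 1, 1, 1, 1, 1, 1, 1, 1, 1, 1, 1, 1, 1, 1, 1, 1, 1, 1, 1, 1, 1, 1, 1, 1, 1, 1, 1, 1, 1, 1, 1, 1, 1, 1, 1, 1, 1, 1, 1, 1, 1, 1, 1, 1, 1, 1, 2, 2, 2, 2, 2, 2, 2, 2, 2, 2, 2, 2, 2, 2], [-3, -3, -3, -3, -3, -3, -3, -2, -2, -2, -2, -2, -2, -2, -3, -2, -2, -2, -2, -2, -2, -2, -2, -2, -2, -2, -2, -2, -2, -2, -2, -2, -2, -2, -2, -2, -1, -1, -1, -1, -1, -1, -1, -1, -1, -1, -1, -1, -1, -1, -1, -1, -1, -1, -1, -1, -1, -1, -1, -1, -1, -1, -1, -1, -1, -1, -1, -1, -1, -1, -1, 0, 0, 0, 0, 0, 0, 0, -1, -1, -1, -1, -1, -1, -1, -1, -1, -1, -1, -1, -1, -1, -1, -1, -1, -1, -1, -1, -1, 0, 0, 0, 0, 0, 0, 0, 0, 0, 0, 0, 0, 0, 0, 0, 0, 0, 0, 0, 0, 0, 0, 0, 0, 0, 0, 0, 0, 0, 0, 0, 0, 0, 0, 0, 0, 0, 0, 0,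 0, 0, 0, 1, 1, 1, 1, 1, 1, 1, 1, 1, 1, 1, 1, 1, 1, 1, 1, 1, 1, 1, 1, 1, 0, 0, 0, 0, 0, 0, 0, 1, 1, 1, 1, 1, 1, 1, 1, 1, 1, 1, 1, 1, 1, 1, 1, 1, 1, 1, 1, 1, 1, 1, 1, 1, 1, 1, 1, 1, 1, 1, 1, 1, 1, 1, 2, 2, 2, 2, 2, 2, 2, 2, 2, 2, 2, 2, 2, 2, 2, 2, 2, 2, 2, 2, 2, 3, 2, 2, 2, 2, 2, 2, 2, 3, 3, 3, 3, 3, 3, 3], [-4, -4, -4, -4, -4, -4, -3, -4, -3, -3, -3, -3, -3, -3, -3, -3, -3, -3, -3, -3, -3, -2, -2, -2, -2, -2, -2, -2, -2, -2, -2, -2, -2, -2, -2, -2, -2, -2, -2, -2, -2, -2, -2, -2, -2, -2, -2, -2, -2, -2, -2, -2, -2, -2, -2, -2, -1, -1, -1, -1, -1, -1, -1, -1, -1, -1, -1, -1, -1, -1, -1, -1, -1, -1, -1, -1, -1, 0, -1, -1, -1, -1, -1, -1, -1, -1, -1, -1, -1, -1, -1, -1, -1, 0, 0, 0, 0, 0, 0, -1, -1, -1, -1, -1, -1, 0, 0, 0, 0, 0, 0,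 0, 0, 0, 0, 0, 0, 0, 0, 0, 0, 0, 0, 0, 0, 0, 0, 0, 0, 0, 0, 0, 0, 0, 0, 1, 1, 1, 1, 1, 1, 0, 0, 0, 0, 0, 0, 1, 1, 1, 1, 1, 1, 1, 1, 1, 1, 1, 1, 1, 1, 1, 0, 1, 1, 1, 1, 1, 1, 1, 1, 1, 1, 1, 1, 1, 1, 1, 1, 1, 1, 1, 1, 1, 2, 2, 2, 2, 2, 2, 2, 2, 2, 2, 2, 2, 2, 2, 2, 2, 2, 2, 2, 2, 2, 2, 2, 2, 2, 2, 2, 2, 2, 2, 2, 2, 2, 2, 2, 3, 3, 3, 3, 3, 3, 3, 3, 3, 3, 3, 3, 3, 4, 3, 4, 4, 4, 4, 4, 4], [-6, -6, -6, -6, -6, -5, -5, -5, -5, -4, -4, -4, -4, -4, -5, -5, -4, -4, -4, -4, -4, -4, -4, -4, -4, -4, -3, -3, -3, -3, -3, -3, -3, -3, -3, -3, -3, -3, -3, -3, -3, -3, -3, -3, -3, -3, -2, -2, -2, -2, -2, -2, -2, -2, -2, -2, -2, -2, -2, -2, -2, -2, -2, -2, -2, -2, -1, -1, -1, -1, -1, -1, -1, -1, -1, -1, 0, 0, -2, -2, -2, -2, -2, -2, -2, -2, -2, -2,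 -1, -1, -1, -1, -1, -1, -1, -1, -1, -1, 0, -1, -1, -1, -1, -1, 0, -1, -1, -1, -1, -1, 0, 0, 0, 0, 0, 0, 0, 0, 0, 0, 0, 0, 0, 0, 0, 0, 0, 0, 0, 0, 1, 1, 1, 1, 1, 0, 1, 1, 1, 1, 1, 0, 1, 1, 1, 1, 1, 1, 1, 1, 1, 1, 2, 2, 2, 2, 2, 2, 2, 2, 2, 2, 0, 0, 1, 1, 1, 1, 1, 1, 1, 1, 1, 1, 2, 2, 2, 2, 2, 2, 2, 2, 2, 2, 2, 2, 2, 2, 2, 2, 2, 2, 2, 2, 3, 3, 3, 3, 3, 3, 3, 3, 3, 3, 3, 3, 3, 3, 3, 3, 3, 3, 3, 3, 4, 4, 4, 4, 4, 4, 4, 4, 4, 4, 5, 5, 4, 4, 4, 4, 4, 5, 5, 5, 5, 6, 6, 6, 6, 6], [-5, -5, -5, -5, -4, -4, -4, -4, -4, -4, -3, -3, -3, -3, -4, -4, -4, -3, -3, -3, -3, -4, -3, -3, -3, -3, -3, -3, -3, -3, -2, -2, -2, -2, -2, -2, -3, -3, -3, -3, -2, -2, -2, -2, -2, -2, -2, -2, -2, -2, -2, -2, -1, -1, -1, -1, -2, -2, -2, -2, -2, -2, -1, -1, -1, -1,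 -1, -1, -1, -1, 0, -1, -1, -1, -1, 0, 0, 0, -2, -2, -2, -2, -2, -2, -1, -1, -1, -1, -1, -1, -1, -1, 0, -1, -1, -1, -1, 0, 0, -1, -1, -1, -1, 0, 0, -1, -1, -1, -1, 0, -1, -1, -1, -1, 0, 0, 0, 0, 0, 0, 0, 0, 0, 0, 0, 0, 1, 1, 1, 1, 0, 1, 1, 1, 1, 0, 0, 1, 1, 1, 1, 0, 0, 1, 1, 1, 1, 0, 1, 1, 1, 1, 1, 1, 1, 1, 2, 2, 2, 2, 2, 2, 0, 0, 0, 1, 1, 1, 1, 0, 1, 1, 1, 1, 1, 1, 1, 1, 2, 2, 2, 2, 2, 2, 1, 1, 1, 1, 2, 2, 2, 2, 2, 2, 2, 2, 2, 2, 2, 2, 3, 3, 3, 3, 2, 2, 2, 2, 2, 2, 3, 3, 3, 3, 3, 3, 3, 3, 4, 3, 3, 3, 3, 4, 4, 4, 3, 3, 3, 3, 4, 4, 4, 4, 4, 4, 5, 5, 5, 5], [-4, -4, -4, -3, -3, -3, -3, -3, -3, -3, -3, -2, -2, -2, -3, -3, -3, -3, -2, -2, -2, -3, -3, -2, -2, -2, -3, -2, -2, -2, -2, -2, -2, -1, -1, -1, -3, -2, -2, -2, -2, -2, -2, -1, -1,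 -1, -2, -2, -2, -1, -1, -1, -1, -1, -1, 0, -2, -2, -2, -1, -1, -1, -1, -1, -1, 0, -1, -1, -1, 0, 0, -1, -1, -1, 0, 0, 0, 0, -2, -2, -2, -1, -1, -1, -1, -1, -1, 0, -1, -1, -1, 0, 0, -1, -1, -1, 0, 0, 0, -1, -1, -1, 0, 0, 0, -1, -1, -1, 0, 0, -1, -1, -1, 0, -1, -1, -1, 0, 0, 0, 0, 0, 0, 1, 1, 1, 0, 1, 1, 1, 0, 0, 1, 1, 1, 0, 0, 0, 1, 1, 1, 0, 0, 0, 1, 1, 1, 0, 0, 1, 1, 1, 0, 1, 1, 1, 1, 1, 1, 2, 2, 2, 0, 0, 0, 0, 1, 1, 1, 0, 0, 1, 1, 1, 0, 1, 1, 1, 1, 1, 1, 2, 2, 2, 0, 1, 1, 1, 1, 1, 1, 2, 2, 2, 1, 1, 1, 2, 2, 2, 2, 2, 2, 3, 1, 1, 1, 2, 2, 2, 2, 2, 2, 3, 2, 2, 2, 3, 3, 2, 2, 2, 3, 3, 3, 3, 2, 2, 2, 3, 3, 3, 3, 3, 3, 3, 3, 4, 4, 4], [-3, -3, -2, -2, -2, -2, -2, -2, -2, -2, -2, -2, -1, -1, -2, -2, -2, -2, -2, -1, -1, -2, -2, -2, -1,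 -1, -2, -2, -1, -1, -2, -1, -1, -1, -1, 0, -2, -2, -1, -1, -2, -1, -1, -1, -1, 0, -2, -1, -1, -1, -1, 0, -1, -1, 0, 0, -2, -1, -1, -1, -1, 0, -1, -1, 0, 0, -1, -1, 0, 0, 0, -1, -1, 0, 0, 0, 0, 0, -2, -1, -1, -1, -1, 0, -1, -1, 0, 0, -1, -1, 0, 0, 0, -1, -1, 0, 0, 0, 0, -1, -1, 0, 0, 0, 0, -1, -1, 0, 0, 0, -1, -1, 0, 0, -1, -1, 0, -1, -1, 0, 0, 1, 1, 0, 1, 1, 0, 0, 1, 1, 0, 0, 0, 1, 1, 0, 0, 0, 0, 1, 1, 0, 0, 0, 0, 1, 1, 0, 0, 0, 1, 1, 0, 0, 1, 1, 0, 1, 1, 1, 1, 2, 0, 0, 0, 0, 0, 1, 1, 0, 0, 0, 1, 1, 0, 0, 1, 1, 0, 1, 1, 1, 1, 2, 0, 0, 1, 1, 0, 1, 1, 1, 1, 2, 0, 1, 1, 1, 1, 2, 1, 1, 2, 2, 0, 1, 1, 1, 1, 2, 1, 1, 2, 2, 1, 1, 2, 2, 2, 1, 1, 2, 2, 2, 2, 2, 1, 1, 2, 2, 2, 2, 2, 2, 2, 2, 2, 2, 3, 3], [-2, -1, -1, -1, -1, -1, -1, -1, -1,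 -1, -1, -1, -1, 0, -1, -1, -1, -1, -1, -1, 0, -1, -1, -1, -1, 0, -1, -1, -1, 0, -1, -1, 0, -1, 0, 0, -1, -1, -1, 0, -1, -1, 0, -1, 0, 0, -1, -1, 0, -1, 0, 0, -1, 0, 0, 0, -1, -1, 0, -1, 0, 0, -1, 0, 0, 0, -1, 0, 0, 0, 0, -1, 0, 0, 0, 0, 0, 0, -1, -1, 0, -1, 0, 0, -1, 0, 0, 0, -1, 0, 0, 0, 0, -1, 0, 0, 0, 0, 0, -1, 0, 0, 0, 0, 0, -1, 0, 0, 0, 0, -1, 0, 0, 0, -1, 0, 0, -1, 0, -1, 1, 0, 1, 0, 0, 1, 0, 0, 0, 1, 0, 0, 0, 0, 1, 0, 0, 0, 0, 0, 1, 0, 0, 0, 0, 0, 1, 0, 0, 0, 0, 1, 0, 0, 0, 1, 0, 0, 1, 0, 1, 1, 0, 0, 0, 0, 0, 0, 1, 0, 0, 0, 0, 1, 0, 0, 0, 1, 0, 0, 1, 0, 1, 1, 0, 0, 0, 1, 0, 0, 1, 0, 1, 1, 0, 0, 1, 0, 1, 1, 0, 1, 1, 1, 0, 0, 1, 0, 1, 1, 0, 1, 1, 1, 0, 1, 1, 1, 1, 0, 1, 1, 1, 1, 1, 1, 0, 1, 1, 1, 1, 1, 1, 1, 1, 1, 1, 1, 1, 2]]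
  U := [[-1, 0, 0, 0, 0, 0, 0, 0], [0, -1, 0, 0, 0, 0, 0, 0], [1, -2, 0, -1, 0, 0, 0, 0], [2, -3, 0, -2, -1, 0, 0, 0], [3, -4, 0, -3, -2, -1, 0, 0], [4, -5, 0, -4, -3, -2, -1, 0], [-2, 1, -1, 0, 0, 0, 0, 0], [-3, -2, -4, -5, -4, -3, -2, -1]]
  Ui := [[-1, 0, 0, 0, 0, 0, 0, 0], [0, -1, 0, 0, 0, 0, 0, 0], [2, -1, 0, 0, 0, 0, -1, 0], [-1, 2, -1, 0, 0, 0, 0, 0], [0, -1, 2, -1, 0, 0, 0, 0], [0, 0, -1, 2, -1, 0, 0, 0], [0, 0, 0, -1, 2, -1, 0, 0], [0, 0, 0, 0, -1, 2, 4, -1]]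
  V := [[0, 0, 0, 0, 0, 0, 1, -2], [0, 0, 0, 0, 0, 0, 2, -3], [1, 0, 0, 0, 0, 0, 2, -4], [0, 1, 0, 0, 0, 0, 4, -6], [0, 0, 1, 0, 0, 0, 4, -5], [0, 0, 0, 1, 0, 0, 4, -4], [0, 0, 0, 0, 1, 0, 4, -3], [0, 0, 0, 0, 0, 1, 4, -2]]
  Vi := [[-2, 0, 1, 0, 0, 0, 0, 0], [0, -2, 0, 1, 0, 0, 0, 0], [2, -3, 0, 0, 1, 0, 0, 0], [4, -4, 0, 0, 0, 1, 0, 0], [6, -5, 0, 0, 0, 0, 1, 0], [8, -6, 0, 0, 0, 0, 0, 1], [-3, 2, 0, 0, 0, 0, 0, 0], [-2, 1, 0, 0, 0, 0, 0, 0]]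
  d := [1, 1, 1, 1, 1, 1, 1, 1]

theorem certOK_E8 : certOK chevE8 certE8 = true := by decide +kernel

end Cfsg.Agent.Lib.Helper76.ChevTorus
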