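import Cfsg.Agent.Lib.Helper76.MonomialAct

/-!
# Explicit description of the kernel of a monomial map with a Smith decomposition
-/

set_option autoImplicit false

namespace Cfsg.Agent.Lib.Helper76.MonomialAct

variable {Γ : Type*} [CommGroup Γ] {l n : ℕ} {B : ℕ → ℕ → ℤ}

theorem SmithData.exists_of_mem_ker (S : SmithData l n B) (c : Fin l → Γ) (hc : act l n B c = 1) :
    ∃ y : Fin l → Γ, (∀ j, y j ^ S.d j = 1) ∧ c = act l l S.U y :=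
  ⟨act l l S.Ui c, (S.mem_ker_iff c).mp hc, by rw [act_act, act_eq_self_of_eq_idm l S.hU1]⟩

theorem SmithData.act_U_mem_ker (S : SmithData l n B) (y : Fin l → Γ) (hy : ∀ j, y j ^ S.d j = 1) :
    act l n B (act l l S.U y) = 1 := by
  rw [S.mem_ker_iff]
  intro j
  rw [act_act, act_eq_self_of_eq_idm l S.hU2]
  exact hy j

end Cfsg.Agent.Lib.Helper76.MonomialAct

namespace Cfsg.Agent.Lib.Helper76.MonomialAct

variable {Γ : Type*} [CommGroup Γ] {n : ℕ} {B : ℕ → ℕ → ℤ}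

/-- kernel for elementary divisors `(1, 1, 2, 2)` (type `D₄`) -/
theorem SmithData.ker_1122 (S : SmithData 4 n B) (hd : S.d 0 = 1 ∧ S.d 1 = 1 ∧ S.d 2 = 2 ∧ S.d 3 = 2)
    (hU2 : S.U 2 0 = -3 ∧ S.U 2 1 = -2 ∧ S.U 2 2 = -1 ∧ S.U 2 3 = 0)
    (hU3 : S.U 3 0 = 2 ∧ S.U 3 1 = 2 ∧ S.U 3 2 = 1 ∧ S.U 3 3 = 1)
    (c : Fin 4 → Γ) (hc : act 4 n B c = 1) :
    c 1 = 1 ∧ c 0 ^ 2 = 1 ∧ c 3 ^ 2 = 1 ∧ c 2 = c 0 * c 3 := by
  obtain ⟨y, hy, rfl⟩ := S.exists_of_mem_ker c hc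
  have hy0 : y 0 = 1 := by simpa [hd.1] using hy 0
  have hy1 : y 1 = 1 := by simpa [hd.2.1] using hy 1
  have hy2 : y 2 ^ 2 = 1 := by simpa [hd.2.2.1] using hy 2
  have hy3 : y 3 ^ 2 = 1 := by simpa [hd.2.2.2] using hy 3
  have e : ∀ i : Fin 4, act 4 4 S.U y i = y 2 ^ (S.U 2 i) * y 3 ^ (S.U 3 i) := by
    intro i
    rw [act_apply, Fin.prod_univ_four, hy0, hy1, one_zpow, one_zpow, one_mul, one_mul]
    rfl
  have i2 : (y 2)⁻¹ = y 2 := by rw [inv_eq_iff_mul_eq_one, ← sq, hy2]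
  have i3 : (y 3)⁻¹ = y 3 := by rw [inv_eq_iff_mul_eq_one, ← sq, hy3]
  have z2 : (y 2 : Γ) ^ (2 : ℤ) = 1 := by rw [zpow_ofNat]; exact hy2
  have z3 : (y 3 : Γ) ^ (2 : ℤ) = 1 := by rw [zpow_ofNat]; exact hy3
  have e0 := e 0
  have e1 := e 1
  have e2 := e 2
  have e3 := e 3
  simp only [Fin.val_zero, Fin.val_one, Fin.val_two, hU2.1, hU2.2.1, hU2.2.2.1, hU2.2.2.2, hU3.1,
    hU3.2.1, hU3.2.2.1, hU3.2.2.2] at e0 e1 e2 e3
  have e3' : act 4 4 S.U y 3 = y 3 := by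
    have := e 3
    simp only [show ((3 : Fin 4) : ℕ) = 3 from rfl, hU2.2.2.2, hU3.2.2.2, zpow_zero, zpow_one,
      one_mul] at this
    exact this
  have e0' : act 4 4 S.U y 0 = y 2 := by
    rw [e0, z3, mul_one, show (-3 : ℤ) = -1 + -2 from rfl, zpow_add, zpow_neg, zpow_neg, z2,
      zpow_one, inv_one, mul_one, i2]
  have e1' : act 4 4 S.U y 1 = 1 := by
    rw [e1, z3, mul_one, zpow_neg, z2, inv_one]
  have e2' : act 4 4 S.U y 2 = y 2 * y 3 := by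
    rw [e2, zpow_neg, zpow_one, zpow_one, i2]
  refine ⟨e1', ?_, ?_, ?_⟩
  · rw [e0', hy2]
  · rw [e3', hy3]
  · rw [e2', e0', e3']

/-- kernel for elementary divisors `(1, 1, 1, 1, 1, 3)` (type `E₆`) -/
theorem SmithData.ker_111113 (S : SmithData 6 n B)
    (hd : S.d 0 = 1 ∧ S.d 1 = 1 ∧ S.d 2 = 1 ∧ S.d 3 = 1 ∧ S.d 4 = 1 ∧ S.d 5 = 3)
    (hU5 : S.U 5 0 = -5 ∧ S.U 5 1 = 0 ∧ S.U 5 2 = -4 ∧ S.U 5 3 = -3 ∧ S.U 5 4 = -2 ∧ S.U 5 5 = -1)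
    (c : Fin 6 → Γ) :
    act 6 n B c = 1 ↔ ∃ ζ : Γ, ζ ^ 3 = 1 ∧ c = ![ζ, 1, ζ ^ 2, 1, ζ, ζ ^ 2] := by
  have key : ∀ y : Fin 6 → Γ, y 0 = 1 → y 1 = 1 → y 2 = 1 → y 3 = 1 → y 4 = 1 → y 5 ^ 3 = 1 →
      act 6 6 S.U y = ![y 5, 1, y 5 ^ 2, 1, y 5, y 5 ^ 2] := by
    intro y hy0 hy1 hy2 hy3 hy4 hy5
    have e : ∀ i : Fin 6, act 6 6 S.U y i = y 5 ^ (S.U 5 i) := by
      intro i
      rw [act_apply, Fin.prod_univ_six, hy0, hy1, hy2, hy3, hy4]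
      simp only [one_zpow, one_mul]
      rfl
    have z3 : (y 5 : Γ) ^ (3 : ℤ) = 1 := by rw [zpow_ofNat]; exact hy5
    have zm3 : (y 5 : Γ) ^ (-3 : ℤ) = 1 := by rw [zpow_neg, z3, inv_one]
    funext i
    fin_cases i
    · show act 6 6 S.U y 0 = y 5
      rw [e 0, show ((0 : Fin 6) : ℕ) = 0 from rfl, hU5.1,
        show (-5 : ℤ) = -3 + (-3 + 1) from rfl, zpow_add, zpow_add, zm3, zpow_one, one_mul, one_mul]
    · show act 6 6 S.U y 1 = 1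
      rw [e 1, show ((1 : Fin 6) : ℕ) = 1 from rfl, hU5.2.1, zpow_zero]
    · show act 6 6 S.U y 2 = y 5 ^ 2
      rw [e 2, show ((2 : Fin 6) : ℕ) = 2 from rfl, hU5.2.2.1,
        show (-4 : ℤ) = -3 + (-3 + 2) from rfl, zpow_add, zpow_add, zm3, one_mul, one_mul, zpow_ofNat]
    · show act 6 6 S.U y 3 = 1
      rw [e 3, show ((3 : Fin 6) : ℕ) = 3 from rfl, hU5.2.2.2.1, zm3]
    · show act 6 6 S.U y 4 = y 5
      rw [e 4, show ((4 : Fin 6) : ℕ) = 4 from rfl, hU5.2.2.2.2.1,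
        show (-2 : ℤ) = -3 + 1 from rfl, zpow_add, zm3, one_mul, zpow_one]
    · show act 6 6 S.U y 5 = y 5 ^ 2
      rw [e 5, show ((5 : Fin 6) : ℕ) = 5 from rfl, hU5.2.2.2.2.2,
        show (-1 : ℤ) = -3 + 2 from rfl, zpow_add, zm3, one_mul, zpow_ofNat]
  constructor
  · intro hc
    obtain ⟨y, hy, rfl⟩ := S.exists_of_mem_ker c hc
    have hy0 : y 0 = 1 := by simpa [hd.1] using hy 0
    have hy1 : y 1 = 1 := by simpa [hd.2.1] using hy 1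
    have hy2 : y 2 = 1 := by simpa [hd.2.2.1] using hy 2
    have hy3 : y 3 = 1 := by simpa [hd.2.2.2.1] using hy 3
    have hy4 : y 4 = 1 := by simpa [hd.2.2.2.2.1] using hy 4
    have hy5 : y 5 ^ 3 = 1 := by simpa [hd.2.2.2.2.2] using hy 5
    exact ⟨y 5, hy5, key y hy0 hy1 hy2 hy3 hy4 hy5⟩
  · rintro ⟨ζ, hζ, rfl⟩
    have := key ![1, 1, 1, 1, 1, ζ] rfl rfl rfl rfl rfl hζ
    have h5 : (![1, 1, 1, 1, 1, ζ] : Fin 6 → Γ) 5 = ζ := rfl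
    rw [h5] at this
    rw [← this]
    apply S.act_U_mem_ker
    intro j
    fin_cases j
    · simp
    · simp
    · simp
    · simp
    · simp
    · show ζ ^ S.d 5 = 1
      rw [hd.2.2.2.2.2, hζ]

end Cfsg.Agent.Lib.Helper76.MonomialAct
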