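import Mathlib

/-!
# Counting the fixed points of a twisted torus (abstract part)

`τ : T →* G` a parametrisation of a torus by a finite commutative group, `σ` an endomorphism of `G`
with `σ ∘ τ = τ ∘ tw`, `G1` a subgroup of `σ`-fixed elements containing `τ c` for all `tw`-fixed `c`.
Then `τ.range ⊓ G1` is the image of the `tw`-fixed parameters as soon as the kernel `Z` of `τ`
satisfies `Z ∩ im (tw / id) ⊆ (tw / id) Z`.
-/

set_option autoImplicit false

namespace Cfsg.Agent.Lib.Helper76.TwistCount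

variable {T G : Type*} [CommGroup T] [Group G]

theorem quot_aux {a b x y : T} (h : a * x⁻¹ = b * y⁻¹) : a * b⁻¹ = x * y⁻¹ := by
  have h1 : a = b * y⁻¹ * x := mul_inv_eq_iff_eq_mul.mp h
  rw [h1, mul_assoc b, mul_inv_cancel_comm, mul_comm]

theorem range_inf_eq_map (τ : T →* G) (σ : G →* G) (tw : T →* T) (hτ : ∀ c, σ (τ c) = τ (tw c))
    (G1 : Subgroup G) (hG1 : ∀ g ∈ G1, σ g = g) (hlow : ∀ c, tw c = c → τ c ∈ G1)
    (hZ : ∀ w, τ w = 1 → (∃ c, tw c * c⁻¹ = w) → ∃ z, τ z = 1 ∧ tw z * z⁻¹ = w) :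
    τ.range ⊓ G1 = (MonoidHom.eqLocus tw (MonoidHom.id T)).map τ := by
  apply le_antisymm
  · rintro g ⟨⟨c, rfl⟩, hg⟩
    have h1 : τ (tw c) = τ c := by rw [← hτ, hG1 _ hg]
    have h2 : τ (tw c * c⁻¹) = 1 := by rw [map_mul, map_inv, h1, mul_inv_cancel]
    obtain ⟨z, hz1, hz2⟩ := hZ _ h2 ⟨c, rfl⟩
    refine ⟨c * z⁻¹, ?_, ?_⟩
    · show tw (c * z⁻¹) = c * z⁻¹
      rw [map_mul, map_inv]
      exact quot_aux hz2.symm
    · rw [map_mul, map_inv, hz1, inv_one, mul_one]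
  · rintro g ⟨c, hc, rfl⟩
    exact ⟨⟨c, rfl⟩, hlow c hc⟩

theorem card_map_mul (τ : T →* G) (E : Subgroup T) [Finite T] :
    Nat.card ↥(E.map τ) * Nat.card {c : T // c ∈ E ∧ τ c = 1} = Nat.card ↥E := by
  have h1 : Nat.card ↥(E.map τ) = Nat.card ↥(τ.comp E.subtype).range := by
    rw [MonoidHom.range_comp, Subgroup.range_subtype]
  have h2 : Nat.card {c : T // c ∈ E ∧ τ c = 1} = Nat.card ↥(τ.comp E.subtype).ker := by
    apply Nat.card_congr
    refine ⟨fun c => ⟨⟨c.1, c.2.1⟩, ?_⟩, fun c => ⟨c.1.1, c.1.2, ?_⟩, ?_, ?_⟩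
    · rw [MonoidHom.mem_ker]; exact c.2.2
    · have := c.2; rw [MonoidHom.mem_ker] at this; exact this
    · intro c; rfl
    · intro c; rfl
  rw [h1, h2, ← Subgroup.index_ker, mul_comm, Subgroup.card_mul_index]

theorem card_range_inf [Finite T] (τ : T →* G) (σ : G →* G) (tw : T →* T)
    (hτ : ∀ c, σ (τ c) = τ (tw c))
    (G1 : Subgroup G) (hG1 : ∀ g ∈ G1, σ g = g) (hlow : ∀ c, tw c = c → τ c ∈ G1)
    (hZ : ∀ w, τ w = 1 → (∃ c, tw c * c⁻¹ = w) → ∃ z, τ z = 1 ∧ tw z * z⁻¹ = w) :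
    Nat.card ↥(τ.range ⊓ G1) * Nat.card {c : T // tw c = c ∧ τ c = 1} =
      Nat.card {c : T // tw c = c} := by
  rw [range_inf_eq_map τ σ tw hτ G1 hG1 hlow hZ]
  exact card_map_mul τ (MonoidHom.eqLocus tw (MonoidHom.id T))

/-- if no nontrivial element of the kernel is `tw`-fixed, the hypothesis on the kernel holds -/
theorem hZ_of_inj [Finite T] (τ : T →* G) (σ : G →* G) (tw : T →* T)
    (hτ : ∀ c, σ (τ c) = τ (tw c)) (hinj : ∀ z, τ z = 1 → tw z = z → z = 1) :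
    ∀ w, τ w = 1 → (∃ c, tw c * c⁻¹ = w) → ∃ z, τ z = 1 ∧ tw z * z⁻¹ = w := by
  intro w hw _
  -- `φ z = tw z * z⁻¹` maps the kernel injectively into itself
  let φ : τ.ker → τ.ker := fun z => ⟨tw z.1 * z.1⁻¹, by
    rw [MonoidHom.mem_ker, map_mul, map_inv, ← hτ]
    have := z.2; rw [MonoidHom.mem_ker] at this
    rw [this, map_one, inv_one, mul_one]⟩
  have hφ : Function.Injective φ := by
    intro z z' h
    have h1 : tw z.1 * z.1⁻¹ = tw z'.1 * z'.1⁻¹ := congrArg Subtype.val h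
    have h2 : tw (z.1 * z'.1⁻¹) = z.1 * z'.1⁻¹ := by
      rw [map_mul, map_inv]
      exact quot_aux h1
    have h3 : τ (z.1 * z'.1⁻¹) = 1 := by
      have hz := z.2; have hz' := z'.2
      rw [MonoidHom.mem_ker] at hz hz'
      rw [map_mul, map_inv, hz, hz', inv_one, mul_one]
    have h4 := hinj _ h3 h2
    apply Subtype.ext
    rw [mul_inv_eq_one] at h4
    exact h4
  have hsurj : Function.Surjective φ := Finite.surjective_of_injective hφ
  obtain ⟨z, hz⟩ := hsurj ⟨w, by rw [MonoidHom.mem_ker]; exact hw⟩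
  refine ⟨z.1, ?_, congrArg Subtype.val hz⟩
  have := z.2; rw [MonoidHom.mem_ker] at this; exact this

end Cfsg.Agent.Lib.Helper76.TwistCount
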