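import Mathlib

/-!
# The `q`-power ring endomorphism of a finite field of order a power of the prime power `q`
-/

set_option autoImplicit false

namespace Cfsg.Agent.Lib.Helper76.TwistCount

theorem exists_frob {K : Type*} [Field K] [Fintype K] {q m : ℕ} (hq : IsPrimePow q)
    (hK : Fintype.card K = q ^ m) : ∃ f : K →+* K, ∀ x, f x = x ^ q := by
  obtain ⟨p, a, hp, ha, rfl⟩ := hq
  have hp' : p.Prime := Nat.prime_iff.mpr hp
  have : Fact p.Prime := ⟨hp'⟩
  have hK' : Fintype.card K = p ^ (a * m) := by rw [hK, pow_mul]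
  have : CharP K p := charP_of_card_eq_prime_pow hK'
  exact ⟨iterateFrobenius K p a, fun x => iterateFrobenius_def ..⟩

theorem units_map_eq_pow {K : Type*} [Field K] (f : K →+* K) (q : ℕ) (hf : ∀ x, f x = x ^ q)
    (γ : Kˣ) : Units.map (f : K →* K) γ = γ ^ q := by
  apply Units.ext
  rw [Units.coe_map, Units.val_pow_eq_pow_val]
  exact hf _

theorem two_le_of_card {K : Type*} [Field K] [Fintype K] {q m : ℕ} (hK : Fintype.card K = q ^ m) :
    2 ≤ q := by
  have h1 : 1 < Fintype.card K := Fintype.one_lt_card
  rw [hK] at h1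
  by_contra h
  have : q = 0 ∨ q = 1 := by omega
  rcases this with rfl | rfl
  · rcases m with _ | m
    · simp at h1
    · simp at h1
  · simp at h1

end Cfsg.Agent.Lib.Helper76.TwistCount
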