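import Cfsg.Agent.Lib.Helper76.TwistSigma
import Cfsg.Agent.Lib.Helper76.TwistCount
import Cfsg.Agent.Lib.Helper76.TwistFrob
import Cfsg.Agent.Lib.Helper76.ChevTorusCert
import Cfsg.Agent.Lib.Helper76.SmithKer
import Cfsg.Prelude.Def_LieTwisted

/-!
# The diagonal subgroup of `³D₄(q)`
-/

set_option autoImplicit false

namespace Cfsg.Agent.Lib.Helper76.Twist

open Cfsg.Lie Cfsg.Agent.Lib.Helper24 Cfsg.Agent.Lib.Helper76.ChevTorus
  Cfsg.Agent.Lib.Helper76.MonomialAct Cfsg.Agent.Lib.Helper76.TwistCount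

section comm

variable {K : Type*} [Field K] {D : ChevalleyDatum}

/-- root elements for a pair of roots whose commutator formula has no terms commute -/
theorem commute_xGL (hF : Facts D) (r s : ℕ) (h : commFullOK D r s = true)
    (h0 : D.commTerms r s = []) (t u : K) : Commute (hF.xGL r t) (hF.xGL s u) := by
  have h1 := hF.comm_of_commFullOK r s h t u
  have h2 : D.commWord K r s t u = [] := by
    unfold ChevalleyDatum.commWord; rw [h0]; rfl
  rw [h2] at h1
  have h3 : hF.wordGL ([] : List (ℕ × K)) = 1 := by simp [Facts.wordGL]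
  rw [h3, mul_one] at h1
  exact h1.symm

theorem wordGL_hWord (hF : Facts D) (r : ℕ) (t : K) :
    hF.wordGL (D.hWord r t) =
      ([hF.xGL r t, hF.xGL (D.neg r) (-t⁻¹), hF.xGL r t, hF.xGL r (-1),
        hF.xGL (D.neg r) (-(-1 : K)⁻¹), hF.xGL r (-1)] : List (GL D.Idx K)).prod := by
  simp [Facts.wordGL, ChevalleyDatum.hWord, ChevalleyDatum.nWord]

end comm

section d4

variable {K : Type*} [Field K]

/-- the graph automorphism data of type `D₄` (triality `p₁ → p₃ → p₄ → p₁`) -/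
def gammaD4 : GraphData chevD4 where
  P := graphP_D4a
  P' := graphPinv_D4a
  R := graphR_D4a
  ρ := [2, 1, 3, 0]
  hinv := graphInv_D4a
  hconj := graphConj_D4a
  hfix := graphFix_D4a

/-- the triality on the indices of the fundamental roots -/
def piD4 : Equiv.Perm (Fin 4) where
  toFun := ![2, 1, 3, 0]
  invFun := ![3, 1, 0, 2]
  left_inv := by decide
  right_inv := by decide

theorem piD4_spec : ∀ i : Fin 4, ((piD4 i : Fin 4) : ℕ) = gammaD4.ρ.getD i 0 := by
  decide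

theorem units_map_of_sq_eq_one (f : K →+* K) (x : Kˣ) (hx : x ^ 2 = 1) :
    Units.map (f : K →* K) x = x := by
  have h1 : (x : K) * (x : K) = 1 := by
    rw [← sq, ← Units.val_pow_eq_pow_val, hx, Units.val_one]
  apply Units.ext
  rw [Units.coe_map]
  rcases mul_self_eq_one_iff.mp h1 with h | h
  · show f (x : K) = x
    rw [h, map_one]
  · show f (x : K) = x
    rw [h, map_neg, map_one]

/-- the fixed points of the twisting map: explicit conditions -/
theorem twHom_fix_iff_D4 (f : K →+* K) (q : ℕ) (hf : ∀ x, f x = x ^ q) (c : Fin 4 → Kˣ) :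
    twHom f piD4 c = c ↔ (c 3 ^ q = c 0 ∧ c 1 ^ q = c 1 ∧ c 0 ^ q = c 2 ∧ c 2 ^ q = c 3) := by
  constructor
  · intro h
    have h0 := congrFun h 0
    have h1 := congrFun h 1
    have h2 := congrFun h 2
    have h3 := congrFun h 3
    rw [twHom_apply, units_map_eq_pow f q hf] at h0 h1 h2 h3
    exact ⟨h0, h1, h2, h3⟩
  · rintro ⟨h0, h1, h2, h3⟩
    funext j
    rw [twHom_apply, units_map_eq_pow f q hf]
    fin_cases j
    · exact h0
    · exact h1
    · exact h2
    · exact h3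

/-- no nontrivial element of the centre is fixed -/
theorem fix_center_D4 (f : K →+* K) (c : Fin 4 → Kˣ) (h1 : c 1 = 1) (h0 : c 0 ^ 2 = 1)
    (h3 : c 3 ^ 2 = 1) (h2 : c 2 = c 0 * c 3) (hfix : twHom f piD4 c = c) : c = 1 := by
  have e0 := congrFun hfix 0
  have e2 := congrFun hfix 2
  rw [twHom_apply] at e0 e2
  have e0' : c 3 = c 0 := by
    rw [← e0]; exact (units_map_of_sq_eq_one f _ h3).symm
  have e2' : c 0 = c 2 := by
    rw [← e2]; exact (units_map_of_sq_eq_one f _ h0).symm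
  have hc0 : c 0 = 1 := by
    have : c 0 = c 0 * c 0 := by
      conv_lhs => rw [e2', h2, e0']
    have h' : c 0 * c 0 = 1 := by rw [← sq]; exact h0
    rw [h'] at this
    exact this
  funext j
  fin_cases j
  · exact hc0
  · exact h1
  · show c 2 = 1
    rw [← e2', hc0]
  · show c 3 = 1
    rw [e0', hc0]

theorem d4_simple : chevD4.simple 0 = 18 ∧ chevD4.simple 1 = 14 ∧ chevD4.simple 2 = 13 ∧
    chevD4.simple 3 = 12 ∧ chevD4.neg 18 = 5 ∧ chevD4.neg 14 = 9 ∧ chevD4.neg 13 = 10 ∧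
    chevD4.neg 12 = 11 := by decide

/-- the pairs of commuting root subgroups needed for `³D₄` -/
def commPairsD4 : List (ℕ × ℕ) :=
  [(18, 13), (18, 10), (5, 13), (5, 10), (18, 12), (18, 11), (5, 12), (5, 11),
    (13, 12), (13, 11), (10, 12), (10, 11)]

theorem commPairsD4_ok : commPairsD4.all (fun p => commFullOK chevD4 p.1 p.2 &&
    (chevD4.commTerms p.1 p.2).isEmpty) = true := by decide +kernel

theorem commute_D4 (hF : Facts chevD4) (r s : ℕ) (h : (r, s) ∈ commPairsD4) (t u : K) :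
    Commute (hF.xGL r t) (hF.xGL s u) := by
  have h1 := List.all_eq_true.mp commPairsD4_ok (r, s) h
  simp only [Bool.and_eq_true, List.isEmpty_iff] at h1
  exact commute_xGL hF r s h1.1 h1.2 t u

theorem d4_R : graphR_D4a.getD 14 0 = 14 ∧ graphR_D4a.getD 9 0 = 9 ∧ graphR_D4a.getD 18 0 = 13 ∧
    graphR_D4a.getD 13 0 = 12 ∧ graphR_D4a.getD 12 0 = 18 ∧ graphR_D4a.getD 5 0 = 10 ∧
    graphR_D4a.getD 10 0 = 11 ∧ graphR_D4a.getD 11 0 = 5 := by decide

theorem d4_eta_tab : ∀ s ∈ [14, 9, 18, 13, 12, 5, 10, 11],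
    etaOf (mcolP graphP_D4a (4 + 24) (4 + s)) = 1 := by decide +kernel

theorem d4_eta (s : ℕ) (hs : s ∈ [14, 9, 18, 13, 12, 5, 10, 11]) : gammaD4.eta K s = 1 := by
  unfold GraphData.eta
  have := d4_eta_tab s hs
  show ((etaOf (mcolP graphP_D4a (4 + 24) (4 + s)) : ℤ) : K) = 1
  rw [this, Int.cast_one]

end d4

section d4main

variable {K : Type*} [Field K]

/-- the generators of `³D₄(q)` are fixed by the twisting endomorphism -/
theorem twistedD4_fixed (hF : Facts chevD4) (f : K →+* K) (q : ℕ) (hf : ∀ x, f x = x ^ q)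
    (hK3 : ∀ x : K, x ^ (q ^ 3) = x) :
    ∀ g ∈ twistedD4 K q, gammaD4.sigma f g = g := by
  have key : twistedD4 K q ≤ MonoidHom.eqLocus (gammaD4.sigma f) (MonoidHom.id (GL chevD4.Idx K)) := by
    unfold twistedD4 ChevalleyDatum.genSubgroup
    rw [Subgroup.closure_le]
    rintro g ⟨w, hw, hgw⟩
    have hg' := hF.eq_wordGL g w hgw
    subst hg'
    show gammaD4.sigma f (hF.wordGL w) = hF.wordGL w
    rcases hw with ⟨t, ht, r, hr, rfl⟩ | ⟨t, rs, hrs, rfl⟩
    · have hft : f t = t := by rw [hf, ht]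
      simp only [d4p2, d4m2, List.mem_cons, List.not_mem_nil, or_false] at hr
      rcases hr with rfl | rfl
      · rw [gammaD4.sigma_wordGL hF f _ (by intro p hp; simp at hp; subst hp; show (_ : ℕ) < 24; norm_num)]
        simp only [GraphData.twistWord, List.map_cons, List.map_nil]
        rw [d4_eta 14 (by simp), one_mul, hft]
        show hF.wordGL [(graphR_D4a.getD 14 0, t)] = _
        rw [d4_R.1]
      · rw [gammaD4.sigma_wordGL hF f _ (by intro p hp; simp at hp; subst hp; show (_ : ℕ) < 24; norm_num)]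
        simp only [GraphData.twistWord, List.map_cons, List.map_nil]
        rw [d4_eta 9 (by simp), one_mul, hft]
        show hF.wordGL [(graphR_D4a.getD 9 0, t)] = _
        rw [d4_R.2.1]
    · have e1 : f (t ^ q) = t ^ q ^ 2 := by rw [hf, ← pow_mul, sq]
      have e2 : f (t ^ q ^ 2) = t := by
        rw [hf, ← pow_mul, show q ^ 2 * q = q ^ 3 by ring, hK3]
      simp only [d4p1, d4p3, d4p4, d4m1, d4m3, d4m4, List.mem_cons, List.not_mem_nil,
        or_false] at hrs
      rcases hrs with rfl | rfl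
      · rw [gammaD4.sigma_wordGL hF f _ (by
          intro p hp; simp at hp; rcases hp with rfl | rfl | rfl <;> (show (_ : ℕ) < 24; norm_num))]
        simp only [GraphData.twistWord, List.map_cons, List.map_nil]
        rw [d4_eta 18 (by simp), d4_eta 13 (by simp), d4_eta 12 (by simp), one_mul, one_mul,
          one_mul, e1, e2, hf]
        show hF.wordGL [(graphR_D4a.getD 18 0, t ^ q), (graphR_D4a.getD 13 0, t ^ q ^ 2),
          (graphR_D4a.getD 12 0, t)] = _
        rw [d4_R.2.2.1, d4_R.2.2.2.1, d4_R.2.2.2.2.1]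
        simp only [Facts.wordGL, List.map_cons, List.map_nil, List.prod_cons, List.prod_nil,
          mul_one]
        have c1 := commute_D4 hF 18 13 (by decide) t (t ^ q)
        have c2 := commute_D4 hF 18 12 (by decide) t (t ^ q ^ 2)
        rw [← c2.eq, ← mul_assoc, ← c1.eq, mul_assoc]
      · rw [gammaD4.sigma_wordGL hF f _ (by
          intro p hp; simp at hp; rcases hp with rfl | rfl | rfl <;> (show (_ : ℕ) < 24; norm_num))]
        simp only [GraphData.twistWord, List.map_cons, List.map_nil]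
        rw [d4_eta 5 (by simp), d4_eta 10 (by simp), d4_eta 11 (by simp), one_mul, one_mul,
          one_mul, e1, e2, hf]
        show hF.wordGL [(graphR_D4a.getD 5 0, t ^ q), (graphR_D4a.getD 10 0, t ^ q ^ 2),
          (graphR_D4a.getD 11 0, t)] = _
        rw [d4_R.2.2.2.2.2.1, d4_R.2.2.2.2.2.2.1, d4_R.2.2.2.2.2.2.2]
        simp only [Facts.wordGL, List.map_cons, List.map_nil, List.prod_cons, List.prod_nil,
          mul_one]
        have c1 := commute_D4 hF 5 10 (by decide) t (t ^ q)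
        have c2 := commute_D4 hF 5 11 (by decide) t (t ^ q ^ 2)
        rw [← c2.eq, ← mul_assoc, ← c1.eq, mul_assoc]
  intro g hg
  exact key hg

/-- the six letters of `h_r(t)` -/
def hList {D : ChevalleyDatum} (hF : Facts D) (r r' : ℕ) (t : K) : List (GL D.Idx K) :=
  [hF.xGL r t, hF.xGL r' (-t⁻¹), hF.xGL r t, hF.xGL r (-1), hF.xGL r' (-(-1 : K)⁻¹), hF.xGL r (-1)]

theorem wordGL_hWord' {D : ChevalleyDatum} (hF : Facts D) (r : ℕ) (t : K) :
    hF.wordGL (D.hWord r t) = (hList hF r (D.neg r) t).prod := wordGL_hWord hF r t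

theorem mem_hList {D : ChevalleyDatum} (hF : Facts D) (r r' : ℕ) (t : K) (a : GL D.Idx K)
    (ha : a ∈ hList hF r r' t) : ∃ s : K, a = hF.xGL r s ∨ a = hF.xGL r' s := by
  simp only [hList, List.mem_cons, List.not_mem_nil, or_false] at ha
  rcases ha with rfl | rfl | rfl | rfl | rfl | rfl
  · exact ⟨_, Or.inl rfl⟩
  · exact ⟨_, Or.inr rfl⟩
  · exact ⟨_, Or.inl rfl⟩
  · exact ⟨_, Or.inl rfl⟩
  · exact ⟨_, Or.inr rfl⟩
  · exact ⟨_, Or.inl rfl⟩

theorem mem_zip_hList {D : ChevalleyDatum} (hF : Facts D) (r r' s s' : ℕ) (t u : K)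
    (a : GL D.Idx K) (ha : a ∈ List.zipWith (· * ·) (hList hF r r' t) (hList hF s s' u)) :
    ∃ x y : K, a = hF.xGL r x * hF.xGL s y ∨ a = hF.xGL r' x * hF.xGL s' y := by
  simp only [hList, List.zipWith_cons_cons, List.zipWith_nil_right, List.mem_cons,
    List.not_mem_nil, or_false] at ha
  rcases ha with rfl | rfl | rfl | rfl | rfl | rfl
  · exact ⟨_, _, Or.inl rfl⟩
  · exact ⟨_, _, Or.inr rfl⟩
  · exact ⟨_, _, Or.inl rfl⟩
  · exact ⟨_, _, Or.inl rfl⟩
  · exact ⟨_, _, Or.inr rfl⟩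
  · exact ⟨_, _, Or.inl rfl⟩

theorem commute_hList {D : ChevalleyDatum} (hF : Facts D) (r r' s s' : ℕ)
    (h1 : ∀ t u : K, Commute (hF.xGL r t) (hF.xGL s u))
    (h2 : ∀ t u : K, Commute (hF.xGL r t) (hF.xGL s' u))
    (h3 : ∀ t u : K, Commute (hF.xGL r' t) (hF.xGL s u))
    (h4 : ∀ t u : K, Commute (hF.xGL r' t) (hF.xGL s' u)) (t u : K) :
    ∀ a ∈ hList hF r r' t, ∀ b ∈ hList hF s s' u, Commute a b := by
  intro a ha b hb
  obtain ⟨x, rfl | rfl⟩ := mem_hList hF r r' t a ha <;>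
  obtain ⟨y, rfl | rfl⟩ := mem_hList hF s s' u b hb
  · exact h1 _ _
  · exact h2 _ _
  · exact h3 _ _
  · exact h4 _ _

theorem single_mem_D4 (hF : Facts chevD4) (q : ℕ) (r : ℕ) (hr : r ∈ [d4p2, d4m2]) (s : K)
    (hs : s ^ q = s) : hF.xGL r s ∈ twistedD4 K q := by
  apply Subgroup.subset_closure
  refine ⟨[(r, s)], Or.inl ⟨s, hs, r, hr, rfl⟩, ?_⟩
  simp [ChevalleyDatum.wordMat]

theorem triple_mem_D4 (hF : Facts chevD4) (f : K →+* K) (q : ℕ) (hf : ∀ x, f x = x ^ q)
    (rs : ℕ × ℕ × ℕ) (hrs : rs ∈ [(d4p1, d4p3, d4p4), (d4m1, d4m3, d4m4)]) (s : K) :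
    hF.xGL rs.1 s * hF.xGL rs.2.1 (f s) * hF.xGL rs.2.2 (f (f s)) ∈ twistedD4 K q := by
  apply Subgroup.subset_closure
  refine ⟨[(rs.1, s), (rs.2.1, s ^ q), (rs.2.2, s ^ q ^ 2)], Or.inr ⟨s, rs, hrs, rfl⟩, ?_⟩
  have e : f (f s) = s ^ q ^ 2 := by rw [hf, hf, ← pow_mul, sq]
  rw [e, hf]
  simp [ChevalleyDatum.wordMat, mul_assoc]

/-- `h_{p₂}(γ)` for `γ` in the fixed field lies in `³D₄(q)` -/
theorem h_fixed_mem_D4 (hF : Facts chevD4) (f : K →+* K) (q : ℕ) (hf : ∀ x, f x = x ^ q)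
    (γ : K) (hγ : γ ^ q = γ) : hF.wordGL (chevD4.hWord 14 γ) ∈ twistedD4 K q := by
  rw [wordGL_hWord']
  apply Subgroup.list_prod_mem
  intro x hx
  have hfγ : f γ = γ := by rw [hf, hγ]
  have hneg : chevD4.neg 14 = 9 := d4_simple.2.2.2.2.2.1
  rw [hneg] at hx
  simp only [hList, List.mem_cons, List.not_mem_nil, or_false] at hx
  have e1 : (-γ⁻¹) ^ q = -γ⁻¹ := by rw [← hf, map_neg, map_inv₀, hfγ]
  have e2 : (-1 : K) ^ q = -1 := by rw [← hf, map_neg, map_one]
  have e3 : (-(-1 : K)⁻¹) ^ q = -(-1 : K)⁻¹ := by rw [← hf, map_neg, map_inv₀, map_neg, map_one]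
  rcases hx with rfl | rfl | rfl | rfl | rfl | rfl
  · exact single_mem_D4 hF q 14 (by simp [d4p2]) _ hγ
  · exact single_mem_D4 hF q 9 (by simp [d4m2]) _ e1
  · exact single_mem_D4 hF q 14 (by simp [d4p2]) _ hγ
  · exact single_mem_D4 hF q 14 (by simp [d4p2]) _ e2
  · exact single_mem_D4 hF q 9 (by simp [d4m2]) _ e3
  · exact single_mem_D4 hF q 14 (by simp [d4p2]) _ e2

/-- the product of the `h`'s over the orbit `p₁ → p₃ → p₄` lies in `³D₄(q)` -/
theorem h_orbit_mem_D4 (hF : Facts chevD4) (f : K →+* K) (q : ℕ) (hf : ∀ x, f x = x ^ q) (γ : K) :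
    hF.wordGL (chevD4.hWord 18 γ) * hF.wordGL (chevD4.hWord 13 (f γ)) *
      hF.wordGL (chevD4.hWord 12 (f (f γ))) ∈ twistedD4 K q := by
  rw [wordGL_hWord', wordGL_hWord', wordGL_hWord', d4_simple.2.2.2.2.1, d4_simple.2.2.2.2.2.2.1,
    d4_simple.2.2.2.2.2.2.2]
  rw [prod_mul_prod_eq_zipWith (hList hF 18 5 γ) (hList hF 13 10 (f γ)) rfl (commute_hList hF 18 5 13 10
    (fun t u => commute_D4 hF 18 13 (by decide) t u) (fun t u => commute_D4 hF 18 10 (by decide) t u)
    (fun t u => commute_D4 hF 5 13 (by decide) t u) (fun t u => commute_D4 hF 5 10 (by decide) t u)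
    γ (f γ))]
  have c12 : ∀ a ∈ List.zipWith (· * ·) (hList hF 18 5 γ) (hList hF 13 10 (f γ)),
      ∀ b ∈ hList hF 12 11 (f (f γ)), Commute a b := by
    intro a ha b hb
    obtain ⟨x, y, ha' | ha'⟩ := mem_zip_hList hF 18 5 13 10 _ _ a ha <;>
    obtain ⟨z, hb' | hb'⟩ := mem_hList hF 12 11 _ b hb
    · rw [ha', hb']
      exact Commute.mul_left (commute_D4 hF 18 12 (by decide) _ _)
        (commute_D4 hF 13 12 (by decide) _ _)
    · rw [ha', hb']
      exact Commute.mul_left (commute_D4 hF 18 11 (by decide) _ _)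
        (commute_D4 hF 13 11 (by decide) _ _)
    · rw [ha', hb']
      exact Commute.mul_left (commute_D4 hF 5 12 (by decide) _ _)
        (commute_D4 hF 10 12 (by decide) _ _)
    · rw [ha', hb']
      exact Commute.mul_left (commute_D4 hF 5 11 (by decide) _ _)
        (commute_D4 hF 10 11 (by decide) _ _)
  rw [prod_mul_prod_eq_zipWith (List.zipWith (· * ·) (hList hF 18 5 γ) (hList hF 13 10 (f γ)))
    (hList hF 12 11 (f (f γ))) rfl c12]
  apply Subgroup.list_prod_mem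
  intro x hx
  simp only [hList, List.zipWith_cons_cons, List.zipWith_nil_right, List.mem_cons,
    List.not_mem_nil, or_false] at hx
  have t1 := triple_mem_D4 hF f q hf (d4p1, d4p3, d4p4) (by simp)
  have t2 := triple_mem_D4 hF f q hf (d4m1, d4m3, d4m4) (by simp)
  simp only [d4p1, d4p3, d4p4, d4m1, d4m3, d4m4] at t1 t2
  rcases hx with rfl | rfl | rfl | rfl | rfl | rfl
  · exact t1 γ
  · have := t2 (-γ⁻¹)
    rw [map_neg, map_inv₀, map_neg, map_inv₀] at this
    exact this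
  · exact t1 γ
  · have := t1 (-1)
    rw [map_neg, map_one, map_neg, map_one] at this
    exact this
  · have := t2 (-(-1 : K)⁻¹)
    rw [map_neg, map_inv₀, map_neg, map_one, map_neg, map_inv₀, map_neg, map_one] at this
    exact this
  · have := t1 (-1)
    rw [map_neg, map_one, map_neg, map_one] at this
    exact this

/-- the torus parametrisation with index type `Fin 4` -/
def tauD4 (K : Type*) [Field K] : (Fin 4 → Kˣ) →* GL chevD4.Idx K := torusHom chevD4

/-- fixed torus parameters give elements of `³D₄(q)` -/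
theorem torus_fix_mem_D4 (hF : Facts chevD4) (hS : simpleOK chevD4 = true) (f : K →+* K) (q : ℕ)
    (hf : ∀ x, f x = x ^ q) (c : Fin 4 → Kˣ)
    (hc : c 3 ^ q = c 0 ∧ c 1 ^ q = c 1 ∧ c 0 ^ q = c 2 ∧ c 2 ^ q = c 3) :
    tauD4 K c ∈ twistedD4 K q := by
  obtain ⟨_, h1, h2, h3⟩ := hc
  have hdec : c = Pi.mulSingle 1 (c 1) *
      (Pi.mulSingle 0 (c 0) * Pi.mulSingle 2 (c 2) * Pi.mulSingle 3 (c 3)) := by
    funext j
    fin_cases j <;> simp
  rw [hdec, map_mul, map_mul, map_mul]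
  have e1 : tauD4 K (Pi.mulSingle 1 (c 1)) = hF.wordGL (chevD4.hWord 14 (c 1 : K)) :=
    torusHom_mulSingle_eq hF hS (1 : Fin 4) (c 1)
  have e0 : tauD4 K (Pi.mulSingle 0 (c 0)) = hF.wordGL (chevD4.hWord 18 (c 0 : K)) :=
    torusHom_mulSingle_eq hF hS (0 : Fin 4) (c 0)
  have e2 : tauD4 K (Pi.mulSingle 2 (c 2)) = hF.wordGL (chevD4.hWord 13 (c 2 : K)) :=
    torusHom_mulSingle_eq hF hS (2 : Fin 4) (c 2)
  have e3 : tauD4 K (Pi.mulSingle 3 (c 3)) = hF.wordGL (chevD4.hWord 12 (c 3 : K)) :=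
    torusHom_mulSingle_eq hF hS (3 : Fin 4) (c 3)
  have v2 : ((c 2 : Kˣ) : K) = f (c 0 : K) := by
    rw [← h2, Units.val_pow_eq_pow_val, hf]
  have v3 : ((c 3 : Kˣ) : K) = f (f (c 0 : K)) := by
    rw [← h3, Units.val_pow_eq_pow_val, v2, hf (f _)]
  rw [v2] at e2
  rw [v3] at e3
  apply Subgroup.mul_mem
  · rw [e1]
    apply h_fixed_mem_D4 hF f q hf
    rw [← Units.val_pow_eq_pow_val, h1]
  · rw [e0, e2, e3]
    exact h_orbit_mem_D4 hF f q hf _

/-- the order of `H ∩ ³D₄(q)`, given the count of the fixed torus parameters -/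
theorem card_diagonal_inf_twistedD4 [Fintype K] (hF : Facts chevD4) (hS : simpleOK chevD4 = true)
    {q : ℕ} (hq : IsPrimePow q) (hK : Fintype.card K = q ^ 3)
    (hcount : Nat.card {c : Fin 4 → Kˣ // c 3 ^ q = c 0 ∧ c 1 ^ q = c 1 ∧ c 0 ^ q = c 2 ∧
      c 2 ^ q = c 3} = (q - 1) * (q ^ 3 - 1)) :
    Nat.card ↥(chevD4.diagonalSubgroup K ⊓ twistedD4 K q) = (q - 1) * (q ^ 3 - 1) := by
  obtain ⟨f, hf⟩ := exists_frob hq hK
  have hK3 : ∀ x : K, x ^ (q ^ 3) = x := by
    intro x; rw [← hK]; exact FiniteField.pow_card x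
  have hrange : (tauD4 K).range = chevD4.diagonalSubgroup K := range_eq_diagonal hF hS
  rw [← hrange]
  have hτ : ∀ c : Fin 4 → Kˣ, gammaD4.sigma f (tauD4 K c) = tauD4 K (twHom f piD4 c) :=
    fun c => sigma_torusHom gammaD4 hF hS f piD4 piD4_spec c
  have hinj : ∀ z : Fin 4 → Kˣ, tauD4 K z = 1 → twHom f piD4 z = z → z = 1 := by
    intro z hz hfix
    have hz' : act 4 24 (cart chevD4) z = 1 := by
      have : z ∈ (torusHom (F := K) chevD4).ker := hz
      rw [torusHom_ker] at this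
      exact this
    obtain ⟨a1, a0, a3, a2⟩ := (smithOfCert chevD4 certD4 certOK_D4).ker_1122
      ⟨rfl, rfl, rfl, rfl⟩ ⟨rfl, rfl, rfl, rfl⟩ ⟨rfl, rfl, rfl, rfl⟩ z hz'
    exact fix_center_D4 f z a1 a0 a3 a2 hfix
  have key := card_range_inf (tauD4 K) (gammaD4.sigma f)
    (twHom f piD4) hτ (twistedD4 K q) (twistedD4_fixed hF f q hf hK3)
    (fun c hc => torus_fix_mem_D4 hF hS f q hf c ((twHom_fix_iff_D4 f q hf c).mp hc))
    (hZ_of_inj _ (gammaD4.sigma f) _ hτ hinj)
  have h1 : Nat.card {c : Fin 4 → Kˣ // twHom f piD4 c = c ∧ tauD4 K c = 1} = 1 := by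
    rw [Nat.card_eq_one_iff_unique]
    constructor
    · constructor
      intro a b
      apply Subtype.ext
      rw [hinj a.1 a.2.2 a.2.1, hinj b.1 b.2.2 b.2.1]
    · exact ⟨⟨1, map_one _, map_one _⟩⟩
  have h2 : Nat.card {c : Fin 4 → Kˣ // twHom f piD4 c = c} = (q - 1) * (q ^ 3 - 1) := by
    rw [← hcount]
    apply Nat.card_congr
    exact Equiv.subtypeEquivRight (fun c => twHom_fix_iff_D4 f q hf c)
  rw [h1, h2, mul_one] at key
  exact key

end d4main

end Cfsg.Agent.Lib.Helper76.Twist
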