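import Cfsg.Agent.Lib.Helper76.F4OrderDefs
import Cfsg.Agent.Lib.Helper33.F4Weyl

/-!
# K-2F4-O2 (keystone 106801): the 16 representatives of `W¹ = N¹/H¹` in `²F₄`
-/

set_option autoImplicit false
set_option maxRecDepth 100000

namespace Cfsg.Agent.Lib.Helper76.F4O

open Cfsg.Lie Cfsg.Agent.Lib.Helper24 Cfsg.Agent.Lib.Helper33.F4 Cfsg.Agent.Lib.Helper33.TwBN

variable {K : Type*} [Field K] {e : ℕ} {S : SigmaF K e}

theorem nW_wordsW_mem (G : Subgroup (GL chevF4.Idx K)) (h1 : s1F K ∈ G) (h2 : s2F K ∈ G) (j : ℕ)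
    (hj : j < 16) : (envF4 K).hF.nW (wordsW.getD j []) ∈ G := by
  have h0 : (envF4 K).hF.nW (F := K) [] ∈ G := by
    have : (envF4 K).hF.nW (F := K) [] = 1 := by simp [Facts.nW]
    rw [this]; exact Subgroup.one_mem _
  have ha : ∀ w : List ℕ, (envF4 K).hF.nW (F := K) w ∈ G → (envF4 K).hF.nW (F := K) (blkA ++ w) ∈ G := by
    intro w hw
    rw [(envF4 K).hF.nW_app]
    exact Subgroup.mul_mem _ h1 hw
  have hb : ∀ w : List ℕ, (envF4 K).hF.nW (F := K) w ∈ G →
      (envF4 K).hF.nW (F := K) (blkB ++ w) ∈ G := by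
    intro w hw
    rw [(envF4 K).hF.nW_app]
    exact Subgroup.mul_mem _ h2 hw
  have ha' : (envF4 K).hF.nW (F := K) blkA ∈ G := h1
  have hb' : (envF4 K).hF.nW (F := K) blkB ∈ G := h2
  interval_cases j
  · exact h0
  · exact ha'
  · exact hb'
  · exact hb _ ha'
  · exact ha _ hb'
  · simp only [wordsW, List.getD_cons_succ, List.getD_cons_zero, List.append_assoc]
    exact ha _ (hb _ ha')
  · simp only [wordsW, List.getD_cons_succ, List.getD_cons_zero, List.append_assoc]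
    exact hb _ (ha _ hb')
  · simp only [wordsW, List.getD_cons_succ, List.getD_cons_zero, List.append_assoc]
    exact hb _ (ha _ (hb _ ha'))
  · simp only [wordsW, List.getD_cons_succ, List.getD_cons_zero, List.append_assoc]
    exact ha _ (hb _ (ha _ hb'))
  · simp only [wordsW, List.getD_cons_succ, List.getD_cons_zero, List.append_assoc]
    exact ha _ (hb _ (ha _ (hb _ ha')))
  · simp only [wordsW, List.getD_cons_succ, List.getD_cons_zero, List.append_assoc]
    exact hb _ (ha _ (hb _ (ha _ hb')))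
  · simp only [wordsW, List.getD_cons_succ, List.getD_cons_zero, List.append_assoc]
    exact hb _ (ha _ (hb _ (ha _ (hb _ ha'))))
  · simp only [wordsW, List.getD_cons_succ, List.getD_cons_zero, List.append_assoc]
    exact ha _ (hb _ (ha _ (hb _ (ha _ hb'))))
  · simp only [wordsW, List.getD_cons_succ, List.getD_cons_zero, List.append_assoc]
    exact ha _ (hb _ (ha _ (hb _ (ha _ (hb _ ha')))))
  · simp only [wordsW, List.getD_cons_succ, List.getD_cons_zero, List.append_assoc]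
    exact hb _ (ha _ (hb _ (ha _ (hb _ (ha _ hb')))))
  · simp only [wordsW, List.getD_cons_succ, List.getD_cons_zero, List.append_assoc]
    exact hb _ (ha _ (hb _ (ha _ (hb _ (ha _ (hb _ ha'))))))

/-- K-2F4-O2a. -/
theorem reps_mem (L : LeavesF S) (j : ℕ) (hj : j < 16) :
    (envF4 K).hF.nW (wordsW.getD j []) ∈ chevF4.monomialSubgroup K ∧
      (envF4 K).hF.nW (wordsW.getD j []) ∈ twistedF4 K e :=
  ⟨(envF4 K).nW_mem _ (wordsW_lt j hj), nW_wordsW_mem _ L.s1F_mem L.s2F_mem j hj⟩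

/-- K-2F4-O2b. -/
theorem reps_dis (j j' : ℕ) (hj : j < 16) (hj' : j' < 16)
    (h : ((envF4 K).hF.nW (wordsW.getD j []))⁻¹ * (envF4 K).hF.nW (wordsW.getD j' []) ∈
      chevF4.diagonalSubgroup K) : j = j' := by
  by_contra hne
  exact dis_check j hj j' hj' hne
    (rhoW_eq_of_inv_mul_mem (envF4 K) _ _ (wordsW_lt j hj) (wordsW_lt j' hj') h)

/-- K-2F4-O2c. -/
theorem reps_cover (L : LeavesF S) (n : GL chevF4.Idx K) (hn : n ∈ chevF4.monomialSubgroup K)
    (hnG : n ∈ twistedF4 K e) :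
    ∃ j < 16, n * ((envF4 K).hF.nW (wordsW.getD j []))⁻¹ ∈ chevF4.diagonalSubgroup K := by
  classical
  obtain ⟨φ, hφs, hφk⟩ := L.weyl
  let ν : Fin 16 → ↥(chevF4.monomialSubgroup K ⊓ twistedF4 K e) := fun j =>
    ⟨(envF4 K).hF.nW (wordsW.getD (j : ℕ) []), (reps_mem L j j.2).1, (reps_mem L j j.2).2⟩
  have hker : ∀ a b : ↥(chevF4.monomialSubgroup K ⊓ twistedF4 K e), φ a = φ b →
      ((a : GL chevF4.Idx K))⁻¹ * (b : GL chevF4.Idx K) ∈ chevF4.diagonalSubgroup K := by
    intro a b hab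
    have h1 : a⁻¹ * b ∈ φ.ker := by
      rw [MonoidHom.mem_ker, map_mul, map_inv, hab, inv_mul_cancel]
    rw [hφk, Subgroup.mem_subgroupOf] at h1
    exact h1.1
  have hinj : Function.Injective (fun j : Fin 16 => φ (ν j)) := by
    intro j j' hjj
    exact Fin.ext (reps_dis j j' j.2 j'.2 (hker _ _ hjj))
  have hcard : Fintype.card (Fin 16) = Fintype.card (DihedralGroup 8) := by
    rw [Fintype.card_fin, DihedralGroup.card]
  have hbij := (Fintype.bijective_iff_injective_and_card _).2 ⟨hinj, hcard⟩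
  obtain ⟨j, hj⟩ := hbij.2 (φ ⟨n, hn, hnG⟩)
  refine ⟨j, j.2, ?_⟩
  have h2 := hker _ _ hj
  have h3 := L.setup.hNH _ (reps_mem L j j.2).1 _ h2
  have e1 : n * ((envF4 K).hF.nW (wordsW.getD (j : ℕ) []))⁻¹ =
      (envF4 K).hF.nW (wordsW.getD (j : ℕ) []) *
        (((envF4 K).hF.nW (wordsW.getD (j : ℕ) []))⁻¹ * n) *
        ((envF4 K).hF.nW (wordsW.getD (j : ℕ) []))⁻¹ := by group
  rw [e1]
  exact h3

end Cfsg.Agent.Lib.Helper76.F4O
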