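import Cfsg.Agent.Lib.Helper33.TwBNAbs2

/-!
# The order of the group of fixed points from the twisted Bruhat normal form

In the abstract setting `TwBN2.Setup` of helper33: if `ν i` (`i : ι`) are representatives of the
cosets of `H ⊓ G¹` in `N ⊓ G¹`, then every element of `G¹` is uniquely `u₁ h (ν i) u` with
`u₁ ∈ U ⊓ G¹`, `h ∈ H ⊓ G¹`, `u ∈ U_{ν i}⁻ ⊓ G¹`; hence
`|G¹| = ∑ i, |U ⊓ G¹| |H ⊓ G¹| |U_{ν i}⁻ ⊓ G¹|`.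
-/

set_option autoImplicit false

namespace Cfsg.Agent.Lib.Helper76.TwCount

open Cfsg.Agent.Lib.Helper33.TwBN2

variable {Γ : Type*} [Group Γ] (D : Setup Γ)

/-- the normal form of a fixed element has fixed components, the last one in `U_n⁻` -/
theorem fixed_nf' (g : Γ) (hg : g ∈ D.G1) :
    ∃ u₁ ∈ D.U, u₁ ∈ D.G1 ∧ ∃ n ∈ D.N, n ∈ D.G1 ∧ ∃ u₂ ∈ D.Un n, u₂ ∈ D.G1 ∧ g = u₁ * n * u₂ := by
  obtain ⟨b, hb, n, hn, u, hu, e⟩ := D.nf_exists g hg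
  obtain ⟨u₁, hu₁, h, hh, rfl⟩ := D.hBUH b hb
  have hn₁ : h * n ∈ D.N := D.N.mul_mem (D.hHN hh) hn
  have hu' : u ∈ D.Un (h * n) := D.Un_H h hh n hu
  have e1 : g = u₁ * (h * n) * u := by rw [e]; group
  have huU : u ∈ D.U := D.Un_le _ hu'
  have hσ : D.σ u₁ * D.σ (h * n) * D.σ u = u₁ * (h * n) * u := by
    rw [← D.σ_mul3 u₁ hu₁ (h * n) hn₁ u huU, ← e1, D.G1_fix g hg]
  have hk : (h * n)⁻¹ * D.σ (h * n) ∈ D.H :=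
    D.bruhat (h * n) hn₁ (D.σ (h * n)) (D.σN _ hn₁) u₁ (D.hUB hu₁) u (D.hUB huU)
      (D.σ u₁) (D.hUB (D.σU _ hu₁)) (D.σ u) (D.hUB (D.σU _ huU)) hσ.symm
  have hk' : (h * n) * ((h * n)⁻¹ * D.σ (h * n)) * (h * n)⁻¹ ∈ D.H := D.hNH _ hn₁ _ hk
  set k' := (h * n) * ((h * n)⁻¹ * D.σ (h * n)) * (h * n)⁻¹ with hk'def
  have hσn : D.σ (h * n) = k' * (h * n) := by rw [hk'def]; group
  have hσu : D.σ u ∈ D.Un (h * n) := by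
    have h1 : D.σ u ∈ D.Un (D.σ (h * n)) := D.σUn _ hn₁ u hu'
    rw [hσn] at h1
    have h2 := D.Un_H k'⁻¹ (D.H.inv_mem hk') (k' * (h * n)) h1
    have : k'⁻¹ * (k' * (h * n)) = h * n := by group
    rwa [this] at h2
  have e2 : u₁ * (h * n) * u = (D.σ u₁ * k') * (h * n) * D.σ u := by
    rw [← hσ, hσn]; group
  obtain ⟨e3, e4⟩ := D.nf_unique u₁ (D.σ u₁ * k') (h * n) u (D.σ u) (D.hUB hu₁)
    (D.B.mul_mem (D.hUB (D.σU _ hu₁)) (D.hHB hk')) hn₁ hu' hσu e2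
  have hk2 : k' = (D.σ u₁)⁻¹ * u₁ := eq_inv_mul_of_mul_eq e3.symm
  have hk1 : k' = 1 := by
    apply D.hUH k' _ hk'
    rw [hk2]
    exact D.U.mul_mem (D.U.inv_mem (D.σU _ hu₁)) hu₁
  have hfu₁ : D.σ u₁ = u₁ := by
    rw [hk1, mul_one] at e3
    exact e3.symm
  have hu₁G : u₁ ∈ D.G1 := D.fixU u₁ hu₁ hfu₁
  have huG : u ∈ D.G1 := D.fixU u huU e4.symm
  refine ⟨u₁, hu₁, hu₁G, h * n, hn₁, ?_, u, hu', huG, e1⟩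
  have : h * n = u₁⁻¹ * g * u⁻¹ := by rw [e1]; group
  rw [this]
  exact D.G1.mul_mem (D.G1.mul_mem (D.G1.inv_mem hu₁G) hg) (D.G1.inv_mem huG)

theorem Un_H_eq (h : Γ) (hh : h ∈ D.H) (n : Γ) : D.Un (h * n) = D.Un n := by
  apply le_antisymm
  · have := D.Un_H h⁻¹ (D.H.inv_mem hh) (h * n)
    rwa [inv_mul_cancel_left] at this
  · exact D.Un_H h hh n

section count

variable {ι : Type*} (ν : ι → Γ)

/-- the parametrisation of `G¹` by the normal form -/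
def nfMap (x : Σ i : ι, ↥(D.U ⊓ D.G1) × ↥(D.H ⊓ D.G1) × ↥(D.Un (ν i) ⊓ D.G1)) : Γ :=
  (x.2.1 : Γ) * (x.2.2.1 : Γ) * ν x.1 * (x.2.2.2 : Γ)

theorem nfMap_mem (hνG : ∀ i, ν i ∈ D.G1)
    (x : Σ i : ι, ↥(D.U ⊓ D.G1) × ↥(D.H ⊓ D.G1) × ↥(D.Un (ν i) ⊓ D.G1)) :
    nfMap D ν x ∈ D.G1 :=
  D.G1.mul_mem (D.G1.mul_mem (D.G1.mul_mem x.2.1.2.2 x.2.2.1.2.2) (hνG _)) x.2.2.2.2.2

theorem nfMap_injective (hνN : ∀ i, ν i ∈ D.N)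
    (hdis : ∀ i j, (ν i)⁻¹ * ν j ∈ D.H → i = j) : Function.Injective (nfMap D ν) := by
  rintro ⟨i, ⟨u₁, hu₁⟩, ⟨h, hh⟩, ⟨u, hu⟩⟩ ⟨j, ⟨u₁', hu₁'⟩, ⟨h', hh'⟩, ⟨u', hu'⟩⟩ e
  simp only [nfMap] at e
  have hb : u₁ * h ∈ D.B := D.B.mul_mem (D.hUB hu₁.1) (D.hHB hh.1)
  have hb' : u₁' * h' ∈ D.B := D.B.mul_mem (D.hUB hu₁'.1) (D.hHB hh'.1)
  have hij : i = j := hdis i j (D.bruhat (ν i) (hνN i) (ν j) (hνN j) (u₁ * h) hb u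
    (D.hUB (D.Un_le _ hu.1)) (u₁' * h') hb' u' (D.hUB (D.Un_le _ hu'.1)) e)
  subst hij
  obtain ⟨e1, e2⟩ := D.nf_unique (u₁ * h) (u₁' * h') (ν i) u u' hb hb' (hνN i) hu.1 hu'.1 e
  have e3 : u₁'⁻¹ * u₁ = h' * h⁻¹ := by
    rw [inv_mul_eq_iff_eq_mul, ← mul_assoc, ← e1]; group
  have e4 : u₁'⁻¹ * u₁ = 1 :=
    D.hUH _ (D.U.mul_mem (D.U.inv_mem hu₁'.1) hu₁.1) (by rw [e3]; exact D.H.mul_mem hh'.1 (D.H.inv_mem hh.1))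
  have e5 : u₁ = u₁' := by rw [inv_mul_eq_one] at e4; exact e4.symm
  have e6 : h = h' := by
    rw [e4] at e3
    have := (mul_inv_eq_one.mp e3.symm)
    exact this.symm
  subst e5 e6 e2
  rfl

theorem nfMap_surjective (hνG : ∀ i, ν i ∈ D.G1)
    (hcov : ∀ n ∈ D.N, n ∈ D.G1 → ∃ i, n * (ν i)⁻¹ ∈ D.H) (g : Γ) (hg : g ∈ D.G1) :
    ∃ x, nfMap D ν x = g := by
  obtain ⟨u₁, hu₁, hu₁G, n, hn, hnG, u, hu, huG, e⟩ := fixed_nf' D g hg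
  obtain ⟨i, hi⟩ := hcov n hn hnG
  have hn' : n = (n * (ν i)⁻¹) * ν i := by group
  have hu2 : u ∈ D.Un (ν i) := by
    rw [hn', Un_H_eq D _ hi] at hu
    exact hu
  refine ⟨⟨i, ⟨u₁, hu₁, hu₁G⟩, ⟨n * (ν i)⁻¹, hi, D.G1.mul_mem hnG (D.G1.inv_mem (hνG i))⟩,
    ⟨u, hu2, huG⟩⟩, ?_⟩
  simp only [nfMap]
  rw [e]; group

/-- the order formula -/
theorem card_G1 [Finite Γ] [Fintype ι] (hνN : ∀ i, ν i ∈ D.N) (hνG : ∀ i, ν i ∈ D.G1)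
    (hcov : ∀ n ∈ D.N, n ∈ D.G1 → ∃ i, n * (ν i)⁻¹ ∈ D.H)
    (hdis : ∀ i j, (ν i)⁻¹ * ν j ∈ D.H → i = j) :
    Nat.card ↥D.G1 = ∑ i : ι, Nat.card ↥(D.U ⊓ D.G1) * Nat.card ↥(D.H ⊓ D.G1) *
      Nat.card ↥(D.Un (ν i) ⊓ D.G1) := by
  classical
  let Φ : (Σ i : ι, ↥(D.U ⊓ D.G1) × ↥(D.H ⊓ D.G1) × ↥(D.Un (ν i) ⊓ D.G1)) → ↥D.G1 :=
    fun x => ⟨nfMap D ν x, nfMap_mem D ν hνG x⟩
  have hΦ : Function.Bijective Φ := by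
    constructor
    · intro x y h
      exact nfMap_injective D ν hνN hdis (congrArg Subtype.val h)
    · rintro ⟨g, hg⟩
      obtain ⟨x, hx⟩ := nfMap_surjective D ν hνG hcov g hg
      exact ⟨x, Subtype.ext hx⟩
  rw [← Nat.card_congr (Equiv.ofBijective Φ hΦ), Nat.card_sigma]
  apply Finset.sum_congr rfl
  intro i _
  rw [Nat.card_prod, Nat.card_prod, mul_assoc]

end count

end Cfsg.Agent.Lib.Helper76.TwCount
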