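import Cfsg.Agent.Lib.Helper76.F4OrderDefs
import Cfsg.Agent.Lib.Helper76.TwBNCount
import Cfsg.Agent.Lib.Helper33.F4Weyl
import Cfsg.Agent.Lib.Helper33.F4Count
import Cfsg.Agent.Lib.Helper33.F4Torus

/-!
# The order of `²F₄(q)` from the leaves of the packs K-2F4 and K-2F4-O
-/

set_option autoImplicit false

namespace Cfsg.Agent.Lib.Helper76.F4O

open Cfsg.Lie Cfsg.Agent.Lib.Helper24 Cfsg.Agent.Lib.Helper33.F4 Cfsg.Agent.Lib.Helper33.TwBN

variable {K : Type*} [Field K] {e : ℕ} {S : SigmaF K e}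

/-- the sum over the 16 elements of `W¹` -/
theorem sum_segDim (q : ℕ) :
    ∑ j : Fin 16, q ^ segDim (segStart j) (segLen j) = (1 + q) * (1 + q ^ 2) * (1 + q ^ 3) * (1 + q ^ 6) := by
  rw [Fin.sum_univ_eq_sum_range (fun j => q ^ segDim (segStart j) (segLen j)) 16]
  simp only [Finset.sum_range_succ, Finset.sum_range_zero]
  have e0 : segDim (segStart 0) (segLen 0) = 0 := by decide
  have e1 : segDim (segStart 1) (segLen 1) = 1 := by decide
  have e2 : segDim (segStart 2) (segLen 2) = 2 := by decide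
  have e3 : segDim (segStart 3) (segLen 3) = 3 := by decide
  have e4 : segDim (segStart 4) (segLen 4) = 3 := by decide
  have e5 : segDim (segStart 5) (segLen 5) = 4 := by decide
  have e6 : segDim (segStart 6) (segLen 6) = 5 := by decide
  have e7 : segDim (segStart 7) (segLen 7) = 6 := by decide
  have e8 : segDim (segStart 8) (segLen 8) = 6 := by decide
  have e9 : segDim (segStart 9) (segLen 9) = 7 := by decide
  have e10 : segDim (segStart 10) (segLen 10) = 8 := by decide
  have e11 : segDim (segStart 11) (segLen 11) = 9 := by decide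
  have e12 : segDim (segStart 12) (segLen 12) = 9 := by decide
  have e13 : segDim (segStart 13) (segLen 13) = 10 := by decide
  have e14 : segDim (segStart 14) (segLen 14) = 11 := by decide
  have e15 : segDim (segStart 15) (segLen 15) = 12 := by decide
  rw [e0, e1, e2, e3, e4, e5, e6, e7, e8, e9, e10, e11, e12, e13, e14, e15]
  ring

/-- the order of `²F₄`, from the leaves -/
theorem card_twistedF4 [Fintype K] (L : LeavesF S)
    (hU : Nat.card ↥(chevF4.posUnipotent K ⊓ twistedF4 K e) = Fintype.card K ^ 12)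
    (hH : Nat.card ↥(chevF4.diagonalSubgroup K ⊓ twistedF4 K e) = (Fintype.card K - 1) ^ 2)
    (reps_mem : ∀ j < 16, (envF4 K).hF.nW (wordsW.getD j []) ∈ chevF4.monomialSubgroup K ∧
      (envF4 K).hF.nW (wordsW.getD j []) ∈ twistedF4 K e)
    (reps_dis : ∀ j j' : ℕ, j < 16 → j' < 16 →
      ((envF4 K).hF.nW (wordsW.getD j []))⁻¹ * (envF4 K).hF.nW (wordsW.getD j' []) ∈
        chevF4.diagonalSubgroup K → j = j')
    (reps_cover : ∀ n : GL chevF4.Idx K, n ∈ chevF4.monomialSubgroup K → n ∈ twistedF4 K e →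
      ∃ j < 16, n * ((envF4 K).hF.nW (wordsW.getD j []))⁻¹ ∈ chevF4.diagonalSubgroup K)
    (Un_eq : ∀ j < 16, Un chevF4 K ((envF4 K).hF.nW (wordsW.getD j [])) =
      rootClosure chevF4 K (· ∈ segRoots (segStart j) (segLen j)))
    (card_seg : ∀ i len : ℕ, i + len ≤ 8 →
      Nat.card ↥(rootClosure chevF4 K (· ∈ segRoots i len) ⊓ twistedF4 K e) =
        Fintype.card K ^ segDim i len) :
    Nat.card ↥(twistedF4 K e) = Fintype.card K ^ 12 * (Fintype.card K - 1) ^ 2 *
      ((1 + Fintype.card K) * (1 + Fintype.card K ^ 2) * (1 + Fintype.card K ^ 3) *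
        (1 + Fintype.card K ^ 6)) := by
  classical
  let ν : Fin 16 → GL chevF4.Idx K := fun j => (envF4 K).hF.nW (wordsW.getD (j : ℕ) [])
  have h := Cfsg.Agent.Lib.Helper76.TwCount.card_G1 L.setup ν
    (fun j => (reps_mem j j.2).1) (fun j => (reps_mem j j.2).2)
    (fun n hn hnG => by
      obtain ⟨j, hj, hjn⟩ := reps_cover n hn hnG
      exact ⟨⟨j, hj⟩, hjn⟩)
    (fun i j hij => Fin.ext (reps_dis i j i.2 j.2 hij))
  have hseg : ∀ j : Fin 16, segStart j + segLen j ≤ 8 := by decide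
  have h2 : ∀ j : Fin 16, Nat.card ↥(L.setup.Un (ν j) ⊓ L.setup.G1) =
      Fintype.card K ^ segDim (segStart j) (segLen j) := by
    intro j
    show Nat.card ↥(Un chevF4 K ((envF4 K).hF.nW (wordsW.getD (j : ℕ) [])) ⊓ twistedF4 K e) = _
    rw [Un_eq j j.2, card_seg _ _ (hseg j)]
  have hG : Nat.card ↥(twistedF4 K e) = Nat.card ↥L.setup.G1 := rfl
  have hU' : Nat.card ↥(L.setup.U ⊓ L.setup.G1) = Fintype.card K ^ 12 := hU
  have hH' : Nat.card ↥(L.setup.H ⊓ L.setup.G1) = (Fintype.card K - 1) ^ 2 := hH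
  rw [hG, h]
  simp only [h2, hU', hH']
  rw [← Finset.mul_sum, sum_segDim]

end Cfsg.Agent.Lib.Helper76.F4O
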