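import Mathlib

/-!
# Arithmetic for the order of `²F₄(q)`
-/

set_option autoImplicit false

namespace Cfsg.Agent.Lib.Helper76.F4O

theorem order_arith (q : ℕ) (hq : 1 ≤ q) :
    q ^ 12 * (q - 1) ^ 2 * ((1 + q) * (1 + q ^ 2) * (1 + q ^ 3) * (1 + q ^ 6)) =
      q ^ 12 * (q - 1) * (q ^ 3 + 1) * (q ^ 4 - 1) * (q ^ 6 + 1) := by
  obtain ⟨k, rfl⟩ : ∃ k, q = k + 1 := ⟨q - 1, by omega⟩
  have h1 : k + 1 - 1 = k := by omega
  have h4 : (k + 1) ^ 4 - 1 = k * ((1 + (k + 1)) * (1 + (k + 1) ^ 2)) := by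
    have : (k + 1) ^ 4 = k * ((1 + (k + 1)) * (1 + (k + 1) ^ 2)) + 1 := by ring
    omega
  rw [h1, h4]
  ring

end Cfsg.Agent.Lib.Helper76.F4O
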