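import Mathlib

/-!
# Monomial maps attached to integer matrices

For a commutative group `Γ` and an integer matrix `M` (given as a function `ℕ → ℕ → ℤ`, only the
entries `M i k` with `i < l`, `k < n` matter) the map `Γ^l → Γ^n`, `c ↦ (∏ i, c i ^ M i k)_k`.
Composition corresponds to the matrix product; for a matrix with a Smith decomposition the kernel is
counted.
-/

set_option autoImplicit false

namespace Cfsg.Agent.Lib.Helper76.MonomialAct

open Finset

section act

variable {Γ : Type*} [CommGroup Γ]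

/-- the monomial map attached to an integer matrix -/
def act (l n : ℕ) (M : ℕ → ℕ → ℤ) : (Fin l → Γ) →* (Fin n → Γ) where
  toFun c k := ∏ i : Fin l, c i ^ M i k
  map_one' := by funext k; simp only [Pi.one_apply, one_zpow, Finset.prod_const_one]
  map_mul' c c' := by funext k; simp [mul_zpow, Finset.prod_mul_distrib]

theorem prod_zpow_eq_zpow_sum {ι : Type*} (s : Finset ι) (x : Γ) (f : ι → ℤ) :
    ∏ j ∈ s, x ^ f j = x ^ ∑ j ∈ s, f j := by
  classical
  induction s using Finset.induction_on with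
  | empty => simp
  | insert a s ha ih => rw [Finset.prod_insert ha, Finset.sum_insert ha, ih, zpow_add]

@[simp] theorem act_apply (l n : ℕ) (M : ℕ → ℕ → ℤ) (c : Fin l → Γ) (k : Fin n) :
    act l n M c k = ∏ i : Fin l, c i ^ M i k := rfl

/-- matrix product (inner dimension `m`) -/
def mm (m : ℕ) (A B : ℕ → ℕ → ℤ) : ℕ → ℕ → ℤ := fun i k => ∑ j : Fin m, A i j * B j k

theorem act_congr (l n : ℕ) {M M' : ℕ → ℕ → ℤ} (h : ∀ i < l, ∀ k < n, M i k = M' i k) :
    (act l n M : (Fin l → Γ) →* (Fin n → Γ)) = act l n M' := by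
  apply MonoidHom.ext
  intro c
  funext k
  simp only [act_apply]
  refine Finset.prod_congr rfl fun i _ => ?_
  rw [h i i.2 k k.2]

theorem act_act (l m n : ℕ) (A B : ℕ → ℕ → ℤ) (c : Fin l → Γ) :
    act m n B (act l m A c) = act l n (mm m A B) c := by
  funext k
  simp only [act_apply, mm]
  calc ∏ j : Fin m, (∏ i : Fin l, c i ^ A i j) ^ B j k
      = ∏ j : Fin m, ∏ i : Fin l, c i ^ (A i j * B j k) := by
        refine Finset.prod_congr rfl fun j _ => ?_
        rw [← Finset.prod_zpow]
        refine Finset.prod_congr rfl fun i _ => ?_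
        rw [zpow_mul]
    _ = ∏ i : Fin l, ∏ j : Fin m, c i ^ (A i j * B j k) := Finset.prod_comm
    _ = ∏ i : Fin l, c i ^ (∑ j : Fin m, A i j * B j k) := by
        refine Finset.prod_congr rfl fun i _ => ?_
        rw [prod_zpow_eq_zpow_sum]

/-- the identity matrix -/
def idm : ℕ → ℕ → ℤ := fun i k => if i = k then 1 else 0

theorem act_idm (l : ℕ) (c : Fin l → Γ) : act l l idm c = c := by
  funext k
  simp only [act_apply, idm]
  rw [Finset.prod_eq_single k]
  · simp
  · intro i _ hik
    have : ¬ (i : ℕ) = (k : ℕ) := fun h => hik (Fin.ext h)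
    simp [this]
  · intro h; exact absurd (Finset.mem_univ k) h

theorem act_eq_self_of_eq_idm (l : ℕ) {M : ℕ → ℕ → ℤ} (h : ∀ i < l, ∀ k < l, M i k = idm i k)
    (c : Fin l → Γ) : act l l M c = c := by
  rw [act_congr l l h, act_idm]

/-- a diagonal matrix followed by `V` -/
def dmul (d : ℕ → ℕ) (V : ℕ → ℕ → ℤ) : ℕ → ℕ → ℤ := fun j k => (d j : ℤ) * V j k

theorem act_dmul (l n : ℕ) (d : ℕ → ℕ) (V : ℕ → ℕ → ℤ) (y : Fin l → Γ) :
    act l n (dmul d V) y = act l n V (fun j => y j ^ d j) := by
  funext k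
  simp only [act_apply, dmul]
  refine Finset.prod_congr rfl fun j _ => ?_
  rw [zpow_mul, zpow_natCast]

end act

section count

variable {Γ : Type*} [CommGroup Γ]

/-- Data of a Smith decomposition of the `l × l` matrix of selected columns of `B`, together with an
expression of all columns of `B` through the selected ones. -/
structure SmithData (l n : ℕ) (B : ℕ → ℕ → ℤ) where
  sel : ℕ → ℕ
  X : ℕ → ℕ → ℤ
  U : ℕ → ℕ → ℤ
  Ui : ℕ → ℕ → ℤ
  V : ℕ → ℕ → ℤ
  Vi : ℕ → ℕ → ℤ
  d : ℕ → ℕ
  sel_lt : ∀ j < l, sel j < n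
  hX : ∀ i < l, ∀ s < n, B i s = mm l (fun i j => B i (sel j)) X i s
  hS : ∀ i < l, ∀ k < l, B i (sel k) = mm l Ui (dmul d Vi) i k
  hU1 : ∀ i < l, ∀ k < l, mm l Ui U i k = idm i k
  hU2 : ∀ i < l, ∀ k < l, mm l U Ui i k = idm i k
  hV : ∀ i < l, ∀ k < l, mm l Vi V i k = idm i k

variable {l n : ℕ} {B : ℕ → ℕ → ℤ}

theorem SmithData.mem_ker_iff (S : SmithData l n B) (c : Fin l → Γ) :
    act l n B c = 1 ↔ ∀ j : Fin l, (act l l S.Ui c) j ^ S.d j = 1 := by
  set Bs : ℕ → ℕ → ℤ := fun i j => B i (S.sel j) with hBs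
  have key : act l l Bs c = act l l S.Vi (fun j => (act l l S.Ui c) j ^ S.d j) := by
    have h1 : (act l l Bs : (Fin l → Γ) →* _) = act l l (mm l S.Ui (dmul S.d S.Vi)) :=
      act_congr l l (fun i hi k hk => S.hS i hi k hk)
    rw [h1, ← act_act, act_dmul]
  constructor
  · intro h
    have h2 : act l l Bs c = 1 := by
      funext j
      have := congrFun h ⟨S.sel j, S.sel_lt j j.2⟩
      simpa [act_apply, hBs] using this
    rw [key] at h2
    have h3 := congrArg (act l l S.V) h2
    rw [act_act, act_eq_self_of_eq_idm l S.hV, map_one] at h3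
    intro j
    exact congrFun h3 j
  · intro h
    have h2 : act l l Bs c = 1 := by
      rw [key]
      have : (fun j => (act l l S.Ui c) j ^ S.d j) = (1 : Fin l → Γ) := funext h
      rw [this, map_one]
    have h1 : (act l n B : (Fin l → Γ) →* _) = act l n (mm l Bs S.X) :=
      act_congr l n (fun i hi s hs => S.hX i hi s hs)
    rw [h1, ← act_act, h2, map_one]

/-- the kernel of `act B` is in bijection with the product of the `d_j`-torsion subgroups -/
noncomputable def SmithData.kerEquiv (S : SmithData l n B) :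
    (act l n B : (Fin l → Γ) →* (Fin n → Γ)).ker ≃ ((j : Fin l) → {γ : Γ // γ ^ S.d j = 1}) where
  toFun c := fun j => ⟨(act l l S.Ui c.1) j, (S.mem_ker_iff c.1).mp (MonoidHom.mem_ker.mp c.2) j⟩
  invFun y := ⟨act l l S.U (fun j => (y j).1), by
    rw [MonoidHom.mem_ker, S.mem_ker_iff]
    intro j
    rw [act_act, act_eq_self_of_eq_idm l S.hU2]
    exact (y j).2⟩
  left_inv c := by
    apply Subtype.ext
    show act l l S.U (fun j => (act l l S.Ui c.1) j) = c.1
    rw [show (fun j => (act l l S.Ui c.1) j) = act l l S.Ui c.1 from rfl, act_act,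
      act_eq_self_of_eq_idm l S.hU1]
  right_inv y := by
    funext j
    apply Subtype.ext
    show (act l l S.Ui (act l l S.U (fun j => (y j).1))) j = (y j).1
    rw [act_act, act_eq_self_of_eq_idm l S.hU2]

theorem SmithData.card_ker [Finite Γ] [IsCyclic Γ] (S : SmithData l n B) :
    Nat.card (act l n B : (Fin l → Γ) →* (Fin n → Γ)).ker =
      ∏ j : Fin l, (Nat.card Γ).gcd (S.d j) := by
  rw [Nat.card_congr S.kerEquiv, Nat.card_pi]
  refine Finset.prod_congr rfl fun j _ => ?_
  rw [← IsCyclic.card_powMonoidHom_ker Γ (S.d j)]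
  apply Nat.card_congr
  exact Equiv.subtypeEquivRight (fun γ => by rw [MonoidHom.mem_ker, powMonoidHom_apply])

end count

end Cfsg.Agent.Lib.Helper76.MonomialAct
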