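import Cfsg.Agent.Lib.Helper24.HStruct
import Cfsg.Agent.Lib.Helper76.MonomialAct

/-!
# The order of the diagonal subgroup `H` of a Chevalley group

`H` is the image of `(Fˣ)^rank` under `c ↦ ∏_i h_{p_i}(c_i)`; the kernel is counted from a Smith
decomposition of the Cartan matrix (supplied as a table certificate).
-/

set_option autoImplicit false

namespace Cfsg.Agent.Lib.Helper76.ChevTorus

open Cfsg.Lie Cfsg.Agent.Lib.Helper24 Cfsg.Agent.Lib.Helper76.MonomialAct

theorem list_range_prod {M : Type*} [CommMonoid M] (f : ℕ → M) (n : ℕ) :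
    ((List.range n).map f).prod = ∏ i : Fin n, f i := by
  induction n with
  | zero => simp
  | succ n ih =>
    rw [List.range_succ, List.map_append, List.prod_append, ih, Fin.prod_univ_castSucc]
    simp

theorem list_range_sum (f : ℕ → ℤ) (n : ℕ) :
    ((List.range n).map f).sum = ∑ i : Fin n, f i := by
  induction n with
  | zero => simp
  | succ n ih =>
    rw [List.range_succ, List.map_append, List.sum_append, ih, Fin.sum_univ_castSucc]
    simp

section diag

variable {F : Type*} [Field F] {m : Type*} [Fintype m] [DecidableEq m]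

/-- diagonal matrices with unit entries -/
def diagU : (m → Fˣ) →* GL m F where
  toFun f := ⟨Matrix.diagonal (fun i => (f i : F)), Matrix.diagonal (fun i => (((f i)⁻¹ : Fˣ) : F)), by
      rw [Matrix.diagonal_mul_diagonal]; simp, by rw [Matrix.diagonal_mul_diagonal]; simp⟩
  map_one' := by apply Units.ext; simp
  map_mul' f g := by apply Units.ext; simp [Matrix.diagonal_mul_diagonal]

theorem diagU_val (f : m → Fˣ) :
    ((diagU f : GL m F) : Matrix m m F) = Matrix.diagonal (fun i => (f i : F)) := rfl

theorem diagU_injective : Function.Injective (diagU : (m → Fˣ) →* GL m F) := by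
  intro f g h
  have h1 := congrArg (fun u : GL m F => (u : Matrix m m F)) h
  simp only [diagU_val] at h1
  have h2 := Matrix.diagonal_injective h1
  funext i
  exact Units.ext (congrFun h2 i)

end diag

section torus

variable {F : Type*} [Field F] (D : ChevalleyDatum)

/-- the Cartan integers `A_{p_i, s}` as an integer matrix -/
def cart : ℕ → ℕ → ℤ := fun i s => D.cartan i s

/-- the diagonal entries of `∏_i h_{p_i}(c_i)` -/
def entHom : (Fin D.rank → Fˣ) →* (D.Idx → Fˣ) where
  toFun c idx := Sum.elim (fun _ => 1) (fun s => act D.rank D.nroots (cart D) c s) idx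
  map_one' := by
    funext idx
    rcases idx with i | s
    · rfl
    · simp only [Sum.elim_inr, map_one, Pi.one_apply]
  map_mul' c c' := by
    funext idx
    rcases idx with i | s
    · simp
    · simp only [Sum.elim_inr, map_mul, Pi.mul_apply]

/-- the torus parametrisation -/
def torusHom : (Fin D.rank → Fˣ) →* GL D.Idx F := (diagU).comp (entHom D)

theorem torusHom_val (c : Fin D.rank → Fˣ) :
    ((torusHom D c : GL D.Idx F) : Matrix D.Idx D.Idx F) =
      Matrix.diagonal (fun idx => ((entHom D c idx : Fˣ) : F)) := rfl

theorem torusHom_ker : (torusHom (F := F) D).ker = (act D.rank D.nroots (cart D) : (Fin D.rank → Fˣ) →* _).ker := by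
  ext c
  rw [MonoidHom.mem_ker, MonoidHom.mem_ker]
  constructor
  · intro h
    have h1 : entHom D c = 1 := by
      apply diagU_injective (F := F) (m := D.Idx)
      rw [map_one]; exact h
    funext s
    have := congrFun h1 (Sum.inr s)
    simpa [entHom] using this
  · intro h
    have h1 : entHom D c = 1 := by
      funext idx
      rcases idx with i | s
      · rfl
      · show act D.rank D.nroots (cart D) c s = 1
        rw [h]; rfl
    show diagU (entHom D c) = 1
    rw [h1, map_one]

variable {D}

theorem torusEntry_inl (c : ℕ → F) (i : Fin D.rank) :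
    torusEntry D (List.range D.rank) c (enc D (Sum.inl i)) = 1 := by
  unfold torusEntry
  apply List.prod_eq_one
  intro x hx
  simp only [List.mem_map, List.mem_range] at hx
  obtain ⟨j, _, rfl⟩ := hx
  have : Eexp D j (enc D (Sum.inl i)) = 0 := by
    unfold Eexp enc
    simp [i.2]
  rw [this, zpow_zero]

theorem torusEntry_inr (c : ℕ → F) (s : Fin D.nroots) :
    torusEntry D (List.range D.rank) c (enc D (Sum.inr s)) = ∏ j : Fin D.rank, c j ^ D.cartan j s := by
  unfold torusEntry
  rw [list_range_prod]
  refine Finset.prod_congr rfl fun j _ => ?_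
  have : Eexp D j (enc D (Sum.inr s)) = D.cartan j s := by
    unfold Eexp enc
    simp
  rw [this]

theorem entHom_inr_val (c : Fin D.rank → Fˣ) (s : Fin D.nroots) :
    ((entHom D c (Sum.inr s) : Fˣ) : F) = ∏ j : Fin D.rank, (c j : F) ^ D.cartan j s := by
  show ((act D.rank D.nroots (cart D) c s : Fˣ) : F) = _
  rw [act_apply, Units.coe_prod]
  refine Finset.prod_congr rfl fun j _ => ?_
  rw [Units.val_zpow_eq_zpow_val]
  rfl

/-- `H` is contained in the image of the torus parametrisation -/
theorem diagonal_le_range (hF : Facts D) : D.diagonalSubgroup F ≤ (torusHom (F := F) D).range := by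
  intro g hg
  obtain ⟨c, hc, hgv⟩ := hF.diagonal_torus g hg
  refine ⟨fun i => Units.mk0 (c i) (hc i), ?_⟩
  apply Units.ext
  rw [torusHom_val, hgv]
  congr 1
  funext idx
  rcases idx with i | s
  · rw [torusEntry_inl]; rfl
  · rw [torusEntry_inr, entHom_inr_val]
    rfl

theorem torusHom_mulSingle_val (hF : Facts D) (hS : simpleOK D = true) (i : Fin D.rank) (γ : Fˣ) :
    ((torusHom D (Pi.mulSingle i γ) : GL D.Idx F) : Matrix D.Idx D.Idx F) = D.hMat F (D.simple i) (γ : F) := by
  rw [hF.hMat_root (D.simple i) (simpleOK_spec D hS i i.2).1 (γ : F) γ.ne_zero, torusHom_val]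
  congr 1
  funext idx
  rw [AE_simple D hS i i.2 _ (enc_lt D idx)]
  rcases idx with j | s
  · have : Eexp D i (enc D (Sum.inl j)) = 0 := by
      unfold Eexp enc
      simp [j.2]
    rw [this, zpow_zero]; rfl
  · have : Eexp D i (enc D (Sum.inr s)) = D.cartan i s := by
      unfold Eexp enc
      simp
    rw [this, entHom_inr_val, Finset.prod_eq_single i]
    · rw [Pi.mulSingle_eq_same]
    · intro j _ hji
      rw [Pi.mulSingle_eq_of_ne hji, Units.val_one, one_zpow]
    · intro h; exact absurd (Finset.mem_univ i) h

theorem range_le_diagonal (hF : Facts D) (hS : simpleOK D = true) :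
    (torusHom (F := F) D).range ≤ D.diagonalSubgroup F := by
  rintro g ⟨c, rfl⟩
  show c ∈ (D.diagonalSubgroup F).comap (torusHom D)
  rw [← Finset.univ_prod_mulSingle c]
  apply Subgroup.prod_mem
  intro i _
  show torusHom D (Pi.mulSingle i (c i)) ∈ D.diagonalSubgroup F
  unfold ChevalleyDatum.diagonalSubgroup
  apply Subgroup.subset_closure
  exact ⟨D.simple i, (c i : F), (simpleOK_spec D hS i i.2).1, (c i).ne_zero,
    torusHom_mulSingle_val hF hS i (c i)⟩

theorem range_eq_diagonal (hF : Facts D) (hS : simpleOK D = true) :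
    (torusHom (F := F) D).range = D.diagonalSubgroup F :=
  le_antisymm (range_le_diagonal hF hS) (diagonal_le_range hF)

/-- the order formula for `H` from a Smith decomposition of the Cartan matrix -/
theorem card_diagonal [Fintype F] (hF : Facts D) (hS : simpleOK D = true)
    (S : SmithData D.rank D.nroots (cart D)) :
    (∏ j : Fin D.rank, (Fintype.card F - 1).gcd (S.d j)) * Nat.card (D.diagonalSubgroup F) =
      (Fintype.card F - 1) ^ D.rank := by
  classical
  have hcard : Nat.card Fˣ = Fintype.card F - 1 := by
    rw [Nat.card_eq_fintype_card, Fintype.card_units]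
  rw [← range_eq_diagonal hF hS, ← hcard, ← S.card_ker (Γ := Fˣ), ← torusHom_ker,
    ← Subgroup.index_ker, Subgroup.card_mul_index, Nat.card_fun, Nat.card_fin]

end torus

end Cfsg.Agent.Lib.Helper76.ChevTorus
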