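import Cfsg.Agent.Lib.Helper76.ReeInvolK
import Cfsg.Agent.Lib.Helper24.CommFormula
import Cfsg.Agent.Lib.Helper24.SimpleTables
import Cfsg.Agent.Lib.Helper76.ChevTorusCard
import Cfsg.Agent.Lib.Helper33.ReeDefs

/-!
# The torus of the Ree group `²G₂` inside `G₂(K)`

* `sMat_mem` : `n_{a+b}(1) n_{3a+b}(1)` lies in `twistedG2 K e`;
* `hMat1_mem` : `h_{a+b}(t^e) h_{3a+b}(t)` lies in `twistedG2 K e`;
* `tor c₀ c₁ = h_a(c₀) h_b(c₁)` : the (injective) torus parametrisation of `G₂(K)`;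
* `torFix_mem` : `h_a(τ^e) h_b(τ)` lies in `twistedG2 K e` for all `τ` (characteristic 3, `e` odd,
  `t ^ (3 e²) = t`); the elements `h_{a+b}(t^e) h_{3a+b}(t)` only give the squares, the other
  coset comes from the involution `h_a(-1) h_b(-1)` (`invol_mem`).
-/

set_option autoImplicit false

namespace Cfsg.Agent.Lib.Helper76.Ree

open Cfsg.Lie Cfsg.Agent.Lib.Helper24 Cfsg.Agent.Lib.Helper33.Ree
  Cfsg.Agent.Lib.Helper76.ChevTorus Cfsg.Agent.Lib.Helper76.MonomialAct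

section npart

variable {K : Type*} [Field K]

theorem xGL_commute (r s : ℕ) (h : commFullOK chevG2 r s = true) (h0 : chevG2.commTerms r s = [])
    (t u : K) : Commute (factsG2.xGL s u) (factsG2.xGL r t) := by
  have h1 := factsG2.comm_of_commFullOK r s h t u
  have h2 : chevG2.commWord K r s t u = [] := by rw [ChevalleyDatum.commWord, h0]; rfl
  rw [h2] at h1
  show _ * _ = _ * _
  simpa [Facts.wordGL] using h1

theorem comm_8_10 (t u : K) : Commute (factsG2.xGL 10 u) (factsG2.xGL 8 t) :=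
  xGL_commute 8 10 (by decide +kernel) (by decide) t u
theorem comm_8_1 (t u : K) : Commute (factsG2.xGL 1 u) (factsG2.xGL 8 t) :=
  xGL_commute 8 1 (by decide +kernel) (by decide) t u
theorem comm_3_10 (t u : K) : Commute (factsG2.xGL 10 u) (factsG2.xGL 3 t) :=
  xGL_commute 3 10 (by decide +kernel) (by decide) t u
theorem comm_3_1 (t u : K) : Commute (factsG2.xGL 1 u) (factsG2.xGL 3 t) :=
  xGL_commute 3 1 (by decide +kernel) (by decide) t u

theorem ree_neg8 : chevG2.neg 8 = 3 := by decide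
theorem ree_neg10 : chevG2.neg 10 = 1 := by decide

theorem nGL8 (c : K) : factsG2.nGL 8 c = factsG2.xGL 8 c * factsG2.xGL 3 (-c⁻¹) * factsG2.xGL 8 c := by
  rw [Facts.nGL_def, ree_neg8]
theorem nGL10 (c : K) : factsG2.nGL 10 c = factsG2.xGL 10 c * factsG2.xGL 1 (-c⁻¹) * factsG2.xGL 10 c := by
  rw [Facts.nGL_def, ree_neg10]

theorem nGL_commute (c d : K) : Commute (factsG2.nGL 10 d) (factsG2.nGL 8 c) := by
  rw [nGL8, nGL10]
  have a1 := comm_8_10 c d
  have a2 := comm_8_1 c (-d⁻¹)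
  have a3 := comm_3_10 (-c⁻¹) d
  have a4 := comm_3_1 (-c⁻¹) (-d⁻¹)
  exact ((a1.mul_right a3).mul_right a1).mul_left (((a2.mul_right a4).mul_right a2)) |>.mul_left
    ((a1.mul_right a3).mul_right a1)

theorem wordU_0s0 (e : ℕ) (he : e ≠ 0) (s : K) :
    factsG2.wordGL (reeWordU e 0 s 0) = factsG2.xGL 8 (s ^ e) * factsG2.xGL 10 s := by
  simp [Facts.wordGL, reeWordU, g2a, g2b, g2ab, g2aab, g2aaab, g2aaabb, zero_pow he, Facts.xGL_zero]

theorem wordV_0s0 (e : ℕ) (he : e ≠ 0) (s : K) :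
    factsG2.wordGL (reeWordV e 0 s 0) = factsG2.xGL 3 (-(s ^ e)) * factsG2.xGL 1 (-s) := by
  have h : reeWordV e (0 : K) s 0 = [(4, 0), (5, 0), (3, -(s ^ e)), (2, 0), (1, -s), (0, 0)] := by
    simp [reeWordV, reeWordU, g2a, g2b, g2ab, g2aab, g2aaab, g2aaabb, zero_pow he,
      ChevalleyDatum.negWord, chevG2, chevG2NegIdx]
  rw [h]
  simp [Facts.wordGL, Facts.xGL_zero]

/-- `n_{a+b}(s^e) n_{3a+b}(s)` as a product of three generators -/
theorem nn_eq (e : ℕ) (he : e ≠ 0) (s : K) :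
    factsG2.nGL 8 (s ^ e) * factsG2.nGL 10 s =
      factsG2.wordGL (reeWordU e 0 s 0) * factsG2.wordGL (reeWordV e 0 s⁻¹ 0) *
        factsG2.wordGL (reeWordU e 0 s 0) := by
  rw [wordU_0s0 e he, wordV_0s0 e he, nGL8, nGL10, inv_pow]
  have a1 := comm_8_10 (s ^ e) s
  have a3 := comm_3_10 (-(s ^ e)⁻¹) s
  have a2 := comm_8_1 (s ^ e) (-s⁻¹)
  set A := factsG2.xGL 8 (s ^ e)
  set B := factsG2.xGL 10 s
  set C := factsG2.xGL 3 (-(s ^ e)⁻¹)
  set D := factsG2.xGL 1 (-s⁻¹)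
  -- A C A B D B = A B C D A B
  have e1 : B * C = C * B := a3.eq
  have e2 : D * A = A * D := a2.eq
  have e3 : B * A = A * B := a1.eq
  calc A * C * A * (B * D * B) = A * C * (A * B) * D * B := by group
    _ = A * C * (B * A) * D * B := by rw [e3]
    _ = A * (C * B) * (A * D) * B := by group
    _ = A * (B * C) * (D * A) * B := by rw [e1, e2]
    _ = A * B * (C * D) * (A * B) := by group

theorem nn_mem (e : ℕ) (he : e ≠ 0) (s : K) :
    factsG2.nGL 8 (s ^ e) * factsG2.nGL 10 s ∈ twistedG2 K e := by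
  rw [nn_eq e he]
  exact Subgroup.mul_mem _ (Subgroup.mul_mem _ (wordU_mem e _ _ _) (wordV_mem e _ _ _))
    (wordU_mem e _ _ _)

/-- `s = n_{a+b}(1) n_{3a+b}(1)` lies in the Ree group -/
theorem sMat_mem (e : ℕ) (he : e ≠ 0) (g : GL chevG2.Idx K)
    (hg : (g : Matrix chevG2.Idx chevG2.Idx K) = sMat K) : g ∈ twistedG2 K e := by
  have e1 : g = factsG2.nGL 8 ((1 : K) ^ e) * factsG2.nGL 10 1 := by
    apply Units.ext
    rw [hg, one_pow, Units.val_mul]
    simp only [Facts.nGL, Facts.wordGL_val]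
    rfl
  rw [e1]
  exact nn_mem e he 1

theorem hGL_eq (r : ℕ) (c : K) :
    factsG2.wordGL (chevG2.hWord r c) = factsG2.nGL r c * factsG2.nGL r (-1) := by
  simp [Facts.wordGL, Facts.nGL, ChevalleyDatum.hWord, List.map_append, List.prod_append]

/-- `h_{a+b}(t^e) h_{3a+b}(t)` lies in the Ree group -/
theorem hMat1_mem (e : ℕ) (he : Odd e) (t : K) (g : GL chevG2.Idx K)
    (hg : (g : Matrix chevG2.Idx chevG2.Idx K) = hMat1 K e t) : g ∈ twistedG2 K e := by
  have he0 : e ≠ 0 := by rintro rfl; simp at he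
  have e1 : g = factsG2.wordGL (chevG2.hWord 8 (t ^ e)) * factsG2.wordGL (chevG2.hWord 10 t) := by
    apply Units.ext
    rw [hg, Units.val_mul, Facts.wordGL_val, Facts.wordGL_val]
    rfl
  rw [e1, hGL_eq, hGL_eq]
  have c1 := nGL_commute (K := K) (-1) t
  have h1 : (-1 : K) ^ e = -1 := he.neg_one_pow
  have e2 : factsG2.nGL 8 (t ^ e) * factsG2.nGL 8 (-1) * (factsG2.nGL 10 t * factsG2.nGL 10 (-1)) =
      (factsG2.nGL 8 (t ^ e) * factsG2.nGL 10 t) * (factsG2.nGL 8 ((-1) ^ e) * factsG2.nGL 10 (-1)) := by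
    rw [h1]
    have := c1.eq
    calc factsG2.nGL 8 (t ^ e) * factsG2.nGL 8 (-1) * (factsG2.nGL 10 t * factsG2.nGL 10 (-1))
        = factsG2.nGL 8 (t ^ e) * (factsG2.nGL 8 (-1) * factsG2.nGL 10 t) * factsG2.nGL 10 (-1) := by group
      _ = factsG2.nGL 8 (t ^ e) * (factsG2.nGL 10 t * factsG2.nGL 8 (-1)) * factsG2.nGL 10 (-1) := by
          rw [this]
      _ = _ := by group
  rw [e2]
  exact Subgroup.mul_mem _ (nn_mem e he0 t) (nn_mem e he0 (-1))

end npart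

section torus

variable {K : Type*} [Field K]

/-- the two simple-root indices -/
def i0 : Fin chevG2.rank := ⟨0, by decide⟩
def i1 : Fin chevG2.rank := ⟨1, by decide⟩

theorem fin_rank_cases (i : Fin chevG2.rank) : i = i0 ∨ i = i1 := by
  rcases i with ⟨i, hi⟩
  have h2 : i < 2 := hi
  have : i = 0 ∨ i = 1 := by omega
  rcases this with rfl | rfl
  · left; rfl
  · right; rfl

theorem i0_ne_i1 : i0 ≠ i1 := by decide

/-- the parameter `(c₀, c₁)` -/
def par (c₀ c₁ : Kˣ) : Fin chevG2.rank → Kˣ := fun i => if i = i0 then c₀ else c₁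

@[simp] theorem par_i0 (c₀ c₁ : Kˣ) : par c₀ c₁ i0 = c₀ := by simp [par]
@[simp] theorem par_i1 (c₀ c₁ : Kˣ) : par c₀ c₁ i1 = c₁ := by simp [par, i0_ne_i1.symm]

theorem par_ext {f g : Fin chevG2.rank → Kˣ} (h0 : f i0 = g i0) (h1 : f i1 = g i1) : f = g := by
  funext i
  rcases fin_rank_cases i with rfl | rfl
  · exact h0
  · exact h1

/-- the torus element `h_a(c₀) h_b(c₁)` of `G₂(K)` -/
noncomputable def tor (c₀ c₁ : Kˣ) : GL chevG2.Idx K := torusHom chevG2 (par c₀ c₁)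

theorem tor_mul (c₀ c₁ d₀ d₁ : Kˣ) : tor c₀ c₁ * tor d₀ d₁ = tor (c₀ * d₀) (c₁ * d₁) := by
  unfold tor
  rw [← map_mul]
  congr 1
  apply par_ext <;> simp

theorem tor_one : tor (1 : Kˣ) 1 = 1 := by
  unfold tor
  rw [← map_one (torusHom (F := K) chevG2)]
  congr 1
  apply par_ext <;> simp

/-- general form: `h_r(c)` in the torus parametrisation -/
theorem hMat_eq_torusHom {D : ChevalleyDatum} (hF : Facts D) (r : ℕ) (hr : r < D.nroots) (c : Kˣ) :
    D.hMat K r (c : K) =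
      ((torusHom D (fun i : Fin D.rank => c ^ ((D.coroot.getD r #[]).getD i 0)) : GL D.Idx K) :
        Matrix D.Idx D.Idx K) := by
  rw [hF.hMat_root r hr (c : K) c.ne_zero, torusHom_val]
  congr 1
  funext idx
  rcases idx with i | s
  · have : AE D r (enc D (Sum.inl i)) = 0 := by
      unfold AE enc
      simp [i.2]
    rw [this, zpow_zero]; rfl
  · have h1 : AE D r (enc D (Sum.inr s)) = Aroot D r s := by
      unfold AE enc
      simp
    rw [h1, entHom_inr_val]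
    unfold Aroot
    rw [list_range_sum]
    rw [← Units.val_zpow_eq_zpow_val, ← prod_zpow_eq_zpow_sum, Units.coe_prod]
    refine Finset.prod_congr rfl fun j _ => ?_
    simp only [zpow_mul, Units.val_zpow_eq_zpow_val]

theorem tor_val (c₀ c₁ : Kˣ) :
    ((tor c₀ c₁ : GL chevG2.Idx K) : Matrix chevG2.Idx chevG2.Idx K) =
      chevG2.hMat K 7 (c₀ : K) * chevG2.hMat K 6 (c₁ : K) := by
  have h0 := torusHom_mulSingle_val (F := K) factsG2 simpleOK_G2 i0 c₀
  have h1 := torusHom_mulSingle_val (F := K) factsG2 simpleOK_G2 i1 c₁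
  have e0 : chevG2.simple (i0 : ℕ) = 7 := by decide
  have e1 : chevG2.simple (i1 : ℕ) = 6 := by decide
  rw [e0] at h0
  rw [e1] at h1
  rw [← h0, ← h1, ← Units.val_mul, ← map_mul]
  unfold tor
  congr 2
  apply par_ext
  · simp [i0_ne_i1]
  · simp [i0_ne_i1.symm]

/-- `h_{a+b}(c) = h_a(c) h_b(c³)` -/
theorem hMat8 (c : Kˣ) : chevG2.hMat K 8 (c : K) = ((tor c (c ^ 3) : GL chevG2.Idx K) : Matrix _ _ K) := by
  rw [hMat_eq_torusHom factsG2 8 (by decide) c]
  unfold tor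
  congr 2
  apply par_ext
  · rw [par_i0]
    show c ^ ((chevG2.coroot.getD 8 #[]).getD 0 0) = c
    have : (chevG2.coroot.getD 8 #[]).getD 0 0 = 1 := by decide
    rw [this, zpow_one]
  · rw [par_i1]
    show c ^ ((chevG2.coroot.getD 8 #[]).getD 1 0) = c ^ 3
    have : (chevG2.coroot.getD 8 #[]).getD 1 0 = 3 := by decide
    rw [this]
    norm_cast

/-- `h_{3a+b}(c) = h_a(c) h_b(c)` -/
theorem hMat10 (c : Kˣ) : chevG2.hMat K 10 (c : K) = ((tor c c : GL chevG2.Idx K) : Matrix _ _ K) := by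
  rw [hMat_eq_torusHom factsG2 10 (by decide) c]
  unfold tor
  congr 2
  apply par_ext
  · rw [par_i0]
    show c ^ ((chevG2.coroot.getD 10 #[]).getD 0 0) = c
    have : (chevG2.coroot.getD 10 #[]).getD 0 0 = 1 := by decide
    rw [this, zpow_one]
  · rw [par_i1]
    show c ^ ((chevG2.coroot.getD 10 #[]).getD 1 0) = c
    have : (chevG2.coroot.getD 10 #[]).getD 1 0 = 1 := by decide
    rw [this, zpow_one]

/-- the torus parametrisation of `G₂` is injective -/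
theorem tor_injective (c₀ c₁ d₀ d₁ : Kˣ) (h : tor c₀ c₁ = tor d₀ d₁) : c₀ = d₀ ∧ c₁ = d₁ := by
  have key : ∀ a b : Kˣ, tor a b = 1 → a = 1 ∧ b = 1 := by
    intro a b hab
    have hk : par a b ∈ (torusHom (F := K) chevG2).ker := hab
    rw [torusHom_ker, MonoidHom.mem_ker] at hk
    have h7 := congrFun hk (⟨7, by decide⟩ : Fin chevG2.nroots)
    have h6 := congrFun hk (⟨6, by decide⟩ : Fin chevG2.nroots)
    rw [act_apply] at h7 h6
    have p7 : ∏ i : Fin chevG2.rank, par a b i ^ cart chevG2 i ((⟨7, by decide⟩ : Fin chevG2.nroots) : ℕ) =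
        a ^ (2 : ℤ) * b ^ (-1 : ℤ) := by
      show ∏ i : Fin 2, _ = _
      rw [Fin.prod_univ_two]
      rfl
    have p6 : ∏ i : Fin chevG2.rank, par a b i ^ cart chevG2 i ((⟨6, by decide⟩ : Fin chevG2.nroots) : ℕ) =
        a ^ (-3 : ℤ) * b ^ (2 : ℤ) := by
      show ∏ i : Fin 2, _ = _
      rw [Fin.prod_univ_two]
      rfl
    rw [p7] at h7
    rw [p6] at h6
    have hb : b = a ^ 2 := by
      have : a ^ (2 : ℤ) * b ^ (-1 : ℤ) = 1 := h7
      rw [zpow_neg_one, mul_inv_eq_one] at this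
      rw [← this]; norm_cast
    have ha : a = 1 := by
      have : a ^ (-3 : ℤ) * b ^ (2 : ℤ) = 1 := h6
      rw [hb] at this
      have h3 : (a ^ 2) ^ (2 : ℤ) = a ^ (4 : ℤ) := by
        rw [← zpow_natCast a 2, ← zpow_mul]; norm_num
      rw [h3, ← zpow_add] at this
      simpa using this
    rw [ha] at hb
    exact ⟨ha, by simpa using hb⟩
  have h1 : tor (c₀ * d₀⁻¹) (c₁ * d₁⁻¹) = 1 := by
    rw [← tor_mul, h]
    rw [tor_mul, mul_inv_cancel, mul_inv_cancel, tor_one]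
  obtain ⟨ha, hb⟩ := key _ _ h1
  exact ⟨mul_inv_eq_one.mp ha, mul_inv_eq_one.mp hb⟩

/-- every element of `H` is a `tor c₀ c₁` -/
theorem exists_tor_of_mem_diagonal (g : GL chevG2.Idx K) (hg : g ∈ chevG2.diagonalSubgroup K) :
    ∃ c₀ c₁ : Kˣ, g = tor c₀ c₁ := by
  obtain ⟨c, rfl⟩ := diagonal_le_range factsG2 hg
  refine ⟨c i0, c i1, ?_⟩
  unfold tor
  congr 1
  apply par_ext <;> simp

theorem tor_mem_diagonal (c₀ c₁ : Kˣ) : tor c₀ c₁ ∈ chevG2.diagonalSubgroup K := by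
  rw [← range_eq_diagonal factsG2 simpleOK_G2]
  exact ⟨_, rfl⟩

end torus

section fixedTorus

variable {K : Type*} [Field K]

/-- `h_{a+b}(t^e) h_{3a+b}(t) = h_a(t^(e+1)) h_b(t^(3e+1))` lies in the Ree group -/
theorem torA_mem (e : ℕ) (he : Odd e) (t : Kˣ) :
    tor (t ^ (e + 1)) (t ^ (3 * e + 1)) ∈ twistedG2 K e := by
  have h1 : tor (t ^ (e + 1)) (t ^ (3 * e + 1)) = tor (t ^ e) ((t ^ e) ^ 3) * tor t t := by
    rw [tor_mul]
    congr 1
    · rw [pow_succ]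
    · rw [pow_succ, ← pow_mul, mul_comm e 3]
  rw [h1]
  apply hMat1_mem e he (t : K)
  rw [Units.val_mul, ← hMat8, ← hMat10]
  simp only [Units.val_pow_eq_pow_val]
  rfl

theorem unit_pow_of_theta (e : ℕ) (hθ : ∀ t : K, t ^ (3 * e * e) = t) (ρ : Kˣ) :
    ρ ^ (3 * e * e) = ρ := by
  apply Units.ext
  rw [Units.val_pow_eq_pow_val]
  exact hθ _

/-- the fixed torus lies in the Ree group -/
theorem torFix_mem [CharP K 3] (e : ℕ) (he : Odd e) (hθ : ∀ t : K, t ^ (3 * e * e) = t) (τ : Kˣ) :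
    tor (τ ^ e) τ ∈ twistedG2 K e := by
  obtain ⟨k, rfl⟩ := he
  have hN : ∀ ρ : Kˣ, ρ ^ (12 * k * k + 12 * k + 2) = 1 := by
    intro ρ
    have h := unit_pow_of_theta (2 * k + 1) hθ ρ
    have e1 : 3 * (2 * k + 1) * (2 * k + 1) = (12 * k * k + 12 * k + 2) + 1 := by ring
    rw [e1, pow_succ] at h
    exact mul_eq_right.mp h |> fun h' => by simpa using h'
  -- squares
  have hsq : ∀ ρ : Kˣ, tor ((ρ ^ 2) ^ (2 * k + 1)) (ρ ^ 2) ∈ twistedG2 K (2 * k + 1) := by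
    intro ρ
    have h := torA_mem (2 * k + 1) ⟨k, rfl⟩ (ρ ^ (6 * k + 2))
    have e1 : (ρ ^ (6 * k + 2)) ^ (2 * k + 1 + 1) = (ρ ^ 2) ^ (2 * k + 1) := by
      rw [← pow_mul, ← pow_mul]
      have : (6 * k + 2) * (2 * k + 1 + 1) = (12 * k * k + 12 * k + 2) + 2 * (2 * k + 1) := by ring
      rw [this, pow_add, hN, one_mul]
    have e2 : (ρ ^ (6 * k + 2)) ^ (3 * (2 * k + 1) + 1) = ρ ^ 2 := by
      rw [← pow_mul]
      have : (6 * k + 2) * (3 * (2 * k + 1) + 1) = (12 * k * k + 12 * k + 2) * 3 + 2 := by ring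
      rw [this, pow_add, pow_mul, hN, one_pow, one_mul]
    rwa [e1, e2] at h
  set ε : Kˣ := τ ^ (6 * k * k + 6 * k + 1) with hε
  set ρ : Kˣ := (τ ^ (3 * k * k + 3 * k))⁻¹ with hρ
  have hε2 : ε ^ 2 = 1 := by
    rw [hε, ← pow_mul]
    have : (6 * k * k + 6 * k + 1) * 2 = 12 * k * k + 12 * k + 2 := by ring
    rw [this, hN]
  have hτ : τ = ε * ρ ^ 2 := by
    rw [hε, hρ, inv_pow, ← pow_mul]
    have : 6 * k * k + 6 * k + 1 = (3 * k * k + 3 * k) * 2 + 1 := by ring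
    rw [this, pow_succ]
    group
  have hsplit : tor (τ ^ (2 * k + 1)) τ =
      tor (ε ^ (2 * k + 1)) ε * tor ((ρ ^ 2) ^ (2 * k + 1)) (ρ ^ 2) := by
    rw [tor_mul, ← mul_pow, ← hτ]
  rw [hsplit]
  refine Subgroup.mul_mem _ ?_ (hsq ρ)
  have hcases : ε = 1 ∨ ε = -1 := by
    have h1 : ((ε : K)) ^ 2 = 1 := by
      rw [← Units.val_pow_eq_pow_val, hε2, Units.val_one]
    rcases sq_eq_one_iff.mp h1 with h | h
    · left; exact Units.ext h
    · right; apply Units.ext; rw [h]; simp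
  rcases hcases with h | h
  · rw [h, one_pow, tor_one]; exact Subgroup.one_mem _
  · rw [h, Odd.neg_one_pow ⟨k, rfl⟩]
    apply invol_mem (2 * k + 1) ⟨k, rfl⟩
    rw [tor_val]
    simp

end fixedTorus

end Cfsg.Agent.Lib.Helper76.Ree
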