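import Cfsg.Agent.Lib.Helper24.F4Peel
import Cfsg.Agent.Lib.Helper24.Nil

/-!
# The exponent of the positive unipotent subgroup of `F₄(K)` in characteristic 2

For `u ∈ U`, the matrix `u - 1` raises the height grading of the adjoint module (23 levels, `-11, ..., 11`),
so `(u - 1) ^ 23 = 0` and `u ^ 32 = 1 + (u - 1) ^ 32 = 1` in characteristic 2.
-/

set_option autoImplicit false
set_option maxRecDepth 100000

namespace Cfsg.Agent.Lib.Helper76.F4X

open Cfsg.Lie Cfsg.Agent.Lib.Helper24 Cfsg.Agent.Lib.Helper33.F4 Cfsg.Agent.Lib.Helper24.F4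

/-- the height grading takes its values in `[-11, 11]` -/
theorem grade_range : ∀ k < 52, -11 ≤ gradeE chevF4 f4Lam k ∧ gradeE chevF4 f4Lam k ≤ 11 := by
  decide +kernel

/-- the level of an index: height plus 11 -/
def lev (a : chevF4.Idx) : ℕ := (gradeE chevF4 f4Lam (enc chevF4 a) + 11).toNat

theorem lev_le (a : chevF4.Idx) : lev a ≤ 22 := by
  have h := grade_range (enc chevF4 a) (enc_lt chevF4 a)
  unfold lev
  omega

theorem lev_lt_iff (a b : chevF4.Idx) :
    lev a < lev b + 1 ↔ gradeE chevF4 f4Lam (enc chevF4 a) ≤ gradeE chevF4 f4Lam (enc chevF4 b) := by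
  have ha := grade_range (enc chevF4 a) (enc_lt chevF4 a)
  have hb := grade_range (enc chevF4 b) (enc_lt chevF4 b)
  unfold lev
  omega

variable {K : Type*} [Field K]

/-- `u - 1` raises the level -/
theorem Lk_sub_one (u : GL chevF4.Idx K) (hu : u ∈ chevF4.posUnipotent K) :
    Lk lev 1 ((u : Matrix chevF4.Idx chevF4.Idx K) - 1) := by
  have hup := (envF4 K).hF.closure_isUpper f4Lam 0 le_rfl chevF4.IsPosRoot
    (fun s hs => ⟨hs.1, f4_g0 s hs.1 hs⟩) u hu
  have hdiag := ((envF4 K).hF.pos_le_uniTri hu).2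
  intro a b hab
  rw [lev_lt_iff] at hab
  rw [Matrix.sub_apply]
  by_cases e : a = b
  · subst e
    rw [hdiag a, Matrix.one_apply_eq, sub_self]
  · rw [Matrix.one_apply_ne e, sub_zero]
    by_contra hne
    have := hup a b e hne
    simp only at this
    omega

theorem Lk_pow {M : Matrix chevF4.Idx chevF4.Idx K} (h : Lk lev 1 M) (k : ℕ) : Lk lev k (M ^ k) := by
  induction k with
  | zero => rw [pow_zero]; exact Lk_one lev
  | succ k ih => rw [pow_succ]; exact ih.mul h

theorem eq_zero_of_Lk {M : Matrix chevF4.Idx chevF4.Idx K} (h : Lk lev 23 M) : M = 0 := by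
  ext a b
  have := lev_le a
  exact h a b (by omega)

/-- `(u - 1) ^ 23 = 0` -/
theorem sub_one_pow (u : GL chevF4.Idx K) (hu : u ∈ chevF4.posUnipotent K) :
    ((u : Matrix chevF4.Idx chevF4.Idx K) - 1) ^ 23 = 0 :=
  eq_zero_of_Lk (Lk_pow (Lk_sub_one u hu) 23)

/-- `u ^ 32 = 1` in characteristic 2 -/
theorem pow_32 [CharP K 2] (u : GL chevF4.Idx K) (hu : u ∈ chevF4.posUnipotent K) : u ^ 32 = 1 := by
  apply Units.ext
  rw [Units.val_pow_eq_pow_val, Units.val_one]
  set N := (u : Matrix chevF4.Idx chevF4.Idx K) - 1 with hN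
  have hu1 : (u : Matrix chevF4.Idx chevF4.Idx K) = N + 1 := by rw [hN]; abel
  have h23 : N ^ 23 = 0 := sub_one_pow u hu
  have h32 : N ^ 32 = 0 := by
    have : N ^ 32 = N ^ 23 * N ^ 9 := by rw [← pow_add]
    rw [this, h23, zero_mul]
  have : Fact (Nat.Prime 2) := ⟨Nat.prime_two⟩
  have : Nonempty chevF4.Idx := ⟨Sum.inl ⟨0, by decide⟩⟩
  have hc : Commute N 1 := Commute.one_right N
  have h := add_pow_char_pow_of_commute (p := 2) (n := 5) hc
  have e32 : (2 : ℕ) ^ 5 = 32 := by norm_num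
  rw [e32] at h
  rw [hu1, h, h32, one_pow, zero_add]

end Cfsg.Agent.Lib.Helper76.F4X
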