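import Mathlib

/-!
# Elements of prime power order are conjugate into a given Sylow subgroup
-/

set_option autoImplicit false

namespace Cfsg.Agent.Lib.Helper76.SylowConj

theorem exists_conj_mem {G : Type*} [Group G] [Finite G] (p : ℕ) [Fact p.Prime] (P : Subgroup G)
    (hP : IsPGroup p P) (hidx : ¬ p ∣ P.index) (x : G) (hx : ∃ j : ℕ, orderOf x = p ^ j) :
    ∃ g : G, g * x * g⁻¹ ∈ P := by
  obtain ⟨j, hj⟩ := hx
  have hZ : IsPGroup p (Subgroup.zpowers x) := by
    apply IsPGroup.of_card (n := j)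
    rw [Nat.card_zpowers, hj]
  obtain ⟨Q, hQ⟩ := hZ.exists_le_sylow
  obtain ⟨g, hg⟩ := MulAction.exists_smul_eq G Q (hP.toSylow hidx)
  refine ⟨g, ?_⟩
  have hxQ : x ∈ (Q : Subgroup G) := hQ (Subgroup.mem_zpowers x)
  have h1 : g * x * g⁻¹ ∈ ((g • Q : Sylow p G) : Subgroup G) := by
    rw [Sylow.coe_subgroup_smul]
    have := Subgroup.smul_mem_pointwise_smul x (MulAut.conj g) (Q : Subgroup G) hxQ
    simpa [MulAut.smul_def, MulAut.conj_apply] using this
  rw [hg] at h1
  exact (IsPGroup.mem_toSylow hP hidx).1 h1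

theorem orderOf_conj' {G : Type*} [Group G] (g x : G) : orderOf (g * x * g⁻¹) = orderOf x := by
  have := (MulAut.conj g).toMonoidHom
  have h := MulEquiv.orderOf_eq (MulAut.conj g) x
  rwa [MulAut.conj_apply] at h

end Cfsg.Agent.Lib.Helper76.SylowConj
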