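import Cfsg.Agent.S1068
import Cfsg.Agent.Lib.Helper76.F4Exp
import Cfsg.Agent.Lib.Helper76.SylowConj

/-!
# The 2-elements of `²F₄(q)`: `U ⊓ G¹` is a Sylow 2-subgroup of exponent dividing 32
-/

set_option autoImplicit false

namespace Cfsg.Agent.Lib.Helper76.F4X

open Cfsg.Lie Cfsg.Agent.Lib.Helper24 Cfsg.Agent.Lib.Helper33.F4

theorem odd_cofactor (q : ℕ) (hq : 2 ∣ q) (hq1 : 1 ≤ q) :
    ¬ 2 ∣ (q - 1) * (q ^ 3 + 1) * (q ^ 4 - 1) * (q ^ 6 + 1) := by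
  have h3 : 2 ∣ q ^ 3 := dvd_pow hq (by norm_num)
  have h4 : 2 ∣ q ^ 4 := dvd_pow hq (by norm_num)
  have h6 : 2 ∣ q ^ 6 := dvd_pow hq (by norm_num)
  have h41 : 1 ≤ q ^ 4 := Nat.one_le_pow _ _ hq1
  intro h
  rcases (Nat.Prime.dvd_mul Nat.prime_two).1 h with h | h
  · rcases (Nat.Prime.dvd_mul Nat.prime_two).1 h with h | h
    · rcases (Nat.Prime.dvd_mul Nat.prime_two).1 h with h | h
      · omega
      · omega
    · omega
  · omega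

variable {K : Type*} [Field K] [Fintype K] {m : ℕ}

/-- `U ⊓ G¹` as a subgroup of `G¹` -/
def U1 (K : Type*) [Field K] (e : ℕ) : Subgroup ↥(twistedF4 K e) :=
  (chevF4.posUnipotent K ⊓ twistedF4 K e).subgroupOf (twistedF4 K e)

theorem card_U1 (hK : Fintype.card K = 2 ^ (2 * m + 1)) :
    Nat.card ↥(U1 K (2 ^ m)) = 2 ^ ((2 * m + 1) * 12) := by
  have h1 : Nat.card ↥(U1 K (2 ^ m)) = Nat.card ↥(chevF4.posUnipotent K ⊓ twistedF4 K (2 ^ m)) :=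
    Nat.card_congr (Subgroup.subgroupOfEquivOfLe inf_le_right).toEquiv
  rw [h1, cardU_F4 hK, ← pow_mul]

theorem index_U1 (hK : Fintype.card K = 2 ^ (2 * m + 1)) : ¬ 2 ∣ (U1 K (2 ^ m)).index := by
  have h1 := (U1 K (2 ^ m)).index_mul_card
  rw [card_U1 hK, Cfsg.Agent.S1068.result hK] at h1
  have hq : (2 : ℕ) ^ ((2 * m + 1) * 12) = (2 ^ (2 * m + 1)) ^ 12 := by rw [pow_mul]
  rw [hq] at h1
  have hpos : 0 < ((2 : ℕ) ^ (2 * m + 1)) ^ 12 := by positivity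
  have h2 : (U1 K (2 ^ m)).index = (2 ^ (2 * m + 1) - 1) * ((2 ^ (2 * m + 1)) ^ 3 + 1) *
      ((2 ^ (2 * m + 1)) ^ 4 - 1) * ((2 ^ (2 * m + 1)) ^ 6 + 1) := by
    apply Nat.eq_of_mul_eq_mul_right hpos
    rw [h1]
    ring
  rw [h2]
  exact odd_cofactor _ (dvd_pow_self 2 (by omega)) Nat.one_le_two_pow

/-- every element of 2-power order of `²F₄(q)` has order dividing 32 -/
theorem orderOf_dvd_32 (hK : Fintype.card K = 2 ^ (2 * m + 1)) (x : ↥(twistedF4 K (2 ^ m)))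
    (hx : ∃ j : ℕ, orderOf x = 2 ^ j) : orderOf x ∣ 32 := by
  haveI := charP_two_of_card hK
  haveI : Fact (Nat.Prime 2) := ⟨Nat.prime_two⟩
  have hP : IsPGroup 2 ↥(U1 K (2 ^ m)) := IsPGroup.of_card (card_U1 hK)
  obtain ⟨g, hg⟩ := Cfsg.Agent.Lib.Helper76.SylowConj.exists_conj_mem 2 (U1 K (2 ^ m)) hP
    (index_U1 hK) x hx
  rw [← Cfsg.Agent.Lib.Helper76.SylowConj.orderOf_conj' g x]
  apply orderOf_dvd_of_pow_eq_one
  have h1 : ((g * x * g⁻¹ : ↥(twistedF4 K (2 ^ m))) : GL chevF4.Idx K) ∈ chevF4.posUnipotent K := by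
    have := hg
    rw [U1, Subgroup.mem_subgroupOf] at this
    exact this.1
  apply Subtype.ext
  rw [Subgroup.coe_pow, pow_32 _ h1]
  rfl

end Cfsg.Agent.Lib.Helper76.F4X
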