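import Mathlib

set_option autoImplicit false

namespace Cfsg.Agent.Lib.Helper76

variable {G : Type*} [Group G]

/-- A subgroup normalized by `H` and by `V` is normal when `H ⊔ V = ⊤`. -/
theorem normal_of_sup_eq_top {H V W : Subgroup G} (hHV : H ⊔ V = ⊤)
    (hH : ∀ h ∈ H, ∀ w ∈ W, h * w * h⁻¹ ∈ W) (hV : ∀ v ∈ V, ∀ w ∈ W, v * w * v⁻¹ ∈ W) :
    W.Normal := by
  have key : ∀ g ∈ H ⊔ V, ∀ w ∈ W, g * w * g⁻¹ ∈ W ∧ g⁻¹ * w * g ∈ W := by
    intro g hg
    rw [Subgroup.sup_eq_closure] at hg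
    induction hg using Subgroup.closure_induction with
    | mem x hx =>
      intro w hw
      rcases hx with hx | hx
      · refine ⟨hH x hx w hw, ?_⟩
        have := hH x⁻¹ (H.inv_mem hx) w hw
        rwa [inv_inv] at this
      · refine ⟨hV x hx w hw, ?_⟩
        have := hV x⁻¹ (V.inv_mem hx) w hw
        rwa [inv_inv] at this
    | one => intro w hw; simpa using hw
    | mul x y _ _ ihx ihy =>
      intro w hw
      constructor
      · have h1 := (ihy w hw).1
        have h2 := (ihx _ h1).1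
        have : x * y * w * (x * y)⁻¹ = x * (y * w * y⁻¹) * x⁻¹ := by group
        rwa [this]
      · have h1 := (ihx w hw).2
        have h2 := (ihy _ h1).2
        have : (x * y)⁻¹ * w * (x * y) = y⁻¹ * (x⁻¹ * w * x) * y := by group
        rwa [this]
    | inv x _ ihx =>
      intro w hw
      constructor
      · have := (ihx w hw).2
        rwa [inv_inv]
      · have := (ihx w hw).1
        rwa [inv_inv]
  refine ⟨fun w hw g => (key g ?_ w hw).1⟩
  rw [hHV]; exact Subgroup.mem_top g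

/-- If `N` is normal then `[HN : H] = [N : N ∩ H]`. -/
theorem relIndex_sup_of_normal_right [Finite G] (H N : Subgroup G) [N.Normal] :
    H.relIndex (H ⊔ N) = H.relIndex N := by
  have h1 : (N ⊓ H).relIndex H * H.relIndex (H ⊔ N) = (N ⊓ H).relIndex (H ⊔ N) :=
    Subgroup.relIndex_mul_relIndex _ _ _ inf_le_right le_sup_left
  have h2 : (N ⊓ H).relIndex N * N.relIndex (H ⊔ N) = (N ⊓ H).relIndex (H ⊔ N) :=
    Subgroup.relIndex_mul_relIndex _ _ _ inf_le_left le_sup_right
  have h3 : N.relIndex (H ⊔ N) = N.relIndex H := Subgroup.relIndex_sup_right H N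
  have h4 : (N ⊓ H).relIndex H = N.relIndex H := Subgroup.inf_relIndex_right N H
  have h5 : (N ⊓ H).relIndex N = H.relIndex N := Subgroup.inf_relIndex_left N H
  have h6 : N.relIndex H ≠ 0 := Subgroup.index_ne_zero_of_finite (H := N.subgroupOf H)
  rw [h3, h5] at h2
  rw [h4] at h1
  have : N.relIndex H * H.relIndex (H ⊔ N) = N.relIndex H * H.relIndex N := by
    rw [h1, ← h2, mul_comm]
  exact Nat.eq_of_mul_eq_mul_left (Nat.pos_of_ne_zero h6) this

/-- If `H ⊔ N = ⊤`, `H ⊓ N = ⊥` and `N` is normal then `[G : H] = |N|`. -/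
theorem index_eq_card_of_sup_eq_top_of_inf_eq_bot [Finite G] (H N : Subgroup G) [N.Normal]
    (hsup : H ⊔ N = ⊤) (hinf : H ⊓ N = ⊥) : H.index = Nat.card N := by
  rw [← Subgroup.relIndex_top_right, ← hsup, relIndex_sup_of_normal_right,
    ← Subgroup.inf_relIndex_right, hinf, Subgroup.relIndex_bot_left]

end Cfsg.Agent.Lib.Helper76
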