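import Cfsg.Agent.Lib.Helper76.ChevTorusCert

/-!
# The orders of the diagonal subgroups of the seven tabulated Chevalley data

Stated relative to helper24's `Facts D` and `simpleOK D`, so that this file does not depend on the
heavy table checks.
-/

set_option autoImplicit false

namespace Cfsg.Agent.Lib.Helper76.ChevTorus

open Cfsg.Lie Cfsg.Agent.Lib.Helper24 Cfsg.Agent.Lib.Helper76.MonomialAct

theorem prod_gcd_list (n m : ℕ) (d : ℕ → ℕ) (L : List ℕ) (hn : L.length = n)
    (hd : ∀ j, d j = L.getD j 0) :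
    ∏ j : Fin n, m.gcd (d j) = (L.map fun e => m.gcd e).prod := by
  subst hn
  rw [← list_range_prod (fun j => m.gcd (d j))]
  congr 1
  apply List.ext_getElem
  · simp
  · intro i h1 h2
    simp only [List.length_map, List.length_range] at h1
    simp [hd, h1]

section

variable {F : Type*} [Field F] [Fintype F]

/-- generic form: the product of the `gcd`s with the listed elementary divisors -/
theorem card_diagonal_cert {D : ChevalleyDatum} (hF : Facts D) (hS : simpleOK D = true)
    (C : CertTab) (h : certOK D C = true) (hl : C.d.length = D.rank) :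
    ((C.d.map fun e => (Fintype.card F - 1).gcd e).prod) * Nat.card (D.diagonalSubgroup F) =
      (Fintype.card F - 1) ^ D.rank := by
  rw [← card_diagonal hF hS (smithOfCert D C h),
    prod_gcd_list D.rank (Fintype.card F - 1) (smithOfCert D C h).d C.d hl (fun j => rfl)]

theorem card_diagonal_G2 (hF : Facts chevG2) (hS : simpleOK chevG2 = true) :
    1 * Nat.card (chevG2.diagonalSubgroup F) = (Fintype.card F - 1) ^ chevG2.rank := by
  rw [← card_diagonal_cert hF hS certG2 certOK_G2 rfl]
  have hd : certG2.d = [1, 1] := rfl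
  rw [hd]
  simp

theorem card_diagonal_F4 (hF : Facts chevF4) (hS : simpleOK chevF4 = true) :
    1 * Nat.card (chevF4.diagonalSubgroup F) = (Fintype.card F - 1) ^ chevF4.rank := by
  rw [← card_diagonal_cert hF hS certF4 certOK_F4 rfl]
  have hd : certF4.d = [1, 1, 1, 1] := rfl
  rw [hd]
  simp

theorem card_diagonal_E8 (hF : Facts chevE8) (hS : simpleOK chevE8 = true) :
    1 * Nat.card (chevE8.diagonalSubgroup F) = (Fintype.card F - 1) ^ chevE8.rank := by
  rw [← card_diagonal_cert hF hS certE8 certOK_E8 rfl]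
  have hd : certE8.d = [1, 1, 1, 1, 1, 1, 1, 1] := rfl
  rw [hd]
  simp

theorem card_diagonal_E6 (hF : Facts chevE6) (hS : simpleOK chevE6 = true) :
    Nat.gcd 3 (Fintype.card F - 1) * Nat.card (chevE6.diagonalSubgroup F) =
      (Fintype.card F - 1) ^ chevE6.rank := by
  rw [← card_diagonal_cert hF hS certE6 certOK_E6 rfl]
  have hd : certE6.d = [1, 1, 1, 1, 1, 3] := rfl
  rw [hd]
  simp [Nat.gcd_comm]

theorem card_diagonal_E7 (hF : Facts chevE7) (hS : simpleOK chevE7 = true) :
    Nat.gcd 2 (Fintype.card F - 1) * Nat.card (chevE7.diagonalSubgroup F) =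
      (Fintype.card F - 1) ^ chevE7.rank := by
  rw [← card_diagonal_cert hF hS certE7 certOK_E7 rfl]
  have hd : certE7.d = [1, 1, 1, 1, 1, 1, 2] := rfl
  rw [hd]
  simp [Nat.gcd_comm]

theorem card_diagonal_B2 (hF : Facts chevB2) (hS : simpleOK chevB2 = true) :
    Nat.gcd 2 (Fintype.card F - 1) * Nat.card (chevB2.diagonalSubgroup F) =
      (Fintype.card F - 1) ^ chevB2.rank := by
  rw [← card_diagonal_cert hF hS certB2 certOK_B2 rfl]
  have hd : certB2.d = [1, 2] := rfl
  rw [hd]
  simp [Nat.gcd_comm]

theorem card_diagonal_D4 (hF : Facts chevD4) (hS : simpleOK chevD4 = true) :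
    Nat.gcd 2 (Fintype.card F - 1) ^ 2 * Nat.card (chevD4.diagonalSubgroup F) =
      (Fintype.card F - 1) ^ chevD4.rank := by
  rw [← card_diagonal_cert hF hS certD4 certOK_D4 rfl]
  have hd : certD4.d = [1, 1, 2, 2] := rfl
  rw [hd]
  simp [Nat.gcd_comm, sq]

end

end Cfsg.Agent.Lib.Helper76.ChevTorus
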