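import Cfsg.Agent.Lib.Helper76.F4E

/-!
# `|H ∩ ²F₄| = (q - 1)²` from a twisting automorphism fixing the generators
-/

set_option autoImplicit false

namespace Cfsg.Agent.Lib.Helper76.F4

open Cfsg.Lie Cfsg.Agent.Lib.Helper24 Cfsg.Agent.Lib.Helper33.F4

variable {K : Type*} [Field K] [CharP K 2] {e : ℕ} (S : SigmaF K e)

omit [CharP K 2] in
/-- if the generators are fixed, so is every element of `²F₄` -/
theorem ext_eq_of_mem_twisted
    (h1 : ∀ t : K, S.ext (pGL K e t) = pGL K e t) (h2 : ∀ t : K, S.ext (pGLn K e t) = pGLn K e t)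
    (h3 : ∀ t u : K, S.ext (bGL K e t u) = bGL K e t u)
    (h4 : ∀ t u : K, S.ext (bGLn K e t u) = bGLn K e t u)
    (g : GL chevF4.Idx K) (hg : g ∈ twistedF4 K e) : S.ext g = g := by
  have hgen : ∀ x ∈ genF K e, x ∈ chevF4.group K := by
    intro x hx
    exact twistedF4_le_group (e := e) (by rw [twistedF4_eq_closure]; exact Subgroup.subset_closure hx)
  rw [twistedF4_eq_closure] at hg
  have key : g ∈ chevF4.group K ∧ S.ext g = g := by
    induction hg using Subgroup.closure_induction with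
    | mem x hx =>
      refine ⟨hgen x hx, ?_⟩
      rcases hx with (⟨t, rfl⟩ | ⟨t, u, rfl⟩) | (⟨t, rfl⟩ | ⟨t, u, rfl⟩)
      · exact h1 t
      · exact h3 t u
      · exact h2 t
      · exact h4 t u
    | one => exact ⟨Subgroup.one_mem _, S.ext_one⟩
    | mul x y _ _ hx hy =>
      exact ⟨Subgroup.mul_mem _ hx.1 hy.1, by rw [S.ext_mul hx.1 hy.1, hx.2, hy.2]⟩
    | inv x _ hx =>
      exact ⟨Subgroup.inv_mem _ hx.1, by rw [S.ext_inv hx.1, hx.2]⟩
  exact key.2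

/-- `fix_diag` without the unused hypothesis -/
theorem fix_diag' (h : GL chevF4.Idx K) (hh : h ∈ chevF4.diagonalSubgroup K) (hfix : S.ext h = h) :
    ∃ p : Kˣ × Kˣ, h = torF K e p := by
  rw [← (envF4 K).hF.torusHom_range (envF4 K).hS 4 rfl] at hh
  obtain ⟨c, rfl⟩ := hh
  rw [torusHom_eq_tor4, ext_tor4] at hfix
  obtain ⟨h0, h1, -, -⟩ := tor4_inj hfix
  refine ⟨(c 2, c 3), ?_⟩
  rw [torusHom_eq_tor4, torF_eq_tor4]
  show Cfsg.Agent.Lib.Helper76.F4T.tor4 (c 0) (c 1) (c 2) (c 3) =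
    Cfsg.Agent.Lib.Helper76.F4T.tor4 (c 3 ^ e) (c 2 ^ e) (c 2) (c 3)
  rw [← h0, ← h1]

theorem torF_range (he : e ≠ 0) (hθ : ∀ t : K, t ^ (2 * e * e) = t)
    (hfix : ∀ g ∈ twistedF4 K e, S.ext g = g) :
    (torF K e).range = chevF4.diagonalSubgroup K ⊓ twistedF4 K e := by
  ext g
  constructor
  · rintro ⟨p, rfl⟩
    refine ⟨torF_mem_diag e p, ?_⟩
    rw [torF_eq_tor4]
    exact Cfsg.Agent.Lib.Helper76.F4T.torFix4_mem e he hθ p.1 p.2
  · rintro ⟨h1, h2⟩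
    obtain ⟨p, rfl⟩ := fix_diag' S g h1 (hfix g h2)
    exact ⟨p, rfl⟩

/-- `Kˣ × Kˣ ≃* H ∩ ²F₄` -/
noncomputable def torFEquiv (he : e ≠ 0) (hθ : ∀ t : K, t ^ (2 * e * e) = t)
    (hfix : ∀ g ∈ twistedF4 K e, S.ext g = g) :
    Kˣ × Kˣ ≃* ↥(chevF4.diagonalSubgroup K ⊓ twistedF4 K e) :=
  (MonoidHom.ofInjective (torF_inj (K := K) he)).trans
    (MulEquiv.subgroupCongr (torF_range S he hθ hfix))

theorem card_diag_inf_twistedF4 [Fintype K] (he : e ≠ 0) (hθ : ∀ t : K, t ^ (2 * e * e) = t)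
    (hfix : ∀ g ∈ twistedF4 K e, S.ext g = g) :
    Nat.card ↥(chevF4.diagonalSubgroup K ⊓ twistedF4 K e) = (Fintype.card K - 1) ^ 2 := by
  classical
  rw [← Nat.card_congr (torFEquiv S he hθ hfix).toEquiv, Nat.card_eq_fintype_card, Fintype.card_prod,
    Fintype.card_units, sq]

end Cfsg.Agent.Lib.Helper76.F4
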