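import Cfsg.Agent.Lib.Helper33.F4Ext

/-!
# Definitions for the order of `²F₄(q)` (S1068): the 16 representatives of `W¹` and their inversion sets

`W¹ = N¹/H¹` is dihedral of order 16, generated by the classes of `s1F = nW [0, 3]` and `s2F = nW [1, 2, 1, 2]`.
`wordsW` lists 16 alternating words in the blocks `A = [0, 3]`, `B = [1, 2, 1, 2]`; the inversion set
`{r > 0 | w r < 0}` of the `j`-th word is the union of the classes `classesF[k]`, `segStart j ≤ k < segStart j + segLen j`
(a segment of the angular order starting at the class `0` or ending at the class `7`).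
-/

set_option autoImplicit false

namespace Cfsg.Agent.Lib.Helper76.F4O

open Cfsg.Lie Cfsg.Agent.Lib.Helper24 Cfsg.Agent.Lib.Helper33.F4

def blkA : List ℕ := [0, 3]
def blkB : List ℕ := [1, 2, 1, 2]

/-- 16 words representing the elements of `W¹` -/
def wordsW : List (List ℕ) :=
  [[], blkA, blkB, blkB ++ blkA, blkA ++ blkB, blkA ++ blkB ++ blkA, blkB ++ blkA ++ blkB,
   blkB ++ blkA ++ blkB ++ blkA, blkA ++ blkB ++ blkA ++ blkB,
   blkA ++ blkB ++ blkA ++ blkB ++ blkA, blkB ++ blkA ++ blkB ++ blkA ++ blkB,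
   blkB ++ blkA ++ blkB ++ blkA ++ blkB ++ blkA, blkA ++ blkB ++ blkA ++ blkB ++ blkA ++ blkB,
   blkA ++ blkB ++ blkA ++ blkB ++ blkA ++ blkB ++ blkA, blkB ++ blkA ++ blkB ++ blkA ++ blkB ++ blkA ++ blkB,
   blkB ++ blkA ++ blkB ++ blkA ++ blkB ++ blkA ++ blkB ++ blkA]

/-- first class of the inversion set of the `j`-th word -/
def segStart (j : ℕ) : ℕ := if j % 2 = 1 then 0 else 8 - j / 2

/-- number of classes in the inversion set of the `j`-th word -/
def segLen (j : ℕ) : ℕ := (j + 1) / 2

/-- the roots of the classes `i, ..., i + len - 1` -/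
def segRoots (i len : ℕ) : List ℕ := ((classesF.drop i).take len).flatten

/-- the dimension of the fixed points on the classes `i, ..., i + len - 1`: 1 for a pair, 2 for a quadruple -/
def segDim (i len : ℕ) : ℕ := ((List.range len).map fun k => 1 + (i + k) % 2).sum

theorem wordsW_length : wordsW.length = 16 := rfl

theorem wordsW_lt : ∀ j < 16, ∀ i ∈ wordsW.getD j [], i < 4 := by decide

/-- the inversion sets -/
theorem inv_check : ∀ j < 16, ∀ r < 48,
    (24 ≤ r ∧ rhoW chevF4 (wordsW.getD j []) r < 24) ↔ r ∈ segRoots (segStart j) (segLen j) := by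
  decide +kernel

/-- the words are pairwise inequivalent -/
theorem dis_check : ∀ j < 16, ∀ j' < 16, j ≠ j' →
    ¬ ∀ r < 48, rhoW chevF4 (wordsW.getD j []) r = rhoW chevF4 (wordsW.getD j' []) r := by
  decide +kernel

theorem segDim_check : (List.range 16).map (fun j => segDim (segStart j) (segLen j)) =
    [0, 1, 2, 3, 3, 4, 5, 6, 6, 7, 8, 9, 9, 10, 11, 12] := by decide

end Cfsg.Agent.Lib.Helper76.F4O
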