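import Cfsg.Agent.Lib.Helper76.F4Weyl

/-!
# The torus of `²F₄`: the fixed torus `{h(ν^e, μ^e, μ, ν)}` lies in `twistedF4 K e`
-/

set_option autoImplicit false

namespace Cfsg.Agent.Lib.Helper76.F4T

open Cfsg.Lie Cfsg.Agent.Lib.Helper24 Cfsg.Agent.Lib.Helper33.Ree Cfsg.Agent.Lib.Helper76.ModC

section torus

open Cfsg.Agent.Lib.Helper76.ChevTorus Cfsg.Agent.Lib.Helper76.MonomialAct

variable {K : Type*} [Field K]

/-- the parameter `(a, b, c, d)` -/
def par4 (a b c d : Kˣ) : Fin chevF4.rank → Kˣ := fun i =>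
  if i.val = 0 then a else if i.val = 1 then b else if i.val = 2 then c else d

theorem par4_ext {f g : Fin chevF4.rank → Kˣ}
    (h0 : f ⟨0, by decide⟩ = g ⟨0, by decide⟩) (h1 : f ⟨1, by decide⟩ = g ⟨1, by decide⟩)
    (h2 : f ⟨2, by decide⟩ = g ⟨2, by decide⟩) (h3 : f ⟨3, by decide⟩ = g ⟨3, by decide⟩) : f = g := by
  funext i
  rcases i with ⟨i, hi⟩
  have h4 : i < 4 := hi
  interval_cases i
  · exact h0
  · exact h1
  · exact h2
  · exact h3

/-- the torus element `h_{p₁}(a) h_{p₂}(b) h_{p₃}(c) h_{p₄}(d)` of `F₄(K)` -/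
noncomputable def tor4 (a b c d : Kˣ) : GL chevF4.Idx K := torusHom chevF4 (par4 a b c d)

theorem tor4_mul (a b c d a' b' c' d' : Kˣ) :
    tor4 a b c d * tor4 a' b' c' d' = tor4 (a * a') (b * b') (c * c') (d * d') := by
  unfold tor4
  rw [← map_mul]
  congr 1
  apply par4_ext <;> simp [par4]

theorem tor4_one : tor4 (1 : Kˣ) 1 1 1 = 1 := by
  unfold tor4
  rw [← map_one (torusHom (F := K) chevF4)]
  congr 1
  apply par4_ext <;> simp [par4]

theorem tor4_inv (a b c d : Kˣ) : (tor4 a b c d)⁻¹ = tor4 a⁻¹ b⁻¹ c⁻¹ d⁻¹ := by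
  rw [inv_eq_iff_mul_eq_one, tor4_mul]
  simp [tor4_one]

/-- `h_r(c)` in the torus parametrisation, from the coroot table -/
theorem hGL_eq_tor4 (r : ℕ) (hr : r < chevF4.nroots) (k0 k1 k2 k3 : ℤ)
    (hk : (chevF4.coroot.getD r #[]).getD 0 0 = k0 ∧ (chevF4.coroot.getD r #[]).getD 1 0 = k1 ∧
      (chevF4.coroot.getD r #[]).getD 2 0 = k2 ∧ (chevF4.coroot.getD r #[]).getD 3 0 = k3) (c : Kˣ) :
    factsF4.wordGL (chevF4.hWord r (c : K)) = tor4 (c ^ k0) (c ^ k1) (c ^ k2) (c ^ k3) := by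
  apply Units.ext
  rw [Facts.wordGL_val]
  have h1 := Cfsg.Agent.Lib.Helper76.Ree.hMat_eq_torusHom (K := K) factsF4 r hr c
  have h2 : chevF4.wordMat K (chevF4.hWord r (c : K)) = chevF4.hMat K r (c : K) := rfl
  rw [h2, h1]
  unfold tor4
  congr 2
  obtain ⟨e0, e1, e2, e3⟩ := hk
  apply par4_ext
  · simp only [par4]; rw [← e0]; rfl
  · simp only [par4]; rw [← e1]; rfl
  · simp only [par4]; rw [← e2]; rfl
  · simp only [par4]; rw [← e3]; rfl

theorem h33_eq (c : Kˣ) : factsF4.wordGL (chevF4.hWord 33 (c : K)) = tor4 c 1 1 1 := by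
  rw [hGL_eq_tor4 33 (by decide) 1 0 0 0 (by decide) c]; simp
theorem h24_eq (c : Kˣ) : factsF4.wordGL (chevF4.hWord 24 (c : K)) = tor4 1 1 1 c := by
  rw [hGL_eq_tor4 24 (by decide) 0 0 0 1 (by decide) c]; simp
theorem h37_eq (c : Kˣ) : factsF4.wordGL (chevF4.hWord 37 (c : K)) = tor4 c (c ^ 2) (c ^ 2) 1 := by
  rw [hGL_eq_tor4 37 (by decide) 1 2 2 0 (by decide) c]; simp
theorem h32_eq (c : Kˣ) : factsF4.wordGL (chevF4.hWord 32 (c : K)) = tor4 1 c (c ^ 2) c := by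
  rw [hGL_eq_tor4 32 (by decide) 0 1 2 1 (by decide) c]; simp

/-- the torus parametrisation of `F₄` is injective -/
theorem tor4_injective : Function.Injective (torusHom (F := K) chevF4) := by
  rw [injective_iff_map_eq_one]
  intro c hc
  have hk : c ∈ (torusHom (F := K) chevF4).ker := hc
  rw [torusHom_ker, MonoidHom.mem_ker] at hk
  obtain ⟨y, hy, rfl⟩ := (smithOfCert chevF4 certF4 certOK_F4).exists_of_mem_ker c hk
  have hy1 : y = 1 := by
    funext j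
    have := hy j
    rw [smithOfCert_d] at this
    have hd : certF4.d.getD (j : ℕ) 0 = 1 := by
      rcases j with ⟨j, hj⟩
      have h4 : j < 4 := hj
      interval_cases j <;> rfl
    rw [hd, pow_one] at this
    exact this
  rw [hy1, map_one]

end torus

section fixedTorus

variable {K : Type*} [Field K] [CharP K 2]

/-- family A in the torus parametrisation -/
theorem torA4_mem (e : ℕ) (t : Kˣ) : tor4 (t ^ e) 1 1 t ∈ twistedF4 K e := by
  have h := hA_mem e (t : K)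
  rw [← Units.val_pow_eq_pow_val, h33_eq, h24_eq, tor4_mul] at h
  simpa using h

/-- family B in the torus parametrisation -/
theorem torB4_mem (e : ℕ) (he : e ≠ 0) (t : Kˣ) :
    tor4 (t ^ e) (t ^ (2 * e + 1)) (t ^ (2 * e + 2)) t ∈ twistedF4 K e := by
  have h := hB_mem e he (t : K)
  rw [← Units.val_pow_eq_pow_val, h37_eq, h32_eq, tor4_mul] at h
  have e1 : (t ^ e) ^ 2 * t = t ^ (2 * e + 1) := by rw [← pow_mul, pow_succ, mul_comm e 2]
  have e2 : (t ^ e) ^ 2 * t ^ 2 = t ^ (2 * e + 2) := by rw [← pow_mul, pow_add, mul_comm e 2]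
  rw [e1, e2] at h
  simpa using h

omit [CharP K 2] in
theorem unit_pow_theta4 (e : ℕ) (hθ : ∀ t : K, t ^ (2 * e * e) = t) (ρ : Kˣ) :
    ρ ^ (2 * e * e) = ρ := by
  apply Units.ext
  rw [Units.val_pow_eq_pow_val]
  exact hθ _

/-- the fixed torus `{h(ν^e, μ^e, μ, ν)}` lies in `²F₄` -/
theorem torFix4_mem (e : ℕ) (he : e ≠ 0) (hθ : ∀ t : K, t ^ (2 * e * e) = t) (μ ν : Kˣ) :
    tor4 (ν ^ e) (μ ^ e) μ ν ∈ twistedF4 K e := by
  obtain ⟨k, rfl⟩ : ∃ k, e = k + 1 := Nat.exists_eq_succ_of_ne_zero he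
  -- `μ ^ (2k² + 4k) = μ⁻¹`
  have hμ : μ ^ (2 * k * k + 4 * k) = μ⁻¹ := by
    have h := unit_pow_theta4 (k + 1) hθ μ
    have e1 : 2 * (k + 1) * (k + 1) = (2 * k * k + 4 * k) + 2 := by ring
    rw [e1, pow_add] at h
    rw [eq_inv_iff_mul_eq_one]
    have h2 : μ ^ (2 * k * k + 4 * k) * μ ^ 2 = μ ^ (2 * k * k + 4 * k) * μ * μ := by
      rw [pow_two, ← mul_assoc]
    rw [h2] at h
    exact mul_right_cancel (b := μ) (by rw [one_mul]; exact h)
  set t : Kˣ := (μ ^ k)⁻¹ with ht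
  have ht2 : t ^ (2 * (k + 1) + 2) = μ := by
    rw [ht, inv_pow, ← pow_mul]
    have : k * (2 * (k + 1) + 2) = 2 * k * k + 4 * k := by ring
    rw [this, hμ, inv_inv]
  have ht1 : t ^ (2 * (k + 1) + 1) = μ ^ (k + 1) := by
    have h3 : t ^ (2 * (k + 1) + 2) = t ^ (2 * (k + 1) + 1) * t := by rw [pow_succ]
    rw [ht2] at h3
    have h4 : t ^ (2 * (k + 1) + 1) = μ * t⁻¹ := by rw [h3, mul_assoc, mul_inv_cancel, mul_one]
    rw [h4, ht, inv_inv, pow_succ, mul_comm]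
  have hB := torB4_mem (k + 1) he t
  have hA := torA4_mem (K := K) (k + 1) (t⁻¹ * ν)
  have hprod := Subgroup.mul_mem _ hB hA
  rw [tor4_mul, ht1, ht2] at hprod
  have e1 : t ^ (k + 1) * (t⁻¹ * ν) ^ (k + 1) = ν ^ (k + 1) := by
    rw [← mul_pow, mul_inv_cancel_left]
  rw [e1, mul_one, mul_one, mul_inv_cancel_left] at hprod
  exact hprod

end fixedTorus

end Cfsg.Agent.Lib.Helper76.F4T
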