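import Cfsg.Agent.Lib.Helper24.FactsAll
import Cfsg.Agent.Lib.Helper24.SimpleTables
import Cfsg.Agent.Lib.Helper24.CommFormula
import Cfsg.Agent.Lib.Helper33.ReeEngine
import Cfsg.Agent.Lib.Helper76.ModC
import Cfsg.Agent.Lib.Helper24.RankOne
import Cfsg.Agent.Lib.Helper76.ReeTorus
import Cfsg.Agent.Lib.Helper76.ChevTorusOrders
import Cfsg.Agent.Lib.Helper76.SmithKer
import Cfsg.Prelude.Def_LieTwisted

set_option autoImplicit false

namespace Cfsg.Agent.Lib.Helper76.F4T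

open Cfsg.Lie Cfsg.Agent.Lib.Helper24 Cfsg.Agent.Lib.Helper33.Ree Cfsg.Agent.Lib.Helper76.ModC

/-- the verified facts for `F₄` -/
theorem factsF4 : Facts chevF4 := facts_all chevF4 (by simp)

section gens

variable {K : Type*} [Field K]

theorem word_mem (e : ℕ) (w : List (ℕ × K)) (hw : w ∈ f4Words K e) :
    factsF4.wordGL w ∈ twistedF4 K e :=
  Subgroup.subset_closure ⟨w, hw, factsF4.wordGL_val w⟩

theorem pairU_mem (e : ℕ) (t : K) : factsF4.wordGL (f4PairWord e f4p1 f4p4 t) ∈ twistedF4 K e :=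
  word_mem e _ (Or.inl ⟨t, Or.inl rfl⟩)

theorem pairV_mem (e : ℕ) (t : K) : factsF4.wordGL (f4PairWord e f4m1 f4m4 t) ∈ twistedF4 K e :=
  word_mem e _ (Or.inl ⟨t, Or.inr rfl⟩)

theorem b2U_mem (e : ℕ) (t u : K) :
    factsF4.wordGL (b2ClassWord e f4a f4b f4ab f4aab t u) ∈ twistedF4 K e :=
  word_mem e _ (Or.inr ⟨t, u, Or.inl rfl⟩)

theorem b2V_mem (e : ℕ) (t u : K) :
    factsF4.wordGL (b2ClassWord e f4ma f4mb f4mab f4maab t u) ∈ twistedF4 K e :=
  word_mem e _ (Or.inr ⟨t, u, Or.inr rfl⟩)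

theorem xGL_commute (r s : ℕ) (h : commFullOK chevF4 r s = true) (h0 : chevF4.commTerms r s = [])
    (t u : K) : Commute (factsF4.xGL s u) (factsF4.xGL r t) := by
  have h1 := factsF4.comm_of_commFullOK r s h t u
  have h2 : chevF4.commWord K r s t u = [] := by rw [ChevalleyDatum.commWord, h0]; rfl
  rw [h2] at h1
  show _ * _ = _ * _
  simpa [Facts.wordGL] using h1

theorem comm_33_24 (t u : K) : Commute (factsF4.xGL 24 u) (factsF4.xGL 33 t) :=
  xGL_commute 33 24 (by decide +kernel) (by decide +kernel) t u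
theorem comm_33_23 (t u : K) : Commute (factsF4.xGL 23 u) (factsF4.xGL 33 t) :=
  xGL_commute 33 23 (by decide +kernel) (by decide +kernel) t u
theorem comm_14_24 (t u : K) : Commute (factsF4.xGL 24 u) (factsF4.xGL 14 t) :=
  xGL_commute 14 24 (by decide +kernel) (by decide +kernel) t u
theorem comm_14_23 (t u : K) : Commute (factsF4.xGL 23 u) (factsF4.xGL 14 t) :=
  xGL_commute 14 23 (by decide +kernel) (by decide +kernel) t u

end gens

section char2

variable {K : Type*} [Field K] [CharP K 2]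

theorem neg33 : chevF4.neg 33 = 14 := by decide
theorem neg24 : chevF4.neg 24 = 23 := by decide
theorem neg37 : chevF4.neg 37 = 10 := by decide
theorem neg32 : chevF4.neg 32 = 15 := by decide

theorem nGL_char2 (r : ℕ) (c : K) :
    factsF4.nGL r c = factsF4.xGL r c * factsF4.xGL (chevF4.neg r) c⁻¹ * factsF4.xGL r c := by
  rw [Facts.nGL_def, CharTwo.neg_eq]

omit [CharP K 2] in
theorem pairU_eq (e : ℕ) (t : K) :
    factsF4.wordGL (f4PairWord e f4p1 f4p4 t) = factsF4.xGL 33 (t ^ e) * factsF4.xGL 24 t := by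
  simp [Facts.wordGL, f4PairWord, f4p1, f4p4]

omit [CharP K 2] in
theorem pairV_eq (e : ℕ) (t : K) :
    factsF4.wordGL (f4PairWord e f4m1 f4m4 t) = factsF4.xGL 14 (t ^ e) * factsF4.xGL 23 t := by
  simp [Facts.wordGL, f4PairWord, f4m1, f4m4]

/-- `n_{p₁}(t^e) n_{p₄}(t)` as a product of three generators -/
theorem nn_eq (e : ℕ) (t : K) :
    factsF4.nGL 33 (t ^ e) * factsF4.nGL 24 t =
      factsF4.wordGL (f4PairWord e f4p1 f4p4 t) * factsF4.wordGL (f4PairWord e f4m1 f4m4 t⁻¹) *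
        factsF4.wordGL (f4PairWord e f4p1 f4p4 t) := by
  rw [pairU_eq, pairV_eq, nGL_char2, nGL_char2, neg33, neg24, inv_pow]
  have a1 := comm_33_24 (K := K) (t ^ e) t
  have a3 := comm_14_24 (K := K) ((t ^ e)⁻¹) t
  have a2 := comm_33_23 (K := K) (t ^ e) t⁻¹
  set A := factsF4.xGL 33 (t ^ e)
  set B := factsF4.xGL 24 t
  set C := factsF4.xGL 14 (t ^ e)⁻¹
  set D := factsF4.xGL 23 t⁻¹
  have e1 : B * C = C * B := a3.eq
  have e2 : D * A = A * D := a2.eq
  have e3 : B * A = A * B := a1.eq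
  calc A * C * A * (B * D * B) = A * C * (A * B) * D * B := by group
    _ = A * C * (B * A) * D * B := by rw [e3]
    _ = A * (C * B) * (A * D) * B := by group
    _ = A * (B * C) * (D * A) * B := by rw [e1, e2]
    _ = A * B * (C * D) * (A * B) := by group

theorem nn_mem (e : ℕ) (t : K) : factsF4.nGL 33 (t ^ e) * factsF4.nGL 24 t ∈ twistedF4 K e := by
  rw [nn_eq e]
  exact Subgroup.mul_mem _ (Subgroup.mul_mem _ (pairU_mem e _) (pairV_mem e _)) (pairU_mem e _)

theorem nGL_commute (c d : K) : Commute (factsF4.nGL 24 d) (factsF4.nGL 33 c) := by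
  rw [nGL_char2, nGL_char2, neg33, neg24]
  have a1 := comm_33_24 (K := K) c d
  have a2 := comm_33_23 (K := K) c d⁻¹
  have a3 := comm_14_24 (K := K) c⁻¹ d
  have a4 := comm_14_23 (K := K) c⁻¹ d⁻¹
  exact ((a1.mul_right a3).mul_right a1).mul_left (((a2.mul_right a4).mul_right a2)) |>.mul_left
    ((a1.mul_right a3).mul_right a1)

theorem hGL_eq (r : ℕ) (c : K) :
    factsF4.wordGL (chevF4.hWord r c) = factsF4.nGL r c * factsF4.nGL r 1 := by
  have : (-1 : K) = 1 := CharTwo.neg_eq 1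
  simp [Facts.wordGL, Facts.nGL, ChevalleyDatum.hWord, List.map_append, List.prod_append, this]

/-- family A: `h_{p₁}(t^e) h_{p₄}(t)` lies in `²F₄` -/
theorem hA_mem (e : ℕ) (t : K) :
    factsF4.wordGL (chevF4.hWord 33 (t ^ e)) * factsF4.wordGL (chevF4.hWord 24 t) ∈ twistedF4 K e := by
  rw [hGL_eq, hGL_eq]
  have c1 := (nGL_commute (K := K) 1 t).eq
  have e2 : factsF4.nGL 33 (t ^ e) * factsF4.nGL 33 1 * (factsF4.nGL 24 t * factsF4.nGL 24 1) =
      (factsF4.nGL 33 (t ^ e) * factsF4.nGL 24 t) * (factsF4.nGL 33 ((1 : K) ^ e) * factsF4.nGL 24 1) := by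
    rw [one_pow]
    calc factsF4.nGL 33 (t ^ e) * factsF4.nGL 33 1 * (factsF4.nGL 24 t * factsF4.nGL 24 1)
        = factsF4.nGL 33 (t ^ e) * (factsF4.nGL 33 1 * factsF4.nGL 24 t) * factsF4.nGL 24 1 := by group
      _ = factsF4.nGL 33 (t ^ e) * (factsF4.nGL 24 t * factsF4.nGL 33 1) * factsF4.nGL 24 1 := by
          rw [c1]
      _ = _ := by group
  rw [e2]
  exact Subgroup.mul_mem _ (nn_mem e t) (nn_mem e 1)

end char2

section weyl

variable {K : Type*} [Field K] [CharP K 2]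

/-- a word identity checked modulo 2 (collected engine), for elements of the general linear group -/
theorem wordGL_eq_of_checkModC (y0 y1 y2 y3 : K) (w1 w2 : List (ℕ × Poly))
    (h : checkWordEqModC 2 chevF4 w1 w2 = true) :
    factsF4.wordGL (denW y0 y1 y2 y3 w1) = factsF4.wordGL (denW y0 y1 y2 y3 w2) := by
  apply Units.ext
  rw [Facts.wordGL_val, Facts.wordGL_val]
  exact wordMat_eq_of_checkModC 2 chevF4 y0 y1 y2 y3 w1 w2 h

/-- the symbolic word of `n_S` (a representative in `²B₂(2)` of `(w_{p₂} w_{p₃})²`) -/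
def nSword : List (ℕ × Poly) :=
  [(28, Poly.one), (30, Poly.one), (20, Poly.one), (22, Poly.one), (17, Poly.one),
   (27, Poly.one), (25, Poly.one), (28, Poly.one)]

/-- the word of `n_S` over `K` -/
def nSw (K : Type*) [Field K] : List (ℕ × K) :=
  [(28, 1), (30, 1), (20, 1), (22, 1), (17, 1), (27, 1), (25, 1), (28, 1)]

omit [CharP K 2] in
theorem denW_nSword (y0 y1 y2 y3 : K) : denW y0 y1 y2 y3 nSword = nSw K := by
  simp [denW, nSword, nSw, Poly.one, Mono.den_one]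

/-- `n_S` -/
noncomputable def nS (K : Type*) [Field K] : GL chevF4.Idx K := factsF4.wordGL (nSw K)

theorem nS_eq (e : ℕ) (he : e ≠ 0) :
    nS K = factsF4.wordGL (b2ClassWord e f4a f4b f4ab f4aab (0 : K) 1) *
      factsF4.wordGL (b2ClassWord e f4ma f4mb f4mab f4maab (1 : K) 1) *
      factsF4.wordGL (b2ClassWord e f4a f4b f4ab f4aab (1 : K) 0) := by
  have h2 : (1 : K) + 1 = 0 := CharTwo.add_self_eq_zero 1
  have h0 : (0 : K) ^ e = 0 := zero_pow he
  have h0' : (0 : K) ^ (2 * e) = 0 := zero_pow (by omega)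
  have h0'' : (0 : K) ^ (e + 1) = 0 := zero_pow (by omega)
  simp only [nS, nSw, b2ClassWord, f4a, f4b, f4ab, f4aab, f4ma, f4mb, f4mab, f4maab, Facts.wordGL,
    List.map_cons, List.map_nil, List.prod_cons, List.prod_nil, one_pow, h0, h0', h0'', h2,
    zero_add, add_zero, Facts.xGL_zero, one_mul, mul_one, mul_assoc]

theorem nS_mem (e : ℕ) (he : e ≠ 0) : nS K ∈ twistedF4 K e := by
  rw [nS_eq e he]
  exact Subgroup.mul_mem _ (Subgroup.mul_mem _ (b2U_mem e _ _) (b2V_mem e _ _)) (b2U_mem e _ _)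

/-- conjugation of a root element by `n_S`, from an engine check -/
theorem nS_conj_of_check (r r' : ℕ)
    (h : checkWordEqModC 2 chevF4 (nSword ++ [(r, Poly.x0)]) ([(r', Poly.x0)] ++ nSword) = true) (c : K) :
    nS K * factsF4.xGL r c * (nS K)⁻¹ = factsF4.xGL r' c := by
  have h1 := wordGL_eq_of_checkModC c 0 0 0 _ _ h
  have hx : Poly.den c 0 0 0 Poly.x0 = c := by
    simp [Poly.x0, Poly.den, Mono.den]
  rw [denW, denW, List.map_append, List.map_append, ← denW, denW_nSword] at h1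
  simp only [List.map_cons, List.map_nil, hx] at h1
  rw [mul_inv_eq_iff_eq_mul]
  simpa [nS, Facts.wordGL, List.map_append, List.prod_append, mul_assoc] using h1

theorem nS_33_check :
    checkWordEqModC 2 chevF4 (nSword ++ [(33, Poly.x0)]) ([(37, Poly.x0)] ++ nSword) = true := by
  decide +kernel
theorem nS_24_check :
    checkWordEqModC 2 chevF4 (nSword ++ [(24, Poly.x0)]) ([(32, Poly.x0)] ++ nSword) = true := by
  decide +kernel
theorem nS_14_check :
    checkWordEqModC 2 chevF4 (nSword ++ [(14, Poly.x0)]) ([(10, Poly.x0)] ++ nSword) = true := by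
  decide +kernel
theorem nS_23_check :
    checkWordEqModC 2 chevF4 (nSword ++ [(23, Poly.x0)]) ([(15, Poly.x0)] ++ nSword) = true := by
  decide +kernel

theorem nS_conj_33 (c : K) : nS K * factsF4.xGL 33 c * (nS K)⁻¹ = factsF4.xGL 37 c :=
  nS_conj_of_check 33 37 nS_33_check c
theorem nS_conj_24 (c : K) : nS K * factsF4.xGL 24 c * (nS K)⁻¹ = factsF4.xGL 32 c :=
  nS_conj_of_check 24 32 nS_24_check c
theorem nS_conj_14 (c : K) : nS K * factsF4.xGL 14 c * (nS K)⁻¹ = factsF4.xGL 10 c :=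
  nS_conj_of_check 14 10 nS_14_check c
theorem nS_conj_23 (c : K) : nS K * factsF4.xGL 23 c * (nS K)⁻¹ = factsF4.xGL 15 c :=
  nS_conj_of_check 23 15 nS_23_check c

theorem nS_conj_nGL (r r' : ℕ)
    (hx : ∀ c : K, nS K * factsF4.xGL r c * (nS K)⁻¹ = factsF4.xGL r' c)
    (hy : ∀ c : K, nS K * factsF4.xGL (chevF4.neg r) c * (nS K)⁻¹ = factsF4.xGL (chevF4.neg r') c)
    (c : K) : nS K * factsF4.nGL r c * (nS K)⁻¹ = factsF4.nGL r' c := by
  rw [nGL_char2, nGL_char2, ← hx, ← hy]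
  group

theorem nS_conj_hGL (r r' : ℕ)
    (hx : ∀ c : K, nS K * factsF4.xGL r c * (nS K)⁻¹ = factsF4.xGL r' c)
    (hy : ∀ c : K, nS K * factsF4.xGL (chevF4.neg r) c * (nS K)⁻¹ = factsF4.xGL (chevF4.neg r') c)
    (c : K) : nS K * factsF4.wordGL (chevF4.hWord r c) * (nS K)⁻¹ =
      factsF4.wordGL (chevF4.hWord r' c) := by
  rw [hGL_eq, hGL_eq, ← nS_conj_nGL r r' hx hy, ← nS_conj_nGL r r' hx hy]
  group

theorem nS_conj_h33 (c : K) : nS K * factsF4.wordGL (chevF4.hWord 33 c) * (nS K)⁻¹ =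
    factsF4.wordGL (chevF4.hWord 37 c) :=
  nS_conj_hGL 33 37 nS_conj_33 (by rw [neg33, neg37]; exact nS_conj_14) c

theorem nS_conj_h24 (c : K) : nS K * factsF4.wordGL (chevF4.hWord 24 c) * (nS K)⁻¹ =
    factsF4.wordGL (chevF4.hWord 32 c) :=
  nS_conj_hGL 24 32 nS_conj_24 (by rw [neg24, neg32]; exact nS_conj_23) c

/-- family B: `h_{37}(t^e) h_{32}(t)` lies in `²F₄` -/
theorem hB_mem (e : ℕ) (he : e ≠ 0) (t : K) :
    factsF4.wordGL (chevF4.hWord 37 (t ^ e)) * factsF4.wordGL (chevF4.hWord 32 t) ∈ twistedF4 K e := by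
  have h1 : factsF4.wordGL (chevF4.hWord 37 (t ^ e)) * factsF4.wordGL (chevF4.hWord 32 t) =
      nS K * (factsF4.wordGL (chevF4.hWord 33 (t ^ e)) * factsF4.wordGL (chevF4.hWord 24 t)) *
        (nS K)⁻¹ := by
    rw [← nS_conj_h33, ← nS_conj_h24]
    group
  rw [h1]
  exact Subgroup.mul_mem _ (Subgroup.mul_mem _ (nS_mem e he) (hA_mem e t))
    (Subgroup.inv_mem _ (nS_mem e he))

end weyl

end Cfsg.Agent.Lib.Helper76.F4T
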