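import Mathlib

/-!
# Determinant trick over the integral group ring of a finite abelian group

Tools for the Principal Ideal Theorem (Witt's proof).
-/

set_option autoImplicit false

namespace Cfsg.Agent.Lib.Helper76
namespace PIT

open MonoidAlgebra

section det
variable {R M J : Type*} [CommRing R] [AddCommGroup M] [Module R M] [Fintype J] [DecidableEq J]

/-- If a square matrix kills a vector of module elements, so does its determinant. -/
theorem det_smul_eq_zero (A : Matrix J J R) (v : J → M)
    (h : ∀ i, ∑ j, A i j • v j = 0) (k : J) : A.det • v k = 0 := by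
  have h1 : ∑ j, (A.adjugate * A) k j • v j = 0 := by
    simp only [Matrix.mul_apply, Finset.sum_smul, mul_smul]
    rw [Finset.sum_comm]
    simp only [← Finset.smul_sum, h, smul_zero, Finset.sum_const_zero]
  rw [Matrix.adjugate_mul] at h1
  simpa [Matrix.smul_apply, Matrix.one_apply, ite_smul] using h1

end det

section groupRing
variable {Q : Type*} [CommGroup Q]

/-- The augmentation of the integral group ring. -/
noncomputable def aug : MonoidAlgebra ℤ Q →ₐ[ℤ] ℤ := MonoidAlgebra.lift ℤ ℤ Q 1

@[simp] theorem aug_single (x : Q) (n : ℤ) : aug (single x n) = n := by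
  simp [aug]

@[simp] theorem aug_of (x : Q) : aug (of ℤ Q x) = 1 := by
  simp [aug]

variable [Fintype Q]

/-- The norm element of the integral group ring. -/
noncomputable def normElt : MonoidAlgebra ℤ Q := ∑ x : Q, of ℤ Q x

theorem normElt_coeff (y : Q) : (normElt : MonoidAlgebra ℤ Q).coeff y = 1 := by
  classical
  simp [normElt, coeff_sum, of_apply, Finsupp.single_apply]

theorem aug_normElt : aug (normElt : MonoidAlgebra ℤ Q) = (Fintype.card Q : ℤ) := by
  simp [normElt, map_sum]

theorem eq_smul_normElt_of_invariant (δ : MonoidAlgebra ℤ Q)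
    (h : ∀ x : Q, of ℤ Q x * δ = δ) : δ = (δ.coeff 1) • normElt := by
  apply coeff_injective
  ext y
  rw [coeff_smul, Finsupp.smul_apply, normElt_coeff, smul_eq_mul, mul_one]
  have h1 := congrArg (fun z => z.coeff 1) (h y⁻¹)
  simp only [of_apply, coeff_single_mul_apply, inv_inv, mul_one, one_mul] at h1
  exact h1

/-- **Determinant trick.** A family `b` in a `ℤ[Q]`-module with a square system of relations
`d j • b j = ∑ k, α j k • b k`, `α j k` in the augmentation ideal, `∏ ε(d j) = |Q|`, and a linear
map `p` to the group ring such that the `p (b j)` have `Q`-invariant annihilator,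
is killed by the norm element. -/
theorem normElt_smul_eq_zero {M J : Type*} [AddCommGroup M] [Module (MonoidAlgebra ℤ Q) M]
    [Fintype J] [DecidableEq J]
    (b : J → M) (p : M →ₗ[MonoidAlgebra ℤ Q] MonoidAlgebra ℤ Q)
    (d : J → MonoidAlgebra ℤ Q) (α : J → J → MonoidAlgebra ℤ Q)
    (hb : ∀ j, d j • b j = ∑ k, α j k • b k)
    (hα : ∀ j k, aug (α j k) = 0)
    (hd : ∏ j, aug (d j) = (Fintype.card Q : ℤ))
    (hgen : ∀ δ : MonoidAlgebra ℤ Q, (∀ j, δ * p (b j) = 0) → ∀ x : Q, of ℤ Q x * δ = δ)
    (j : J) : (normElt : MonoidAlgebra ℤ Q) • b j = 0 := by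
  classical
  set R : Matrix J J (MonoidAlgebra ℤ Q) := Matrix.diagonal d - Matrix.of α with hRdef
  have hR : ∀ i, ∑ k, R i k • b k = 0 := by
    intro i
    simp only [hRdef, Matrix.sub_apply, Matrix.diagonal_apply, Matrix.of_apply, sub_smul,
      Finset.sum_sub_distrib, ite_smul, zero_smul, Finset.sum_ite_eq, Finset.mem_univ, if_true]
    rw [hb i, sub_self]
  have hdet : ∀ k, R.det • b k = 0 := det_smul_eq_zero R b hR
  have hp : ∀ k, R.det * p (b k) = 0 := by
    intro k
    have := congrArg p (hdet k)
    simpa [map_smul] using this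
  have hinv := hgen _ hp
  have heq := eq_smul_normElt_of_invariant _ hinv
  have haug : aug R.det = (Fintype.card Q : ℤ) := by
    have h1 : aug R.det = ((aug : MonoidAlgebra ℤ Q →ₐ[ℤ] ℤ).toRingHom.mapMatrix R).det :=
      RingHom.map_det _ _
    have h2 : (aug : MonoidAlgebra ℤ Q →ₐ[ℤ] ℤ).toRingHom.mapMatrix R
        = Matrix.diagonal (fun j => aug (d j)) := by
      ext i k
      by_cases hik : i = k
      · subst hik
        simp [hRdef, hα]
      · simp [hRdef, Matrix.diagonal_apply, hα, hik]
    rw [h1, h2, Matrix.det_diagonal, hd]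
  have hc : R.det.coeff 1 = 1 := by
    rw [heq, map_smul, aug_normElt, smul_eq_mul] at haug
    have hcard : (Fintype.card Q : ℤ) ≠ 0 := by
      have : 0 < Fintype.card Q := Fintype.card_pos
      exact_mod_cast this.ne'
    exact mul_right_cancel₀ hcard (by rw [haug, one_mul])
  rw [hc, one_smul] at heq
  rw [← heq]
  exact hdet j

end groupRing

end PIT
end Cfsg.Agent.Lib.Helper76
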