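import Cfsg.Agent.Lib.Helper76.J1Tools

/-!
# The generic Sylow filter for the orders `19 d`, `d ∣ 9240` (S4274)
-/

set_option autoImplicit false

namespace Cfsg.Agent.Lib.Helper76.J1

open Subgroup MulAction Cfsg.Agent.Lib.Helper23 Cfsg.Agent.Lib.Helper23.SylowPerm

variable {G : Type*} [Group G] [Finite G]

/-- `n_19 = 20` forces `|N(P)|` to be odd. -/
theorem not_two_dvd_of_card_sylow_eq_twenty [IsSimpleGroup G] {n : ℕ} (hn : Nat.card G = n)
    (h19 : 19 ∣ n) (h192 : ¬ 19 ^ 2 ∣ n) (h20 : Nat.card (Sylow 19 G) = 20) :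
    ¬ 2 ∣ n / 20 := by
  intro h2
  have : Fact (Nat.Prime 19) := ⟨by norm_num⟩
  have : Fact (Nat.Prime 2) := ⟨by norm_num⟩
  obtain ⟨P⟩ : Nonempty (Sylow 19 G) := inferInstance
  have hP := card_sylow_eq_prime hn h19 h192 P
  have hN := card_normalizer_eq_div hn P
  rw [h20] at hN
  have hne1 : Nat.card (Sylow 19 G) ≠ 1 := by rw [h20]; norm_num
  have hcard2 : 2 < Nat.card G := by
    have := Nat.le_of_dvd Nat.card_pos (hn ▸ h19 : 19 ∣ Nat.card G)
    omega
  obtain ⟨u, hu⟩ := exists_prime_orderOf_dvd_card' 2 (by rw [hN]; exact h2 :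
    2 ∣ Nat.card ↥(normalizer ((P : Subgroup G) : Set G)))
  have huo : orderOf (u : G) = 2 := by rw [Subgroup.orderOf_coe]; exact hu
  have hu2 : (u : G) ^ 2 = 1 := by rw [← huo]; exact pow_orderOf_eq_one _
  have hu1 : (u : G) ≠ 1 := by
    intro h
    rw [h, orderOf_one] at huo
    omega
  obtain ⟨t, ht⟩ := card_fixedBy_involution 19 hcard2 (u : G) hu2
  rw [h20] at ht
  have hlt := card_fixedBy_lt 19 hne1 (u : G) hu1
  rw [h20] at hlt
  rcases mem_centralizer_or_inverts 19 (P : Subgroup G) hP (u : G) u.2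
    (by rw [hu2]; exact one_mem _) with hc | hinv
  · have hmod := card_fixedBy_modEq_one 19 P (u : G) hc
    rw [Nat.ModEq] at hmod
    omega
  · have hle := mul_card_fixedBy_le_of_inverts 19 P hP (by norm_num) (u : G) hinv
    rw [h20] at hle
    have hpos : 0 < Nat.card ↥(fixedBy (Sylow 19 G) (u : G)) := by
      have : Nonempty ↥(fixedBy (Sylow 19 G) (u : G)) :=
        ⟨⟨P, Sylow.smul_eq_iff_mem_normalizer.mpr u.2⟩⟩
      exact Nat.card_pos
    omega

/-- **R6**: a prime `r ∤ 18` dividing `|N(P)|` gives an element of order `r` in `C(P)`, whose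
number of fixed points on the Sylow `19`-subgroups satisfies two congruences. -/
theorem exists_fixed_count [IsSimpleGroup G] {n r k : ℕ} [Fact r.Prime] (hn : Nat.card G = n)
    (h19 : 19 ∣ n) (h192 : ¬ 19 ^ 2 ∣ n) (hk : Nat.card (Sylow 19 G) = k) (hk1 : k ≠ 1)
    (hr : r ∣ n / k) (hr18 : ¬ r ∣ 18) : ∃ f < k, f % 19 = 1 ∧ f % r = k % r := by
  have : Fact (Nat.Prime 19) := ⟨by norm_num⟩
  have hrr : r.Prime := Fact.out
  obtain ⟨P⟩ : Nonempty (Sylow 19 G) := inferInstance
  have hP := card_sylow_eq_prime hn h19 h192 P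
  have hN := card_normalizer_eq_div hn P
  rw [hk] at hN
  have hrC := dvd_card_centralizer_of_dvd_card_normalizer hrr P hP (by rw [hN]; exact hr) hr18
  obtain ⟨x, hx⟩ := exists_prime_orderOf_dvd_card' r hrC
  have hxo : orderOf (x : G) = r := by rw [Subgroup.orderOf_coe]; exact hx
  have hx1 : (x : G) ≠ 1 := by
    intro h
    rw [h, orderOf_one] at hxo
    exact hrr.one_lt.ne hxo
  have hne1 : Nat.card (Sylow 19 G) ≠ 1 := by rw [hk]; exact hk1
  refine ⟨Nat.card ↥(fixedBy (Sylow 19 G) (x : G)), ?_, ?_, ?_⟩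
  · have := card_fixedBy_lt 19 hne1 (x : G) hx1
    rwa [hk] at this
  · have := card_fixedBy_modEq_one 19 P (x : G) x.2
    rw [Nat.ModEq] at this
    omega
  · have := card_fixedBy_modEq_card 19 r (x : G) 1 (by rw [hxo, pow_one])
    rw [hk, Nat.ModEq] at this
    exact this.symm

/-- rule A: some prime dividing `n` exactly once has no admissible number of Sylow subgroups -/
def ruleA (n : ℕ) : Bool :=
  [2, 3, 5, 7, 11, 19].any fun p =>
    decide (p ∣ n) && !decide (p ^ 2 ∣ n) && (validList n p).isEmpty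

/-- the value `k` for `n_19` is impossible -/
def bad19 (n k : ℕ) : Bool :=
  (decide (k = 20) && decide (2 ∣ n / 20)) ||
  ([5, 7, 11].any fun r => decide (r ∣ n / k) &&
    (List.range k).all fun f => !(decide (f % 19 = 1) && decide (f % r = k % r))) ||
  ([3, 5, 7, 11].any fun r => decide (r ∣ n) && !decide (r ^ 2 ∣ n) && !decide (r ∣ n / k) &&
    (validList n r).all fun j => !decide (19 ∣ j))

/-- the order `n` is impossible -/
def dead (n : ℕ) : Bool := ruleA n || (validList n 19).all (bad19 n)

theorem ruleA_sound [IsSimpleGroup G] {n : ℕ} (hn : Nat.card G = n) (hn19 : 19 < n)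
    (h19 : 19 ∣ n) (h : ruleA n = true) : False := by
  unfold ruleA at h
  rw [List.any_eq_true] at h
  obtain ⟨p, hmem, hp⟩ := h
  simp only [Bool.and_eq_true, decide_eq_true_eq, Bool.not_eq_true', decide_eq_false_iff_not,
    List.isEmpty_iff] at hp
  obtain ⟨⟨hpn, hp2⟩, hempty⟩ := hp
  have hpp : p.Prime := by
    simp only [List.mem_cons, List.not_mem_nil, or_false] at hmem
    rcases hmem with rfl | rfl | rfl | rfl | rfl | rfl <;> norm_num
  have hple : p ≤ 19 := by
    simp only [List.mem_cons, List.not_mem_nil, or_false] at hmem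
    rcases hmem with rfl | rfl | rfl | rfl | rfl | rfl <;> norm_num
  have : Fact p.Prime := ⟨hpp⟩
  have := card_sylow_mem_validList (G := G) hn h19 hpn hp2 (by omega)
  rw [hempty] at this
  exact List.not_mem_nil this

theorem bad19_sound [IsSimpleGroup G] {n k : ℕ} (hn : Nat.card G = n) (hn19 : 19 < n)
    (h19 : 19 ∣ n) (h192 : ¬ 19 ^ 2 ∣ n) (hmin : HMin G) (hk : Nat.card (Sylow 19 G) = k)
    (hk19 : 19 ≤ k) (h : bad19 n k = true) : False := by
  have : Fact (Nat.Prime 19) := ⟨by norm_num⟩
  unfold bad19 at h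
  rw [Bool.or_eq_true, Bool.or_eq_true] at h
  rcases h with (h | h) | h
  · simp only [Bool.and_eq_true, decide_eq_true_eq] at h
    obtain ⟨rfl, h2⟩ := h
    exact not_two_dvd_of_card_sylow_eq_twenty hn h19 h192 hk h2
  · rw [List.any_eq_true] at h
    obtain ⟨r, hmem, hr⟩ := h
    simp only [Bool.and_eq_true, decide_eq_true_eq, List.all_eq_true, List.mem_range,
      Bool.not_eq_true', Bool.and_eq_false_iff, decide_eq_false_iff_not] at hr
    obtain ⟨hrN, hall⟩ := hr
    have hrr : r.Prime ∧ ¬ r ∣ 18 := by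
      simp only [List.mem_cons, List.not_mem_nil, or_false] at hmem
      rcases hmem with rfl | rfl | rfl <;> norm_num
    have : Fact r.Prime := ⟨hrr.1⟩
    obtain ⟨f, hfk, hf19, hfr⟩ := exists_fixed_count hn h19 h192 hk (by omega) hrN hrr.2
    rcases hall f hfk with h1 | h1
    · exact h1 hf19
    · exact h1 hfr
  · rw [List.any_eq_true] at h
    obtain ⟨r, hmem, hr⟩ := h
    simp only [Bool.and_eq_true, decide_eq_true_eq, List.all_eq_true,
      Bool.not_eq_true', decide_eq_false_iff_not] at hr
    obtain ⟨⟨⟨hrn, hr2⟩, hrN⟩, hall⟩ := hr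
    have hrr : r.Prime ∧ r ≤ 19 := by
      simp only [List.mem_cons, List.not_mem_nil, or_false] at hmem
      rcases hmem with rfl | rfl | rfl | rfl <;> norm_num
    have : Fact r.Prime := ⟨hrr.1⟩
    obtain ⟨P⟩ : Nonempty (Sylow 19 G) := inferInstance
    have hN := card_normalizer_eq_div hn P
    rw [hk] at hN
    have hdvd := dvd_card_sylow_of_hmin hmin P (r := r) (by rw [hn]; exact hrn)
      (by rw [hN]; exact hrN)
    have hmemr := card_sylow_mem_validList (G := G) hn h19 hrn hr2 (by omega)
    exact hall _ hmemr hdvd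

theorem dead_sound [IsSimpleGroup G] {n : ℕ} (hn : Nat.card G = n) (hn19 : 19 < n)
    (h19 : 19 ∣ n) (h192 : ¬ 19 ^ 2 ∣ n) (hmin : HMin G) (h : dead n = true) : False := by
  have : Fact (Nat.Prime 19) := ⟨by norm_num⟩
  unfold dead at h
  rw [Bool.or_eq_true] at h
  rcases h with h | h
  · exact ruleA_sound hn hn19 h19 h
  · rw [List.all_eq_true] at h
    have hmem := card_sylow_mem_validList (G := G) (p := 19) hn h19 h19 h192 (by omega)
    have hk19 : 19 ≤ Nat.card (Sylow 19 G) := by
      unfold validList at hmem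
      rw [List.mem_filter] at hmem
      simp only [Bool.and_eq_true, decide_eq_true_eq] at hmem
      exact hmem.2.1.2
    exact bad19_sound hn hn19 h19 h192 hmin rfl hk19 (h _ hmem)

/-- the value of `n_19` in the six remaining orders -/
theorem card_sylow_of_not_bad [IsSimpleGroup G] {n : ℕ} (hn : Nat.card G = n) (hn19 : 19 < n)
    (h19 : 19 ∣ n) (h192 : ¬ 19 ^ 2 ∣ n) (hmin : HMin G) (L : List ℕ)
    (hL : ((validList n 19).all fun k => bad19 n k || decide (k ∈ L)) = true) :
    Nat.card (Sylow 19 G) ∈ L := by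
  have : Fact (Nat.Prime 19) := ⟨by norm_num⟩
  rw [List.all_eq_true] at hL
  have hmem := card_sylow_mem_validList (G := G) (p := 19) hn h19 h19 h192 (by omega)
  have hk19 : 19 ≤ Nat.card (Sylow 19 G) := by
    unfold validList at hmem
    rw [List.mem_filter] at hmem
    simp only [Bool.and_eq_true, decide_eq_true_eq] at hmem
    exact hmem.2.1.2
  have := hL _ hmem
  rw [Bool.or_eq_true, decide_eq_true_eq] at this
  rcases this with h | h
  · exact (bad19_sound hn hn19 h19 h192 hmin rfl hk19 h).elim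
  · exact h

/-- the generic filter kills every order `19 d`, `d ∣ 9240`, except the six keystone orders -/
theorem dead_all : ((List.range 9241).all fun d =>
    !decide (d ∣ 9240) || decide (d = 9240) || decide (d = 1) ||
      decide (d ∈ [420, 840, 924, 1848, 3080, 4620]) || dead (19 * d)) = true := by
  decide +kernel

theorem n19_7980 : ((validList 7980 19).all fun k => bad19 7980 k || decide (k ∈ [210])) = true := by
  decide +kernel
theorem n19_15960 : ((validList 15960 19).all fun k => bad19 15960 k || decide (k ∈ [210])) = true := by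
  decide +kernel
theorem n19_17556 : ((validList 17556 19).all fun k => bad19 17556 k || decide (k ∈ [77])) = true := by
  decide +kernel
theorem n19_35112 : ((validList 35112 19).all fun k => bad19 35112 k || decide (k ∈ [77])) = true := by
  decide +kernel
theorem n19_58520 : ((validList 58520 19).all fun k => bad19 58520 k || decide (k ∈ [1540])) = true := by
  decide +kernel
theorem n19_87780 :
    ((validList 87780 19).all fun k => bad19 87780 k || decide (k ∈ [210, 1540])) = true := by
  decide +kernel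

end Cfsg.Agent.Lib.Helper76.J1
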