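import Cfsg.Agent.Lib.Helper76.J1Reduce

/-!
# S4274 from the seven keystones
-/

set_option autoImplicit false

namespace Cfsg.Agent.Lib.Helper76.J1

open Subgroup

universe u

/-- the statement of a keystone: no simple group of order `n` with `k` Sylow `19`-subgroups
satisfying `HMin` -/
def Key (n k : ℕ) : Prop :=
  ∀ (H : Type u) [Group H] [Finite H] [IsSimpleGroup H], Nat.card H = n →
    Nat.card (Sylow 19 H) = k → HMin H → False

theorem hmin_of_IH {G : Type u} [Group G] [Finite G] {d : ℕ} (hG : Nat.card G = 19 * d)
    (hd : ¬ 19 ∣ d) (ih : IH.{u} d) : HMin G := by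
  have : Fact (Nat.Prime 19) := ⟨by norm_num⟩
  have h19 : 19 ∣ 19 * d := Dvd.intro _ rfl
  have h192 : ¬ 19 ^ 2 ∣ 19 * d := by
    intro h
    apply hd
    rw [sq] at h
    exact (Nat.mul_dvd_mul_iff_left (by norm_num)).mp h
  intro P K hK hPK
  have hPc := card_sylow_eq_prime hG h19 h192 P
  have h19K : 19 ∣ Nat.card ↥K := by
    have := Subgroup.card_dvd_of_le hPK
    rwa [hPc] at this
  have hgood := good_subgroup_of_IH hG hd ih K hK h19K
  have hn := hgood (P.subtype hPK)
  rw [Sylow.coe_subtype] at hn
  exact (Subgroup.normal_subgroupOf_iff_le_normalizer hPK).mp hn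

theorem good_of_lt (k7980 : Key.{u} 7980 210) (k15960 : Key.{u} 15960 210)
    (k17556 : Key.{u} 17556 77) (k35112 : Key.{u} 35112 77) (k58520 : Key.{u} 58520 1540)
    (k87780a : Key.{u} 87780 1540) (k87780b : Key.{u} 87780 210) :
    ∀ d : ℕ, d ∣ 9240 → d < 9240 → ∀ (H : Type u) [Group H] [Finite H],
      Nat.card H = 19 * d → Good H := by
  intro d
  induction d using Nat.strong_induction_on with
  | _ d IHd =>
    intro hd9240 hdlt H _ _ hH
    have hd : ¬ 19 ∣ d := fun h => absurd (h.trans hd9240) (by norm_num)
    have ih : IH.{u} d := fun H' _ _ d' hd'd hlt hc =>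
      IHd d' hlt (hd'd.trans hd9240) (lt_trans hlt hdlt) H' hc
    by_cases hs : IsSimpleGroup H
    · by_cases hd1 : d = 1
      · subst hd1
        exact good_of_primePow hH hd hd9240 ⟨2, 0, by norm_num, rfl⟩
      · exfalso
        have hd0 : 0 < d := Nat.pos_of_dvd_of_pos hd9240 (by norm_num)
        have hn19 : 19 < 19 * d := by omega
        have h19 : 19 ∣ 19 * d := Dvd.intro _ rfl
        have h192 : ¬ 19 ^ 2 ∣ 19 * d := by
          intro h
          apply hd
          rw [sq] at h
          exact (Nat.mul_dvd_mul_iff_left (by norm_num)).mp h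
        have hmin : HMin H := hmin_of_IH hH hd ih
        have hall := dead_all
        rw [List.all_eq_true] at hall
        have hcase := hall d (List.mem_range.mpr (by omega))
        simp only [Bool.or_eq_true, Bool.not_eq_true', decide_eq_false_iff_not,
          decide_eq_true_eq, List.mem_cons, List.not_mem_nil, or_false] at hcase
        rcases hcase with (((h | h) | h) | h) | h
        · exact h hd9240
        · omega
        · exact hd1 h
        · rcases h with rfl | rfl | rfl | rfl | rfl | rfl
          · have h1 := card_sylow_of_not_bad hH hn19 h19 h192 hmin [210] n19_7980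
            simp only [List.mem_cons, List.not_mem_nil, or_false] at h1
            exact k7980 H hH h1 hmin
          · have h1 := card_sylow_of_not_bad hH hn19 h19 h192 hmin [210] n19_15960
            simp only [List.mem_cons, List.not_mem_nil, or_false] at h1
            exact k15960 H hH h1 hmin
          · have h1 := card_sylow_of_not_bad hH hn19 h19 h192 hmin [77] n19_17556
            simp only [List.mem_cons, List.not_mem_nil, or_false] at h1
            exact k17556 H hH h1 hmin
          · have h1 := card_sylow_of_not_bad hH hn19 h19 h192 hmin [77] n19_35112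
            simp only [List.mem_cons, List.not_mem_nil, or_false] at h1
            exact k35112 H hH h1 hmin
          · have h1 := card_sylow_of_not_bad hH hn19 h19 h192 hmin [1540] n19_58520
            simp only [List.mem_cons, List.not_mem_nil, or_false] at h1
            exact k58520 H hH h1 hmin
          · have h1 := card_sylow_of_not_bad hH hn19 h19 h192 hmin [210, 1540] n19_87780
            simp only [List.mem_cons, List.not_mem_nil, or_false] at h1
            rcases h1 with h1 | h1
            · exact k87780b H hH h1 hmin
            · exact k87780a H hH h1 hmin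
        · exact dead_sound hH hn19 h19 h192 hmin h
    · exact good_of_not_simple hH hd hd9240 ih hs

theorem main_of_keystones (k7980 : Key.{u} 7980 210) (k15960 : Key.{u} 15960 210)
    (k17556 : Key.{u} 17556 77) (k35112 : Key.{u} 35112 77) (k58520 : Key.{u} 58520 1540)
    (k87780a : Key.{u} 87780 1540) (k87780b : Key.{u} 87780 210)
    {G : Type u} [Group G] [Finite G] (hG : Nat.card G = 175560) :
    IsSimpleGroup G ∨ ∀ P : Sylow 19 G, (P : Subgroup G).Normal := by
  by_cases hs : IsSimpleGroup G
  · exact Or.inl hs
  · right
    have hG' : Nat.card G = 19 * 9240 := by rw [hG]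
    have ih : IH.{u} 9240 := fun H' _ _ d' hd'd hlt hc =>
      good_of_lt k7980 k15960 k17556 k35112 k58520 k87780a k87780b d' hd'd hlt H' hc
    exact good_of_not_simple hG' (by norm_num) (dvd_refl _) ih hs

end Cfsg.Agent.Lib.Helper76.J1
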