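import Cfsg.Agent.Lib.Helper76.J1Filter

/-!
# Reduction of S4274 to simple groups of order `19 d`, `d ∣ 9240`
-/

set_option autoImplicit false

namespace Cfsg.Agent.Lib.Helper76.J1

open Subgroup MulAction Cfsg.Agent.Lib.Helper23

universe u

/-- every Sylow `19`-subgroup is normal -/
def Good (G : Type*) [Group G] : Prop := ∀ P : Sylow 19 G, (P : Subgroup G).Normal

section

variable {G : Type u} [Group G] [Finite G]

/-- a normal subgroup of order `19` forces all Sylow `19`-subgroups to be normal -/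
theorem good_of_normal_card {d : ℕ} (hG : Nat.card G = 19 * d) (hd : ¬ 19 ∣ d) (K : Subgroup G)
    [hKn : K.Normal] (hK : Nat.card ↥K = 19) : Good G := by
  have : Fact (Nat.Prime 19) := ⟨by norm_num⟩
  have h19 : 19 ∣ 19 * d := Dvd.intro _ rfl
  have h192 : ¬ 19 ^ 2 ∣ 19 * d := by
    intro h
    apply hd
    rw [sq] at h
    exact (Nat.mul_dvd_mul_iff_left (by norm_num)).mp h
  have hKp : IsPGroup 19 ↥K := IsPGroup.of_card (n := 1) (by rw [hK, pow_one])
  obtain ⟨P0, hP0⟩ := hKp.exists_le_sylow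
  have hP0c := card_sylow_eq_prime hG h19 h192 P0
  have hfin : Finite ↥(P0 : Subgroup G) := inferInstance
  have hKP0 : K = (P0 : Subgroup G) :=
    Subgroup.eq_of_le_of_card_ge hP0 (by rw [hK, hP0c])
  have hP0n : (P0 : Subgroup G).Normal := hKP0 ▸ hKn
  intro P
  obtain ⟨g, rfl⟩ := MulAction.exists_smul_eq G P0 P
  rw [Sylow.smul_eq_of_normal]
  exact hP0n

/-- a subgroup with all Sylow `19`-subgroups normal normalizes a Sylow `19`-subgroup of `G` -/
theorem exists_sylow_le_normalizer {d : ℕ} (hG : Nat.card G = 19 * d) (hd : ¬ 19 ∣ d)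
    (K : Subgroup G) (h19K : 19 ∣ Nat.card ↥K) (hK : Good ↥K) :
    ∃ P1 : Sylow 19 G, (P1 : Subgroup G) ≤ K ∧ K ≤ normalizer ((P1 : Subgroup G) : Set G) := by
  have : Fact (Nat.Prime 19) := ⟨by norm_num⟩
  have h19 : 19 ∣ 19 * d := Dvd.intro _ rfl
  have h192 : ¬ 19 ^ 2 ∣ 19 * d := by
    intro h
    apply hd
    rw [sq] at h
    exact (Nat.mul_dvd_mul_iff_left (by norm_num)).mp h
  have h192K : ¬ 19 ^ 2 ∣ Nat.card ↥K := by
    intro h
    apply h192
    rw [← hG]
    exact h.trans (Subgroup.card_subgroup_dvd_card K)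
  obtain ⟨Q⟩ : Nonempty (Sylow 19 ↥K) := inferInstance
  have hQc := card_sylow_eq_prime (G := ↥K) rfl h19K h192K Q
  have hQn : (Q : Subgroup ↥K).Normal := hK Q
  set Q' : Subgroup G := (Q : Subgroup ↥K).map K.subtype with hQ'
  have hQ'c : Nat.card ↥Q' = 19 :=
    ((Nat.card_congr ((Q : Subgroup ↥K).equivMapOfInjective K.subtype
      K.subtype_injective).toEquiv).symm).trans hQc
  have hQ'K : Q' ≤ K := by
    rintro _ ⟨x, -, rfl⟩
    exact x.2
  have hQ'p : IsPGroup 19 ↥Q' := IsPGroup.of_card (n := 1) (by rw [hQ'c, pow_one])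
  obtain ⟨P1, hP1⟩ := hQ'p.exists_le_sylow
  have hP1c := card_sylow_eq_prime hG h19 h192 P1
  have hfin : Finite ↥(P1 : Subgroup G) := inferInstance
  have hQP1 : Q' = (P1 : Subgroup G) :=
    Subgroup.eq_of_le_of_card_ge hP1 (by rw [hQ'c, hP1c])
  refine ⟨P1, hQP1 ▸ hQ'K, ?_⟩
  rw [← hQP1]
  intro k hk
  rw [mem_normalizer_iff]
  intro x
  constructor
  · rintro ⟨y, hy, rfl⟩
    refine ⟨(⟨k, hk⟩ : ↥K) * y * (⟨k, hk⟩ : ↥K)⁻¹, hQn.conj_mem y hy _, ?_⟩
    simp
  · rintro ⟨y, hy, hyx⟩
    refine ⟨(⟨k, hk⟩ : ↥K)⁻¹ * y * (⟨k, hk⟩ : ↥K), ?_, ?_⟩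
    · have := hQn.conj_mem y hy (⟨k, hk⟩ : ↥K)⁻¹
      rw [inv_inv] at this
      exact this
    · have : (K.subtype y : G) = k * x * k⁻¹ := hyx
      simp only [map_mul, map_inv, Subgroup.subtype_apply] at *
      rw [this]
      group

/-- a normal subgroup of order divisible by `19` with all Sylow `19` normal -/
theorem good_of_normal_good {d : ℕ} (hG : Nat.card G = 19 * d) (hd : ¬ 19 ∣ d)
    (N : Subgroup G) [hN : N.Normal] (h19N : 19 ∣ Nat.card ↥N) (hgood : Good ↥N) : Good G := by
  have : Fact (Nat.Prime 19) := ⟨by norm_num⟩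
  have h19 : 19 ∣ 19 * d := Dvd.intro _ rfl
  have h192 : ¬ 19 ^ 2 ∣ 19 * d := by
    intro h
    apply hd
    rw [sq] at h
    exact (Nat.mul_dvd_mul_iff_left (by norm_num)).mp h
  have h192N : ¬ 19 ^ 2 ∣ Nat.card ↥N := by
    intro h
    apply h192
    rw [← hG]
    exact h.trans (Subgroup.card_subgroup_dvd_card N)
  obtain ⟨Q⟩ : Nonempty (Sylow 19 ↥N) := inferInstance
  have hQc := card_sylow_eq_prime (G := ↥N) rfl h19N h192N Q
  have hQn : (Q : Subgroup ↥N).Normal := hgood Q
  have hQchar : (Q : Subgroup ↥N).Characteristic := Sylow.characteristic_of_normal Q hQn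
  have hnormal : ((Q : Subgroup ↥N).map N.subtype).Normal := inferInstance
  have hQ'c : Nat.card ↥((Q : Subgroup ↥N).map N.subtype) = 19 :=
    ((Nat.card_congr ((Q : Subgroup ↥N).equivMapOfInjective N.subtype
      N.subtype_injective).toEquiv).symm).trans hQc
  exact good_of_normal_card hG hd _ hQ'c

/-- the induction hypothesis: all smaller orders `19 d'`, `d' ∣ d`, are good -/
def IH (d : ℕ) : Prop :=
  ∀ (H : Type u) [Group H] [Finite H] (d' : ℕ), d' ∣ d → d' < d → Nat.card H = 19 * d' → Good H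

theorem good_subgroup_of_IH {d : ℕ} (hG : Nat.card G = 19 * d) (hd : ¬ 19 ∣ d) (ih : IH.{u} d)
    (K : Subgroup G) (hK : K ≠ ⊤) (h19K : 19 ∣ Nat.card ↥K) : Good ↥K := by
  obtain ⟨d', hd'⟩ := h19K
  have hdvd : Nat.card ↥K ∣ 19 * d := hG ▸ Subgroup.card_subgroup_dvd_card K
  rw [hd'] at hdvd
  have hd'd : d' ∣ d := (Nat.mul_dvd_mul_iff_left (by norm_num)).mp hdvd
  have hlt : Nat.card ↥K < Nat.card G := by
    by_contra hge
    rw [not_lt] at hge
    exact hK (Subgroup.eq_top_of_le_card K hge)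
  have hd0 : 0 < d := by
    rcases Nat.eq_zero_or_pos d with h | h
    · exact absurd (h ▸ dvd_zero 19) hd
    · exact h
  have hlt' : d' < d := by
    rw [hd', hG] at hlt
    omega
  exact ih ↥K d' hd'd hlt' hd'

/-- a nontrivial normal subgroup of order prime to `19` and less than `d` -/
theorem good_of_normal_coprime {d : ℕ} (hG : Nat.card G = 19 * d) (hd : ¬ 19 ∣ d)
    (ih : IH.{u} d) (N : Subgroup G) [hN : N.Normal] (hN1 : N ≠ ⊥)
    (h19N : ¬ 19 ∣ Nat.card ↥N) (hNd : Nat.card ↥N < d) : Good G := by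
  have : Fact (Nat.Prime 19) := ⟨by norm_num⟩
  have hcN : Nat.card ↥N ∣ d := by
    have h1 : Nat.card ↥N ∣ 19 * d := hG ▸ Subgroup.card_subgroup_dvd_card N
    have hcop : Nat.Coprime (Nat.card ↥N) 19 :=
      ((Nat.Prime.coprime_iff_not_dvd (by norm_num)).mpr h19N).symm
    exact hcop.dvd_of_dvd_mul_left h1
  obtain ⟨d'', hd''⟩ := hcN
  have hNpos : 0 < Nat.card ↥N := Nat.card_pos
  have hN2 : 1 < Nat.card ↥N := by
    rcases Nat.lt_or_ge 1 (Nat.card ↥N) with h | h
    · exact h
    · exfalso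
      apply hN1
      exact Subgroup.card_eq_one.mp (by omega)
  have hd0 : 0 < d := by omega
  have hd''pos : 0 < d'' := by
    rcases Nat.eq_zero_or_pos d'' with h | h
    · rw [h, mul_zero] at hd''; omega
    · exact h
  have hquot : Nat.card (G ⧸ N) = 19 * d'' := by
    have h1 := Subgroup.card_eq_card_quotient_mul_card_subgroup N
    rw [hG, hd''] at h1
    have : 19 * d'' * Nat.card ↥N = Nat.card (G ⧸ N) * Nat.card ↥N := by
      rw [← h1]; ring
    exact (Nat.eq_of_mul_eq_mul_right hNpos this).symm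
  have hd''lt : d'' < d := by
    rw [hd'']
    nlinarith
  have hgoodq : Good (G ⧸ N) := ih (G ⧸ N) d'' ⟨Nat.card ↥N, by rw [hd'', mul_comm]⟩ hd''lt hquot
  have hd''19 : ¬ 19 ∣ d'' := fun h => hd (hd'' ▸ Dvd.dvd.mul_left h _)
  obtain ⟨Qb⟩ : Nonempty (Sylow 19 (G ⧸ N)) := inferInstance
  have hQbn : (Qb : Subgroup (G ⧸ N)).Normal := hgoodq Qb
  have h192q : ¬ 19 ^ 2 ∣ 19 * d'' := by
    intro h
    apply hd''19
    rw [sq] at h
    exact (Nat.mul_dvd_mul_iff_left (by norm_num)).mp h
  have hQbc := card_sylow_eq_prime hquot (Dvd.intro _ rfl) h192q Qb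
  set M : Subgroup G := (Qb : Subgroup (G ⧸ N)).comap (QuotientGroup.mk' N) with hM
  have hMn : M.Normal := hQbn.comap _
  have hMidx : M.index = (Qb : Subgroup (G ⧸ N)).index :=
    Subgroup.index_comap_of_surjective _ (QuotientGroup.mk'_surjective N)
  have hQbidx : (Qb : Subgroup (G ⧸ N)).index = d'' := by
    have := Subgroup.card_mul_index (Qb : Subgroup (G ⧸ N))
    rw [hQbc, hquot] at this
    exact Nat.eq_of_mul_eq_mul_left (by norm_num) this
  have hMc : Nat.card ↥M = 19 * Nat.card ↥N := by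
    have := Subgroup.card_mul_index M
    rw [hMidx, hQbidx, hG, hd''] at this
    have h2 : Nat.card ↥M * d'' = 19 * Nat.card ↥N * d'' := by rw [this]; ring
    exact Nat.eq_of_mul_eq_mul_right hd''pos h2
  have hMtop : M ≠ ⊤ := by
    intro h
    rw [h, Subgroup.card_top, hG] at hMc
    omega
  have hgoodM := good_subgroup_of_IH hG hd ih M hMtop (by rw [hMc]; exact Dvd.intro _ rfl)
  exact good_of_normal_good hG hd M (by rw [hMc]; exact Dvd.intro _ rfl) hgoodM


/-- two subgroups of coprime orders normalizing each other commute -/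
theorem le_centralizer_of_normalize {A B : Subgroup G} (hAB : A ≤ normalizer (B : Set G))
    (hBA : B ≤ normalizer (A : Set G)) (hcop : (Nat.card ↥A).Coprime (Nat.card ↥B)) :
    A ≤ centralizer (B : Set G) := by
  have hinf : A ⊓ B = ⊥ := Subgroup.inf_eq_bot_of_coprime hcop
  intro x hx
  rw [mem_centralizer_iff]
  intro y hy
  have h1 : x * y * x⁻¹ * y⁻¹ ∈ B := by
    have : x * y * x⁻¹ ∈ B := (mem_normalizer_iff.mp (hAB hx) y).mp hy
    exact B.mul_mem this (B.inv_mem hy)
  have h2 : x * y * x⁻¹ * y⁻¹ ∈ A := by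
    have : y * x⁻¹ * y⁻¹ ∈ A := (mem_normalizer_iff.mp (hBA hy) x⁻¹).mp (A.inv_mem hx)
    have h3 : x * y * x⁻¹ * y⁻¹ = x * (y * x⁻¹ * y⁻¹) := by group
    rw [h3]
    exact A.mul_mem hx this
  have h3 : x * y * x⁻¹ * y⁻¹ ∈ A ⊓ B := ⟨h2, h1⟩
  rw [hinf, Subgroup.mem_bot] at h3
  have : x * y = y * x := by
    have h4 : x * y = (x * y * x⁻¹ * y⁻¹) * (y * x) := by group
    rw [h4, h3, one_mul]
  exact this.symm

theorem not_primePow_of_two_primes {m a b : ℕ} (ha : a.Prime) (hb : b.Prime) (hab : a ≠ b)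
    (ham : a ∣ m) (hbm : b ∣ m) : ¬ ∃ r j : ℕ, r.Prime ∧ m = r ^ j := by
  rintro ⟨r, j, hr, rfl⟩
  have h1 := (Nat.prime_dvd_prime_iff_eq ha hr).mp (ha.dvd_of_dvd_pow ham)
  have h2 := (Nat.prime_dvd_prime_iff_eq hb hr).mp (hb.dvd_of_dvd_pow hbm)
  exact hab (h1.trans h2.symm)

/-- the divisors of `9240` congruent to `1` modulo `19` -/
theorem dvd_9240_mod_19 : ((List.range 9241).all fun m =>
    !decide (m ∣ 9240) || !decide (m % 19 = 1) ||
      decide (m ∈ [1, 20, 77, 210, 1540])) = true := by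
  decide +kernel

/-- order `19 r^k`, `r^k ∣ 9240`: the Sylow `19`-subgroup is normal -/
theorem good_of_primePow {d : ℕ} (hG : Nat.card G = 19 * d) (hd : ¬ 19 ∣ d) (hd9240 : d ∣ 9240)
    (hpp : ∃ r k : ℕ, r.Prime ∧ d = r ^ k) : Good G := by
  have : Fact (Nat.Prime 19) := ⟨by norm_num⟩
  have h19 : 19 ∣ 19 * d := Dvd.intro _ rfl
  have h192 : ¬ 19 ^ 2 ∣ 19 * d := by
    intro h
    apply hd
    rw [sq] at h
    exact (Nat.mul_dvd_mul_iff_left (by norm_num)).mp h
  have hdvd := card_sylow_dvd_div (G := G) hG h19 h192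
  rw [Nat.mul_div_cancel_left d (by norm_num)] at hdvd
  have hmod : Nat.card (Sylow 19 G) % 19 = 1 := by
    have := card_sylow_modEq_one 19 G
    rw [Nat.ModEq] at this
    omega
  have h9240 : Nat.card (Sylow 19 G) ∣ 9240 := hdvd.trans hd9240
  have hle : Nat.card (Sylow 19 G) < 9241 :=
    Nat.lt_succ_of_le (Nat.le_of_dvd (by norm_num) h9240)
  have hlist := dvd_9240_mod_19
  rw [List.all_eq_true] at hlist
  have hcase := hlist _ (List.mem_range.mpr hle)
  simp only [Bool.or_eq_true, Bool.not_eq_true', decide_eq_false_iff_not, decide_eq_true_eq,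
    List.mem_cons, List.not_mem_nil, or_false] at hcase
  obtain ⟨r, k, hr, rfl⟩ := hpp
  obtain ⟨j, -, hj⟩ := (Nat.dvd_prime_pow hr).mp hdvd
  have hpow : ∃ r j : ℕ, r.Prime ∧ Nat.card (Sylow 19 G) = r ^ j := ⟨r, j, hr, hj⟩
  have h1 : Nat.card (Sylow 19 G) = 1 := by
    rcases hcase with (h | h) | h
    · exact absurd h9240 h
    · exact absurd hmod h
    · rcases h with h | h | h | h | h
      · exact h
      · exact absurd hpow (not_primePow_of_two_primes (a := 2) (b := 5) (by norm_num)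
          (by norm_num) (by norm_num) (by rw [h]; norm_num) (by rw [h]; norm_num))
      · exact absurd hpow (not_primePow_of_two_primes (a := 7) (b := 11) (by norm_num)
          (by norm_num) (by norm_num) (by rw [h]; norm_num) (by rw [h]; norm_num))
      · exact absurd hpow (not_primePow_of_two_primes (a := 2) (b := 5) (by norm_num)
          (by norm_num) (by norm_num) (by rw [h]; norm_num) (by rw [h]; norm_num))
      · exact absurd hpow (not_primePow_of_two_primes (a := 2) (b := 5) (by norm_num)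
          (by norm_num) (by norm_num) (by rw [h]; norm_num) (by rw [h]; norm_num))
  intro P
  exact sylow_normal_of_card_eq_one 19 h1 P


/-- if every Sylow subgroup has order dividing `c`, then `|G|` divides `c` -/
theorem card_dvd_of_forall_sylow {c : ℕ} (hc : c ≠ 0)
    (h : ∀ (r : ℕ) [Fact r.Prime] (R : Sylow r G), Nat.card ↥(R : Subgroup G) ∣ c) :
    Nat.card G ∣ c := by
  have hG0 : Nat.card G ≠ 0 := Nat.card_pos.ne'
  rw [← Nat.factorization_prime_le_iff_dvd hG0 hc]
  intro r hr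
  have : Fact r.Prime := ⟨hr⟩
  obtain ⟨R⟩ : Nonempty (Sylow r G) := inferInstance
  have h1 := h r R
  rw [Sylow.card_eq_multiplicity] at h1
  exact (hr.pow_dvd_iff_le_factorization hc).mp h1

/-- the case of a normal subgroup of index `19` -/
theorem good_of_index_nineteen {d : ℕ} (hG : Nat.card G = 19 * d) (hd : ¬ 19 ∣ d)
    (hd9240 : d ∣ 9240) (ih : IH.{u} d) (N : Subgroup G) [hN : N.Normal]
    (hNd : Nat.card ↥N = d) : Good G := by
  have : Fact (Nat.Prime 19) := ⟨by norm_num⟩
  by_cases hpp : ∃ r k : ℕ, r.Prime ∧ d = r ^ k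
  · exact good_of_primePow hG hd hd9240 hpp
  by_contra hbad
  have h19 : 19 ∣ 19 * d := Dvd.intro _ rfl
  have h192 : ¬ 19 ^ 2 ∣ 19 * d := by
    intro h
    apply hd
    rw [sq] at h
    exact (Nat.mul_dvd_mul_iff_left (by norm_num)).mp h
  have hd0 : 0 < d := by
    rcases Nat.eq_zero_or_pos d with h | h
    · exact absurd (h ▸ dvd_zero 19) hd
    · exact h
  obtain ⟨P⟩ : Nonempty (Sylow 19 G) := inferInstance
  have hPc := card_sylow_eq_prime hG h19 h192 P
  have hquot : Nat.card (G ⧸ N) = 19 := by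
    have h1 := Subgroup.card_eq_card_quotient_mul_card_subgroup N
    rw [hG, hNd] at h1
    exact (Nat.eq_of_mul_eq_mul_right hd0 h1).symm
  have hc0 : Nat.card ↥(centralizer ((P : Subgroup G) : Set G)) ≠ 0 := Nat.card_pos.ne'
  have hall : ∀ (r : ℕ) [Fact r.Prime] (R : Sylow r G),
      Nat.card ↥(R : Subgroup G) ∣ Nat.card ↥(centralizer ((P : Subgroup G) : Set G)) := by
    intro r hrf R
    have hr : r.Prime := Fact.out
    by_cases hr19 : r = 19
    · subst hr19
      have hRc := card_sylow_eq_prime hG h19 h192 R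
      rw [hRc]
      have := Subgroup.card_dvd_of_le (sylow_le_centralizer_of_card_prime P hPc)
      rwa [hPc] at this
    -- `R ≤ N`
    obtain ⟨k, hk⟩ := (R.2).exists_card_eq
    have hcop : (Nat.card ↥(R : Subgroup G)).Coprime 19 := by
      rw [hk]
      exact Nat.Coprime.pow_left k ((Nat.coprime_primes hr (by norm_num)).mpr hr19)
    have hRN : (R : Subgroup G) ≤ N := by
      intro x hx
      rw [← QuotientGroup.eq_one_iff]
      have h1 : orderOf (x : G ⧸ N) ∣ 19 := by
        rw [← hquot]; exact orderOf_dvd_natCard _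
      have h2 : orderOf (x : G ⧸ N) ∣ Nat.card ↥(R : Subgroup G) := by
        have h3 : orderOf x ∣ Nat.card ↥(R : Subgroup G) := by
          have := orderOf_dvd_natCard (⟨x, hx⟩ : ↥(R : Subgroup G))
          rwa [← Subgroup.orderOf_coe] at this
        exact (orderOf_map_dvd (QuotientGroup.mk' N) x).trans h3
      have h4 : orderOf (x : G ⧸ N) ∣ 1 := by
        have := Nat.dvd_gcd h2 h1
        rwa [hcop] at this
      exact orderOf_eq_one_iff.mp (Nat.dvd_one.mp h4)
    -- Frattini
    have hfrat : normalizer ((R : Subgroup G) : Set G) ⊔ N = ⊤ :=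
      Sylow.normalizer_sup_eq_top' R hRN
    have h19NR : 19 ∣ Nat.card ↥(normalizer ((R : Subgroup G) : Set G)) := by
      have hsurj : Function.Surjective ((QuotientGroup.mk' N).comp
          (normalizer ((R : Subgroup G) : Set G)).subtype) := by
        intro q
        obtain ⟨g, rfl⟩ := QuotientGroup.mk'_surjective N q
        have hg : g ∈ (↑(normalizer ((R : Subgroup G) : Set G) ⊔ N) : Set G) := by
          rw [hfrat]; trivial
        rw [Subgroup.mul_normal] at hg
        obtain ⟨h, hh, n, hn, rfl⟩ := hg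
        refine ⟨⟨h, hh⟩, ?_⟩
        simp only [MonoidHom.coe_comp, Function.comp_apply, Subgroup.subtype_apply,
          QuotientGroup.mk'_apply]
        rw [QuotientGroup.eq]
        have : h⁻¹ * (h * n) = n := by group
        rw [this]
        exact hn
      have := Subgroup.card_dvd_of_surjective _ hsurj
      rwa [hquot] at this
    by_cases hRtop : normalizer ((R : Subgroup G) : Set G) = ⊤
    · -- `R` is normal in `G`
      have hRn : (R : Subgroup G).Normal := normalizer_eq_top_iff.mp hRtop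
      by_cases hR1 : (R : Subgroup G) = ⊥
      · rw [hR1, Subgroup.card_bot]; exact one_dvd _
      have h19R : ¬ 19 ∣ Nat.card ↥(R : Subgroup G) := by
        intro h
        have := Nat.Coprime.eq_one_of_dvd hcop.symm h
        omega
      have hRd : Nat.card ↥(R : Subgroup G) ∣ d := by
        have h1 : Nat.card ↥(R : Subgroup G) ∣ 19 * d := hG ▸ Subgroup.card_subgroup_dvd_card _
        exact hcop.dvd_of_dvd_mul_left h1
      rcases Nat.lt_or_ge (Nat.card ↥(R : Subgroup G)) d with hlt | hge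
      · exact (hbad (good_of_normal_coprime hG hd ih (R : Subgroup G) hR1 h19R hlt)).elim
      · have heq : Nat.card ↥(R : Subgroup G) = d := le_antisymm (Nat.le_of_dvd hd0 hRd) hge
        exact (hpp ⟨r, k, hr, by rw [← heq, hk]⟩).elim
    · -- `N(R)` is proper
      have hgoodK := good_subgroup_of_IH hG hd ih _ hRtop h19NR
      obtain ⟨P1, hP1K, hKP1⟩ := exists_sylow_le_normalizer hG hd _ h19NR hgoodK
      have hP1c := card_sylow_eq_prime hG h19 h192 P1
      have hle := le_centralizer_of_normalize (A := (R : Subgroup G)) (B := (P1 : Subgroup G))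
        (le_normalizer.trans hKP1) hP1K (by rw [hP1c]; exact hcop)
      rw [card_centralizer_sylow_eq P P1]
      exact Subgroup.card_dvd_of_le hle
  have hdvd := card_dvd_of_forall_sylow hc0 hall
  have htop : centralizer ((P : Subgroup G) : Set G) = ⊤ :=
    Subgroup.eq_top_of_le_card _ (Nat.le_of_dvd Nat.card_pos hdvd)
  have hPn : (P : Subgroup G).Normal := by
    apply normalizer_eq_top_iff.mp
    rw [eq_top_iff, ← htop]
    exact Subgroup.centralizer_le_normalizer _
  exact hbad (good_of_normal_card hG hd (P : Subgroup G) hPc)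

/-- **the reduction**: a non-simple group of order `19 d` is good, by induction -/
theorem good_of_not_simple {d : ℕ} (hG : Nat.card G = 19 * d) (hd : ¬ 19 ∣ d)
    (hd9240 : d ∣ 9240) (ih : IH.{u} d) (hns : ¬ IsSimpleGroup G) : Good G := by
  have : Fact (Nat.Prime 19) := ⟨by norm_num⟩
  have hd0 : 0 < d := by
    rcases Nat.eq_zero_or_pos d with h | h
    · exact absurd (h ▸ dvd_zero 19) hd
    · exact h
  have hnt : Nontrivial G := by
    apply (Finite.one_lt_card_iff_nontrivial).mp
    rw [hG]; omega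
  have hex : ∃ N : Subgroup G, N.Normal ∧ N ≠ ⊥ ∧ N ≠ ⊤ := by
    by_contra hno
    apply hns
    refine ⟨fun H hH => ?_⟩
    by_contra hcon
    rw [not_or] at hcon
    exact hno ⟨H, hH, hcon.1, hcon.2⟩
  obtain ⟨N, hNn, hN1, hNtop⟩ := hex
  by_cases h19N : 19 ∣ Nat.card ↥N
  · exact good_of_normal_good hG hd N h19N (good_subgroup_of_IH hG hd ih N hNtop h19N)
  · have hcN : Nat.card ↥N ∣ d := by
      have h1 : Nat.card ↥N ∣ 19 * d := hG ▸ Subgroup.card_subgroup_dvd_card N
      have hcop : Nat.Coprime (Nat.card ↥N) 19 :=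
        ((Nat.Prime.coprime_iff_not_dvd (by norm_num)).mpr h19N).symm
      exact hcop.dvd_of_dvd_mul_left h1
    rcases Nat.lt_or_ge (Nat.card ↥N) d with hlt | hge
    · exact good_of_normal_coprime hG hd ih N hN1 h19N hlt
    · exact good_of_index_nineteen hG hd hd9240 ih N (le_antisymm (Nat.le_of_dvd hd0 hcN) hge)


end

end Cfsg.Agent.Lib.Helper76.J1
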