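import Cfsg.Agent.Lib.Helper76.Ree2Syl

/-!
# Sylow 2-subgroups of `²G₂(q)`: final statements
-/

set_option autoImplicit false
set_option maxHeartbeats 800000

namespace Cfsg.Agent.Lib.Helper76.Ree

open Cfsg.Lie Cfsg.Agent.Lib.Helper24 Cfsg.Agent.Lib.Helper33.Ree
open Cfsg.Agent.Lib.Helper68.Ree2

section fin

variable {K : Type*} [Field K] [Fintype K] {m : ℕ}

local notation "G1" => twistedG2 K (3 ^ m)

/-- the standard Sylow 2-subgroup, as a Sylow subgroup -/
theorem exists_sylow_two (hK : Fintype.card K = 3 ^ (2 * m + 1)) :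
    ∃ S0 : Sylow 2 ↥G1, Nat.card ↥(S0 : Subgroup ↥G1) = 8 ∧ (∀ x ∈ S0, x * x = 1) ∧
      Subgroup.centralizer ((S0 : Subgroup ↥G1) : Set ↥G1) = (S0 : Subgroup ↥G1) ∧
      ∃ t : ↥G1, t ^ 3 = 1 ∧ t ∉ S0 ∧ t ∈ Subgroup.normalizer ((S0 : Subgroup ↥G1) : Set ↥G1) := by
  obtain ⟨P0, h8, hexp, hC, t, ht3, htP, htN⟩ := exists_sylow_struct hK
  have hP : IsPGroup 2 ↥P0 := IsPGroup.of_card (n := 3) (by rw [h8]; norm_num)
  have hidx : ¬ 2 ∣ P0.index := by
    rintro ⟨k, hk⟩
    have h1 := Subgroup.card_mul_index P0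
    rw [h8, hk, Cfsg.Agent.S1069.result hK] at h1
    have h2 := ree_order_mod_16 m
    omega
  refine ⟨hP.toSylow hidx, ?_, ?_, ?_, t, ht3, ?_, ?_⟩
  · exact h8
  · exact hexp
  · exact hC
  · exact htP
  · exact htN

/-- all Sylow 2-subgroups are elementary abelian of order 8 -/
theorem sylow_two_all (hK : Fintype.card K = 3 ^ (2 * m + 1)) (S : Sylow 2 ↥G1) :
    Nat.card S = 8 ∧ ∀ x ∈ S, x * x = 1 := by
  obtain ⟨S0, h8, hexp, -, -⟩ := exists_sylow_two hK
  haveI : Fact (Nat.Prime 2) := ⟨Nat.prime_two⟩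
  let e := Sylow.equiv S S0
  constructor
  · rw [← h8]
    exact Nat.card_congr e.toEquiv
  · intro x hx
    have h1 := hexp (e ⟨x, hx⟩ : ↥G1) (e ⟨x, hx⟩).2
    have h2 : e ⟨x, hx⟩ * e ⟨x, hx⟩ = 1 := Subtype.ext h1
    rw [← map_mul] at h2
    have h3 := e.injective (h2.trans (map_one e).symm)
    exact congrArg Subtype.val h3

/-- perfectness from simplicity -/
theorem commutator_eq_top_of_simple {G : Type*} [Group G] (h : IsSimpleGroup G)
    (hna : ¬ IsMulCommutative G) : commutator G = ⊤ := by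
  have hn : (commutator G).Normal := by unfold commutator; infer_instance
  rcases hn.eq_bot_or_eq_top with h0 | h0
  · exfalso
    apply hna
    refine ⟨⟨fun a b => ?_⟩⟩
    have : a * b * a⁻¹ * b⁻¹ ∈ commutator G := Subgroup.commutator_mem_commutator (Subgroup.mem_top a) (Subgroup.mem_top b)
    rw [h0, Subgroup.mem_bot] at this
    have h1 : a * b = (a * b * a⁻¹ * b⁻¹) * (b * a) := by group
    rw [h1, this, one_mul]
  · exact h0

/-- `C(S) = S` and `|N(S)| = 168` -/
theorem sylow_two_norm (hm : 1 ≤ m) (hK : Fintype.card K = 3 ^ (2 * m + 1)) (S : Sylow 2 ↥G1) :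
    Subgroup.centralizer ((S : Subgroup ↥G1) : Set ↥G1) = S ∧
      Nat.card (Subgroup.normalizer ((S : Subgroup ↥G1) : Set ↥G1)) = 168 := by
  obtain ⟨S0, h8, hexp, hC, t, ht3, htP, htN⟩ := exists_sylow_two hK
  haveI : Fact (Nat.Prime 2) := ⟨Nat.prime_two⟩
  obtain ⟨hs, hna⟩ := Cfsg.Agent.S1073.result hm hK
  have hperf := commutator_eq_top_of_simple hs hna
  have h168 := card_normalizer_eq hperf S0 h8 hexp hC t ht3 htP htN
  obtain ⟨g, hg⟩ := MulAction.exists_smul_eq ↥G1 S0 S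
  have hS : (S : Subgroup ↥G1) = (S0 : Subgroup ↥G1).map (MulAut.conj g).toMonoidHom := by
    rw [← hg, Sylow.coe_subgroup_smul (g := g) (P := S0)]
    ext x
    rw [Subgroup.mem_pointwise_smul_iff_inv_smul_mem, Subgroup.mem_map]
    constructor
    · intro h
      exact ⟨_, h, by simp [MulAut.smul_def]; group⟩
    · rintro ⟨y, hy, rfl⟩
      have e : (MulAut.conj g)⁻¹ • ((MulAut.conj g).toMonoidHom y) = y := by
        simp [MulAut.smul_def]; group
      rw [e]
      exact hy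
  constructor
  · rw [hS, centralizer_map_equiv, hC]
  · rw [hS, ← Subgroup.map_equiv_normalizer_eq, Subgroup.card_map_of_injective (MulAut.conj g).injective]
    exact h168

end fin

end Cfsg.Agent.Lib.Helper76.Ree
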