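import Cfsg.Agent.S1073
import Cfsg.Agent.Lib.Helper76.Ree2Fin

/-!
# Mini-pack K-NQ (S2787, architect helper53): leaves R1 (278703) and R2 (278704), parallel hands
-/

set_option autoImplicit false

namespace Cfsg.Agent.Lib.Helper76.NQ

open Cfsg Cfsg.Lie

/-- LEAF R1: `O₃(²G₂(q)) = 1`, `q ≥ 27` -/
theorem ree_normal_pgroup_eq_bot {K : Type*} [Field K] [Fintype K] {m : ℕ} (hm : 1 ≤ m)
    (hK : Fintype.card K = 3 ^ (2 * m + 1)) (N : Subgroup ↥(Cfsg.Lie.twistedG2 K (3 ^ m))) (hN : N.Normal)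
    (hNp : IsPGroup 3 N) : N = ⊥ := by
  obtain ⟨hs, hna⟩ := Cfsg.Agent.S1073.result hm hK
  have := hs
  have : Fact (Nat.Prime 3) := ⟨by norm_num⟩
  rcases hN.eq_bot_or_eq_top with h | h
  · exact h
  · exfalso
    -- the whole group is a 3-group
    have hG : IsPGroup 3 ↥(Cfsg.Lie.twistedG2 K (3 ^ m)) := by
      intro g
      obtain ⟨k, hk⟩ := hNp ⟨g, by rw [h]; exact Subgroup.mem_top g⟩
      exact ⟨k, by simpa using congrArg Subtype.val hk⟩
    have : Nontrivial ↥(Cfsg.Lie.twistedG2 K (3 ^ m)) := IsSimpleGroup.toNontrivial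
    have hZ : Nontrivial ↥(Subgroup.center ↥(Cfsg.Lie.twistedG2 K (3 ^ m))) := hG.center_nontrivial
    have hZn : (Subgroup.center ↥(Cfsg.Lie.twistedG2 K (3 ^ m))).Normal := inferInstance
    rcases hZn.eq_bot_or_eq_top with h1 | h1
    · rw [h1] at hZ
      exact not_nontrivial _ hZ
    · apply hna
      refine ⟨⟨fun a b => ?_⟩⟩
      have hb : b ∈ Subgroup.center ↥(Cfsg.Lie.twistedG2 K (3 ^ m)) := by rw [h1]; exact Subgroup.mem_top b
      exact Subgroup.mem_center_iff.mp hb a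

/-- LEAF R2: the `2`-subgroups of `²G₂(q)` are abelian -/
theorem ree_two_subgroup_comm {K : Type*} [Field K] [Fintype K] {m : ℕ}
    (hK : Fintype.card K = 3 ^ (2 * m + 1)) (T : Subgroup ↥(Cfsg.Lie.twistedG2 K (3 ^ m))) (hT : IsPGroup 2 T)
    (x y : ↥(Cfsg.Lie.twistedG2 K (3 ^ m))) (hx : x ∈ T) (hy : y ∈ T) : x * y = y * x := by
  have : Fact (Nat.Prime 2) := ⟨Nat.prime_two⟩
  obtain ⟨S, hS⟩ := hT.exists_le_sylow
  have hexp := (Cfsg.Agent.Lib.Helper76.Ree.sylow_two_all hK S).2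
  have hx2 : x * x = 1 := hexp x (hS hx)
  have hy2 : y * y = 1 := hexp y (hS hy)
  have hxy2 : (x * y) * (x * y) = 1 := hexp (x * y) (S.mul_mem (hS hx) (hS hy))
  -- x y = (x y)⁻¹ = y⁻¹ x⁻¹ = y x
  have h1 : x * y = (x * y)⁻¹ := eq_inv_of_mul_eq_one_left hxy2
  have hxi : x⁻¹ = x := (eq_inv_of_mul_eq_one_left hx2).symm
  have hyi : y⁻¹ = y := (eq_inv_of_mul_eq_one_left hy2).symm
  rw [h1, mul_inv_rev, hxi, hyi]

end Cfsg.Agent.Lib.Helper76.NQ
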