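import Mathlib
import Cfsg.Agent.Lib.Helper76.GroupRingDet

/-!
# Crossed homomorphisms into modules over the group ring of the abelianization

Main result `crossed_normElt_smul_eq_zero`: the norm element of `ℤ[G^ab]` kills the values of
any crossed homomorphism `G → M` (compatible with a map to the augmentation ideal).
This is the algebraic heart of the Principal Ideal Theorem (Witt's proof).
-/

set_option autoImplicit false

namespace Cfsg.Agent.Lib.Helper76
namespace PIT

open MonoidAlgebra
open scoped commutatorElement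

/-- A finite abelian group has generators `h i` with `h i ^ n i = 1` and `∏ n i = |Q|`. -/
theorem exists_cyclic_generators (Q : Type*) [CommGroup Q] [Finite Q] :
    ∃ (ι : Type) (_ : Fintype ι) (h : ι → Q) (n : ι → ℕ),
      (∀ i, h i ^ n i = 1) ∧ Subgroup.closure (Set.range h) = ⊤ ∧ ∏ i, n i = Nat.card Q := by
  classical
  obtain ⟨ι, hι, n, hn, ⟨e⟩⟩ := CommGroup.equiv_prod_multiplicative_zmod_of_finite Q
  let t : ι → ((i : ι) → Multiplicative (ZMod (n i))) :=
    fun i => Pi.mulSingle i (Multiplicative.ofAdd (1 : ZMod (n i)))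
  have hpow : ∀ (i : ι) (k : ℕ),
      t i ^ k = Pi.mulSingle i (Multiplicative.ofAdd ((k : ZMod (n i)))) := by
    intro i k
    ext j
    by_cases hj : j = i
    · subst hj
      simp [t, ← ofAdd_nsmul]
    · simp [t, Pi.mulSingle_eq_of_ne hj]
  refine ⟨ι, hι, fun i => e.symm (t i), n, ?_, ?_, ?_⟩
  · intro i
    rw [← map_pow, hpow, ZMod.natCast_self]
    simp
  · rw [eq_top_iff]
    intro x _
    have hx : e x ∈ Subgroup.closure (Set.range t) := by
      rw [← Finset.univ_prod_mulSingle (e x)]
      refine Subgroup.prod_mem _ (fun i _ => ?_)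
      have : Pi.mulSingle i (e x i) = t i ^ (Multiplicative.toAdd (e x i)).val := by
        rw [hpow]
        have : NeZero (n i) := ⟨by have := hn i; omega⟩
        rw [ZMod.natCast_zmod_val]
        rfl
      rw [this]
      exact Subgroup.pow_mem _ (Subgroup.subset_closure (Set.mem_range_self i)) _
    have h2 : e.symm (e x) ∈ (Subgroup.closure (Set.range t)).map e.symm.toMonoidHom :=
      Subgroup.mem_map_of_mem _ hx
    rw [MonoidHom.map_closure, ← Set.range_comp] at h2
    rw [e.symm_apply_apply] at h2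
    exact h2
  · rw [Nat.card_congr e.toEquiv, Nat.card_pi]
    refine Finset.prod_congr rfl (fun i _ => ?_)
    exact ((Nat.card_congr Multiplicative.toAdd).trans (Nat.card_zmod (n i))).symm

section crossed
variable {G : Type*} [Group G] {Q : Type*} [CommGroup Q] (π : G →* Q)
variable {M : Type*} [AddCommGroup M] [Module (MonoidAlgebra ℤ Q) M]
variable (β : G → M) (hβ : ∀ g g', β (g * g') = β g + of ℤ Q (π g) • β g')
include hβ

theorem crossed_one : β 1 = 0 := by
  have h := hβ 1 1
  rw [mul_one, map_one, map_one, one_smul] at h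
  exact left_eq_add.mp h

theorem crossed_inv (g : G) : β g⁻¹ = - (of ℤ Q (π g)⁻¹ • β g) := by
  have h := hβ g⁻¹ g
  rw [inv_mul_cancel, crossed_one π β hβ, map_inv] at h
  exact eq_neg_of_add_eq_zero_left h.symm

theorem crossed_pow (g : G) (n : ℕ) :
    β (g ^ n) = (∑ k ∈ Finset.range n, of ℤ Q (π g) ^ k) • β g := by
  induction n with
  | zero => simp [crossed_one π β hβ]
  | succ n ih =>
    rw [pow_succ, hβ, ih, Finset.sum_range_succ, add_smul, map_pow, map_pow]

theorem crossed_ker_mul (u g : G) (hu : π u = 1) : β (u * g) = β u + β g := by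
  rw [hβ, hu, map_one, one_smul]

theorem crossed_commutator (g g' : G) :
    β ⁅g, g'⁆ = (of ℤ Q (π g) - 1) • β g' - (of ℤ Q (π g') - 1) • β g := by
  have h1 : ⁅g, g'⁆ * (g' * g) = g * g' := by
    simp [commutatorElement_def, mul_assoc]
  have hc : π ⁅g, g'⁆ = 1 := by
    rw [map_commutatorElement]
    exact commutatorElement_eq_one_iff_commute.mpr (Commute.all _ _)
  have h2 := crossed_ker_mul π β hβ ⁅g, g'⁆ (g' * g) hc
  rw [h1, hβ, hβ] at h2
  rw [sub_smul, sub_smul, one_smul, one_smul]
  have h3 : β ⁅g, g'⁆ = β g + of ℤ Q (π g) • β g' - (β g' + of ℤ Q (π g') • β g) :=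
    eq_sub_of_add_eq h2.symm
  rw [h3]
  abel

/-- The elements whose crossed value lies in a given submodule form a subgroup. -/
def crossedSubgroup (S : Submodule (MonoidAlgebra ℤ Q) M) : Subgroup G where
  carrier := {g | β g ∈ S}
  one_mem' := by
    show β 1 ∈ S
    rw [crossed_one π β hβ]
    exact S.zero_mem
  mul_mem' := by
    intro a b ha hb
    show β (a * b) ∈ S
    rw [hβ]
    exact S.add_mem ha (S.smul_mem _ hb)
  inv_mem' := by
    intro a ha
    show β a⁻¹ ∈ S
    rw [crossed_inv π β hβ]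
    exact S.neg_mem (S.smul_mem _ ha)

theorem mem_crossedSubgroup (S : Submodule (MonoidAlgebra ℤ Q) M) (g : G) :
    g ∈ crossedSubgroup π β hβ S ↔ β g ∈ S := Iff.rfl

/-- **Key theorem.** Let `G` be a finite group, `π : G → Q` its abelianization, `β : G → M` a
crossed homomorphism into a `ℤ[Q]`-module, and `p : M → ℤ[Q]` a linear map with
`p (β g) = π g - 1`. Then the norm element of `ℤ[Q]` kills every `β g`. -/
theorem crossed_normElt_smul_eq_zero [Finite G] [Fintype Q]
    (hπ : Function.Surjective π) (hker : π.ker ≤ commutator G)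
    (p : M →ₗ[MonoidAlgebra ℤ Q] MonoidAlgebra ℤ Q) (hp : ∀ g, p (β g) = of ℤ Q (π g) - 1)
    (g : G) : (normElt : MonoidAlgebra ℤ Q) • β g = 0 := by
  classical
  obtain ⟨ι, hι, h, n, hpow, hgen, hcard⟩ := exists_cyclic_generators Q
  choose gI hgI using fun i => hπ (h i)
  have : Fintype ↥(commutator G) := Fintype.ofFinite _
  have hcomm_ker : ∀ u ∈ commutator G, π u = 1 := fun u hu =>
    MonoidHom.mem_ker.mp (Abelianization.commutator_subset_ker π hu)
  let σ : ι ⊕ ↥(commutator G) → G := Sum.elim gI (fun u => (u : G))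
  let b : ι ⊕ ↥(commutator G) → M := fun j => β (σ j)
  let S : Submodule (MonoidAlgebra ℤ Q) M := Submodule.span (MonoidAlgebra ℤ Q) (Set.range b)
  let I : Ideal (MonoidAlgebra ℤ Q) := RingHom.ker (aug : MonoidAlgebra ℤ Q →ₐ[ℤ] ℤ)
  have hofI : ∀ x : Q, of ℤ Q x - 1 ∈ I := by
    intro x
    show aug (of ℤ Q x - 1) = 0
    rw [map_sub, aug_of, map_one, sub_self]
  -- every value of `β` lies in the span of the `b j`
  have hK1 : ∀ g, β g ∈ S := by
    have hU : commutator G ≤ crossedSubgroup π β hβ S := fun u hu =>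
      Submodule.subset_span ⟨Sum.inr ⟨u, hu⟩, rfl⟩
    have hg : ∀ i, gI i ∈ crossedSubgroup π β hβ S := fun i =>
      Submodule.subset_span ⟨Sum.inl i, rfl⟩
    have hmap : (crossedSubgroup π β hβ S).map π = ⊤ := by
      rw [eq_top_iff, ← hgen, Subgroup.closure_le]
      rintro _ ⟨i, rfl⟩
      exact ⟨gI i, hg i, hgI i⟩
    intro g
    obtain ⟨t, ht, htg⟩ : π g ∈ (crossedSubgroup π β hβ S).map π := by rw [hmap]; trivial
    have h1 : t⁻¹ * g ∈ commutator G :=
      hker (by rw [MonoidHom.mem_ker, map_mul, map_inv, htg, inv_mul_cancel])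
    have h2 := Subgroup.mul_mem _ ht (hU h1)
    rw [mul_inv_cancel_left] at h2
    exact h2
  -- values on the commutator subgroup lie in `I • S`
  have hK2 : ∀ u ∈ commutator G, β u ∈ I • S := by
    intro u hu
    rw [commutator_eq_closure] at hu
    induction hu using Subgroup.closure_induction with
    | mem x hx =>
      obtain ⟨g₁, g₂, rfl⟩ := hx
      rw [crossed_commutator π β hβ]
      exact Submodule.sub_mem _ (Submodule.smul_mem_smul (hofI _) (hK1 _))
        (Submodule.smul_mem_smul (hofI _) (hK1 _))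
    | one =>
      rw [crossed_one π β hβ]
      exact Submodule.zero_mem _
    | mul x y hx hy ihx ihy =>
      have hx1 : π x = 1 := hcomm_ker x (by rw [commutator_eq_closure]; exact hx)
      rw [crossed_ker_mul π β hβ x y hx1]
      exact Submodule.add_mem _ ihx ihy
    | inv x hx ih =>
      have hx1 : π x = 1 := hcomm_ker x (by rw [commutator_eq_closure]; exact hx)
      rw [crossed_inv π β hβ, hx1, inv_one, map_one, one_smul]
      exact Submodule.neg_mem _ ih
  -- the relations
  let d : ι ⊕ ↥(commutator G) → MonoidAlgebra ℤ Q :=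
    Sum.elim (fun i => ∑ k ∈ Finset.range (n i), of ℤ Q (h i) ^ k) (fun _ => 1)
  have hrel : ∀ j, d j • b j ∈ I • S := by
    rintro (i | u)
    · show (∑ k ∈ Finset.range (n i), of ℤ Q (h i) ^ k) • β (gI i) ∈ I • S
      rw [← hgI i, ← crossed_pow π β hβ]
      apply hK2
      apply hker
      rw [MonoidHom.mem_ker, map_pow, hgI, hpow]
    · show (1 : MonoidAlgebra ℤ Q) • β (u : G) ∈ I • S
      rw [one_smul]
      exact hK2 u u.2
  have hex : ∀ j, ∃ a : ι ⊕ ↥(commutator G) → MonoidAlgebra ℤ Q,
      (∀ k, aug (a k) = 0) ∧ d j • b j = ∑ k, a k • b k := by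
    intro j
    have h1 := hrel j
    rw [Submodule.mem_ideal_smul_span_iff_exists_sum] at h1
    obtain ⟨a, ha, hsum⟩ := h1
    refine ⟨a, fun k => ha k, ?_⟩
    rw [← hsum, Finsupp.sum_fintype]
    intro k
    exact zero_smul _ _
  choose α hα hb using hex
  have hd : ∏ j, aug (d j) = (Fintype.card Q : ℤ) := by
    rw [Fintype.prod_sum_type]
    have h1 : ∀ i, aug (d (Sum.inl i)) = (n i : ℤ) := by
      intro i
      show aug (∑ k ∈ Finset.range (n i), of ℤ Q (h i) ^ k) = (n i : ℤ)
      simp [map_sum, map_pow]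
    have h2 : ∀ u : ↥(commutator G), aug (d (Sum.inr u)) = 1 := by
      intro u
      show aug (1 : MonoidAlgebra ℤ Q) = 1
      exact map_one _
    simp only [h1, h2, Finset.prod_const_one, mul_one]
    rw [← Nat.cast_prod, hcard, Nat.card_eq_fintype_card]
  have hgen' : ∀ δ : MonoidAlgebra ℤ Q, (∀ j, δ * p (b j) = 0) → ∀ x : Q, of ℤ Q x * δ = δ := by
    intro δ hδ x
    have hx : x ∈ Subgroup.closure (Set.range h) := by rw [hgen]; trivial
    induction hx using Subgroup.closure_induction with
    | mem y hy =>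
      obtain ⟨i, rfl⟩ := hy
      have h1 := hδ (Sum.inl i)
      have h2 : p (b (Sum.inl i)) = of ℤ Q (h i) - 1 := by
        show p (β (gI i)) = _
        rw [hp, hgI]
      rw [h2, mul_sub, mul_one, sub_eq_zero] at h1
      rw [mul_comm]
      exact h1
    | one => rw [map_one, one_mul]
    | mul y z _ _ ihy ihz => rw [map_mul, mul_assoc, ihz, ihy]
    | inv y _ ih =>
      calc of ℤ Q y⁻¹ * δ = of ℤ Q y⁻¹ * (of ℤ Q y * δ) := by rw [ih]
        _ = δ := by rw [← mul_assoc, ← map_mul, inv_mul_cancel, map_one, one_mul]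
  have key := normElt_smul_eq_zero b p d α hb hα hd hgen'
  have hle : S ≤ LinearMap.ker (LinearMap.lsmul (MonoidAlgebra ℤ Q) M normElt) := by
    refine Submodule.span_le.mpr ?_
    rintro _ ⟨j, rfl⟩
    exact key j
  exact hle (hK1 g)

end crossed

end PIT
end Cfsg.Agent.Lib.Helper76
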