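import Mathlib
import Cfsg.Prelude.Def_HallClasses

set_option autoImplicit false

namespace Cfsg.Agent.Lib.Helper76

variable {G : Type*} [Group G]

/-- The conjugate subgroup `g H g⁻¹`. -/
abbrev cj (H : Subgroup G) (g : G) : Subgroup G := H.map (MulAut.conj g).toMonoidHom

theorem mem_cj_iff (H : Subgroup G) (g x : G) : x ∈ cj H g ↔ g⁻¹ * x * g ∈ H := by
  constructor
  · rintro ⟨y, hy, rfl⟩
    simpa [mul_assoc] using hy
  · intro h
    exact ⟨g⁻¹ * x * g, h, by simp [mul_assoc]⟩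

theorem cj_mul (H : Subgroup G) (a b : G) : cj H (a * b) = cj (cj H b) a := by
  ext x
  rw [mem_cj_iff, mem_cj_iff, mem_cj_iff]
  have : (a * b)⁻¹ * x * (a * b) = b⁻¹ * (a⁻¹ * x * a) * b := by group
  rw [this]

theorem cj_one (H : Subgroup G) : cj H 1 = H := by
  ext x
  rw [mem_cj_iff]
  simp

theorem cj_mono {H K : Subgroup G} (h : H ≤ K) (g : G) : cj H g ≤ cj K g :=
  Subgroup.map_mono h

theorem cj_inv_cj (H : Subgroup G) (g : G) : cj (cj H g) g⁻¹ = H := by
  rw [← cj_mul, inv_mul_cancel, cj_one]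

theorem cj_cj_inv (H : Subgroup G) (g : G) : cj (cj H g⁻¹) g = H := by
  rw [← cj_mul, mul_inv_cancel, cj_one]

theorem cj_eq_self_iff (H : Subgroup G) (n : G) :
    cj H n = H ↔ n ∈ Subgroup.normalizer (H : Set G) := by
  constructor
  · intro h
    rw [Subgroup.mem_normalizer_iff'']
    intro y
    rw [← mem_cj_iff, h]
  · intro hn
    ext y
    rw [mem_cj_iff]
    rw [Subgroup.mem_normalizer_iff''] at hn
    exact (hn y).symm

theorem cj_eq_self_of_mem (H : Subgroup G) {h : G} (hh : h ∈ H) : cj H h = H :=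
  (cj_eq_self_iff H h).2 (Subgroup.le_normalizer hh)

theorem cj_le_of_mem {H J : Subgroup G} (hH : H ≤ J) {g : G} (hg : g ∈ J) : cj H g ≤ J := by
  intro x hx
  rw [mem_cj_iff] at hx
  have h1 := hH hx
  have : x = g * (g⁻¹ * x * g) * g⁻¹ := by group
  rw [this]
  exact J.mul_mem (J.mul_mem hg h1) (J.inv_mem hg)

theorem cj_sup (H K : Subgroup G) (g : G) : cj (H ⊔ K) g = cj H g ⊔ cj K g :=
  Subgroup.map_sup H K _

theorem cj_normal (A : Subgroup G) [A.Normal] (g : G) : cj A g = A := by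
  ext x
  rw [mem_cj_iff]
  constructor
  · intro h
    have := ‹A.Normal›.conj_mem _ h g
    have e : g * (g⁻¹ * x * g) * g⁻¹ = x := by group
    rwa [e] at this
  · intro h
    have := ‹A.Normal›.conj_mem _ h g⁻¹
    rwa [inv_inv] at this

theorem map_cj {G' : Type*} [Group G'] (f : G →* G') (H : Subgroup G) (g : G) :
    (cj H g).map f = cj (H.map f) (f g) := by
  ext x
  constructor
  · rintro ⟨y, ⟨z, hz, rfl⟩, rfl⟩
    exact ⟨f z, ⟨z, hz, rfl⟩, by simp⟩
  · rintro ⟨y, ⟨z, hz, rfl⟩, rfl⟩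
    exact ⟨g * z * g⁻¹, ⟨z, hz, by simp⟩, by simp⟩

theorem cj_normalizer (H : Subgroup G) (g : G) :
    cj (Subgroup.normalizer (H : Set G)) g = Subgroup.normalizer ((cj H g : Subgroup G) : Set G) := by
  ext x
  rw [mem_cj_iff, ← cj_eq_self_iff, ← cj_eq_self_iff]
  constructor
  · intro h
    have : x = g * (g⁻¹ * x * g) * g⁻¹ := by group
    rw [this, cj_mul, cj_mul, cj_inv_cj, h]
  · intro h
    rw [cj_mul, cj_mul, h, cj_inv_cj]

/-- `S ≤ N_G(S ∩ A)` for normal `A`. -/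
theorem le_normalizer_inf_normal (S A : Subgroup G) [A.Normal] :
    S ≤ Subgroup.normalizer ((S ⊓ A : Subgroup G) : Set G) := by
  intro s hs
  rw [← cj_eq_self_iff]
  have h1 : cj (S ⊓ A) s ≤ S ⊓ A := by
    refine le_inf ?_ ?_
    · exact cj_le_of_mem inf_le_left hs
    · calc cj (S ⊓ A) s ≤ cj A s := cj_mono inf_le_right s
        _ = A := cj_normal A s
  have h2 : cj (S ⊓ A) s⁻¹ ≤ S ⊓ A := by
    refine le_inf ?_ ?_
    · exact cj_le_of_mem inf_le_left (S.inv_mem hs)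
    · calc cj (S ⊓ A) s⁻¹ ≤ cj A s⁻¹ := cj_mono inf_le_right _
        _ = A := cj_normal A _
  refine le_antisymm h1 ?_
  calc S ⊓ A = cj (cj (S ⊓ A) s⁻¹) s := (cj_cj_inv _ _).symm
    _ ≤ cj (S ⊓ A) s := cj_mono h2 s

/-- Pronormality condition at a single element. -/
def PronAt (H : Subgroup G) (g : G) : Prop :=
  ∃ x ∈ H ⊔ cj H g, cj H g = cj H x

theorem isPronormal_iff (H : Subgroup G) : Cfsg.IsPronormal H ↔ ∀ g, PronAt H g := Iff.rfl

theorem pronAt_of_mem_normalizer {H : Subgroup G} {n : G}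
    (hn : n ∈ Subgroup.normalizer (H : Set G)) : PronAt H n :=
  ⟨1, one_mem _, by rw [cj_one, (cj_eq_self_iff H n).2 hn]⟩

theorem pronAt_of_left {H : Subgroup G} {y g : G} (hy : y ∈ H ⊔ cj H g)
    (h : PronAt H (y⁻¹ * g)) : PronAt H g := by
  obtain ⟨x, hx, hxe⟩ := h
  have hle : H ⊔ cj H (y⁻¹ * g) ≤ H ⊔ cj H g := by
    refine sup_le le_sup_left ?_
    rw [cj_mul]
    exact cj_le_of_mem le_sup_right (Subgroup.inv_mem _ hy)
  refine ⟨y * x, Subgroup.mul_mem _ hy (hle hx), ?_⟩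
  rw [cj_mul H y x, ← hxe, ← cj_mul, mul_inv_cancel_left]

theorem pronAt_mul_right {H : Subgroup G} {g n : G}
    (hn : n ∈ Subgroup.normalizer (H : Set G)) (h : PronAt H g) : PronAt H (g * n) := by
  unfold PronAt
  rw [cj_mul, (cj_eq_self_iff H n).2 hn]
  exact h

theorem PronAt.map {G' : Type*} [Group G'] (f : G →* G') {H : Subgroup G} {g : G}
    (h : PronAt H g) : PronAt (H.map f) (f g) := by
  obtain ⟨x, hx, hxe⟩ := h
  refine ⟨f x, ?_, ?_⟩
  · rw [← map_cj, ← Subgroup.map_sup]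
    exact Subgroup.mem_map_of_mem f hx
  · rw [← map_cj, ← map_cj, hxe]

theorem pronAt_lift {G' : Type*} [Group G'] (f : G →* G') {H : Subgroup G} {g : G}
    (h : PronAt (H.map f) (f g)) :
    ∃ z ∈ H ⊔ cj H g, (cj H g).map f = (cj H z).map f := by
  obtain ⟨x, hx, hxe⟩ := h
  rw [← map_cj, ← Subgroup.map_sup] at hx
  obtain ⟨z, hz, rfl⟩ := hx
  refine ⟨z, hz, ?_⟩
  rw [map_cj, map_cj, hxe]

theorem pronAt_map_iff_of_injective {G' : Type*} [Group G'] (f : G →* G')
    (hf : Function.Injective f) {H : Subgroup G} {g : G} :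
    PronAt (H.map f) (f g) ↔ PronAt H g := by
  constructor
  · intro h
    obtain ⟨z, hz, hze⟩ := pronAt_lift f h
    exact ⟨z, hz, Subgroup.map_injective hf hze⟩
  · exact PronAt.map f

theorem pronAt_of_map_of_ker_le {G' : Type*} [Group G'] (f : G →* G') {H : Subgroup G} {g : G}
    (hker : f.ker ≤ H) (h : PronAt (H.map f) (f g)) : PronAt H g := by
  obtain ⟨z, hz, hze⟩ := pronAt_lift f h
  refine ⟨z, hz, ?_⟩
  have hk : ∀ t : G, f.ker ≤ cj H t := by
    intro t
    calc f.ker = cj f.ker t := (cj_normal _ t).symm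
      _ ≤ cj H t := cj_mono hker t
  rw [← Subgroup.comap_map_eq_self (hk g), ← Subgroup.comap_map_eq_self (hk z), hze]

theorem isPronormal_map_of_surjective {G' : Type*} [Group G'] (f : G →* G')
    (hf : Function.Surjective f) {H : Subgroup G} (h : Cfsg.IsPronormal H) :
    Cfsg.IsPronormal (H.map f) := by
  intro g'
  obtain ⟨g, rfl⟩ := hf g'
  exact PronAt.map f (h g)

theorem isPronormal_cj {H : Subgroup G} (c : G) (h : Cfsg.IsPronormal H) :
    Cfsg.IsPronormal (cj H c) :=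
  isPronormal_map_of_surjective _ (MulAut.conj c).surjective h

end Cfsg.Agent.Lib.Helper76
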