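import Cfsg.Agent.Lib.Helper76.Pronormal

set_option autoImplicit false
set_option linter.unusedSectionVars false

namespace Cfsg.Agent.Lib.Helper76

open scoped Pointwise

variable {G : Type*} [Group G]

theorem coe_smul_sylow_eq_cj {p : ℕ} (P : Sylow p G) (g : G) :
    ((g • P : Sylow p G) : Subgroup G) = cj (P : Subgroup G) g := by
  rw [Sylow.coe_subgroup_smul]
  ext x
  rw [Subgroup.mem_pointwise_smul_iff_inv_smul_mem, mem_cj_iff]
  simp [MulAut.smul_def, mul_assoc]

theorem sylow_conj_of_le {p : ℕ} [Fact p.Prime] [Finite G] (P Q : Sylow p G) (K : Subgroup G)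
    (hP : (P : Subgroup G) ≤ K) (hQ : (Q : Subgroup G) ≤ K) :
    ∃ k ∈ K, (Q : Subgroup G) = cj (P : Subgroup G) k := by
  obtain ⟨k, hk⟩ := MulAction.exists_smul_eq (↥K) (P.subtype hP) (Q.subtype hQ)
  rw [Sylow.smul_subtype] at hk
  have h2 := Sylow.subtype_injective hk
  refine ⟨k, k.2, ?_⟩
  rw [← h2]
  exact coe_smul_sylow_eq_cj P k

theorem pronAt_of_sylow_normalizer {p : ℕ} [Fact p.Prime] [Finite G] (H : Subgroup G)
    (S : Sylow p G) (hS : (S : Subgroup G) ≤ H) (M : Subgroup G) [M.Normal]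
    (h : ∀ a ∈ M, a ∈ Subgroup.normalizer ((S : Subgroup G) : Set G) → PronAt H a) :
    ∀ a ∈ M, PronAt H a := by
  intro a ha
  have hSL : (S : Subgroup G) ≤ (H ⊔ cj H a) ⊓ (M ⊔ S) :=
    le_inf (hS.trans le_sup_left) le_sup_right
  have hSaL : ((a • S : Sylow p G) : Subgroup G) ≤ (H ⊔ cj H a) ⊓ (M ⊔ S) := by
    rw [coe_smul_sylow_eq_cj]
    refine le_inf ?_ ?_
    · exact (cj_mono hS a).trans le_sup_right
    · exact cj_le_of_mem le_sup_right (Subgroup.mem_sup_left ha)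
  obtain ⟨k, hk, hke⟩ := sylow_conj_of_le S (a • S) _ hSL hSaL
  obtain ⟨hkJ, hkMS⟩ := Subgroup.mem_inf.1 hk
  have hmul : (↑(M ⊔ (S : Subgroup G)) : Set G) = ↑M * ↑(S : Subgroup G) := Subgroup.normal_mul M S
  have hk' : k ∈ (↑M * ↑(S : Subgroup G) : Set G) := by
    rw [← hmul]; exact hkMS
  obtain ⟨m, hm, s, hs, rfl⟩ := Set.mem_mul.1 hk'
  have hmJ : m ∈ H ⊔ cj H a := by
    have : m = (m * s) * s⁻¹ := by group
    rw [this]
    exact Subgroup.mul_mem _ hkJ (Subgroup.inv_mem _ (Subgroup.mem_sup_left (hS hs)))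
  apply pronAt_of_left hmJ
  apply h (m⁻¹ * a) (M.mul_mem (M.inv_mem hm) ha)
  rw [← cj_eq_self_iff, cj_mul, ← coe_smul_sylow_eq_cj, hke, cj_mul, cj_eq_self_of_mem _ hs,
    ← cj_mul, inv_mul_cancel, cj_one]


section Bridge

variable [Finite G] {p : ℕ} [Fact p.Prime] (A : Subgroup G) [A.Normal]

/-- A `p`-subgroup of `G` containing (the image of) a Sylow `p`-subgroup of `A` meets `A` in it. -/
theorem sylow_inf_eq {T : Subgroup G} (P : Sylow p ↥A)
    (hT : (P : Subgroup ↥A).map A.subtype = T) (S : Subgroup G) (hS : IsPGroup p S)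
    (hTS : T ≤ S) : S ⊓ A = T := by
  have h1 : IsPGroup p (S.subgroupOf A) := hS.comap_subtype
  have h2 : (P : Subgroup ↥A) ≤ S.subgroupOf A := by
    rw [Subgroup.subgroupOf, ← Subgroup.map_le_iff_le_comap, hT]
    exact hTS
  have h3 := P.is_maximal' h1 h2
  rw [← Subgroup.subgroupOf_map_subtype, h3, hT]

theorem sylow_conj_in_between {T : Subgroup G} (P : Sylow p ↥A)
    (hT : (P : Subgroup ↥A).map A.subtype = T) (B : Subgroup G) (hBA : B ≤ A) (hTB : T ≤ B)
    (g : G) (hg : cj T g ≤ B) : ∃ b ∈ B, cj T g = cj T b := by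
  have hQ : (((MulAut.conjNormal g : MulAut ↥A) • P : Sylow p ↥A) : Subgroup ↥A).map A.subtype = cj T g := by
    rw [← hT]
    ext x
    rw [mem_cj_iff]
    constructor
    · rintro ⟨y, hy, rfl⟩
      rw [SetLike.mem_coe, Sylow.pointwise_smul_def,
        Subgroup.mem_pointwise_smul_iff_inv_smul_mem] at hy
      refine ⟨(MulAut.conjNormal g : MulAut ↥A)⁻¹ • y, hy, ?_⟩
      rw [MulAut.smul_def, Subgroup.subtype_apply, MulAut.conjNormal_inv_apply]
      rfl
    · rintro ⟨y, hy, hyx⟩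
      have hxA : x ∈ A := by
        have := ‹A.Normal›.conj_mem _ y.2 g
        have e : g * (A.subtype y) * g⁻¹ = x := by rw [hyx]; group
        rw [← e]; exact this
      refine ⟨⟨x, hxA⟩, ?_, rfl⟩
      rw [SetLike.mem_coe, Sylow.pointwise_smul_def,
        Subgroup.mem_pointwise_smul_iff_inv_smul_mem]
      have : (MulAut.conjNormal g : MulAut ↥A)⁻¹ • (⟨x, hxA⟩ : ↥A) = y := by
        apply Subtype.ext
        rw [MulAut.smul_def, MulAut.conjNormal_inv_apply]
        exact hyx.symm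
      rw [this]; exact hy
  have hPB : (P : Subgroup ↥A) ≤ B.subgroupOf A := by
    rw [Subgroup.subgroupOf, ← Subgroup.map_le_iff_le_comap, hT]
    exact hTB
  have hQB : (((MulAut.conjNormal g : MulAut ↥A) • P : Sylow p ↥A) : Subgroup ↥A) ≤ B.subgroupOf A := by
    rw [Subgroup.subgroupOf, ← Subgroup.map_le_iff_le_comap, hQ]
    exact hg
  obtain ⟨k, hk, hke⟩ := sylow_conj_of_le P ((MulAut.conjNormal g : MulAut ↥A) • P) _ hPB hQB
  refine ⟨(k : G), Subgroup.mem_subgroupOf.1 hk, ?_⟩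
  rw [← hQ, hke, map_cj, hT]
  rfl

theorem pronAt_of_pronormal_in_normal
    (hA : ∀ K : Subgroup ↥A, (∃ P : Sylow p ↥A, (P : Subgroup ↥A) ≤ K) → Cfsg.IsPronormal K)
    {T : Subgroup G} (P : Sylow p ↥A) (hT : (P : Subgroup ↥A).map A.subtype = T)
    (B : Subgroup G) (hBA : B ≤ A) (hTB : T ≤ B) (a : G) (ha : a ∈ A) : PronAt B a := by
  have hPB : (P : Subgroup ↥A) ≤ B.subgroupOf A := by
    rw [Subgroup.subgroupOf, ← Subgroup.map_le_iff_le_comap, hT]
    exact hTB
  have h1 : PronAt (B.subgroupOf A) ⟨a, ha⟩ := hA (B.subgroupOf A) ⟨P, hPB⟩ ⟨a, ha⟩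
  have h2 := (pronAt_map_iff_of_injective A.subtype A.subtype_injective).2 h1
  rw [Subgroup.map_subgroupOf_eq_of_le hBA] at h2
  exact h2


/-- From the quotient hypothesis on `N_G(T)/T` to an internal statement. -/
theorem pronAt_of_quotient_normalizer (T : Subgroup G)
    [(T.subgroupOf (Subgroup.normalizer (T : Set G))).Normal]
    (hN : ∀ K : Subgroup (↥(Subgroup.normalizer (T : Set G)) ⧸
        T.subgroupOf (Subgroup.normalizer (T : Set G))),
      (∃ P : Sylow p (↥(Subgroup.normalizer (T : Set G)) ⧸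
        T.subgroupOf (Subgroup.normalizer (T : Set G))), (P : Subgroup _) ≤ K) →
      Cfsg.IsPronormal K)
    (K : Subgroup G) (hTK : T ≤ K) (hKN : K ≤ Subgroup.normalizer (T : Set G))
    (S : Sylow p G) (hSK : (S : Subgroup G) ≤ K) (g : G)
    (hg : g ∈ Subgroup.normalizer (T : Set G)) : PronAt K g := by
  set N := Subgroup.normalizer (T : Set G) with hNdef
  have hSN : (S : Subgroup G) ≤ N := hSK.trans hKN
  let f := QuotientGroup.mk' (T.subgroupOf N)
  have hf : Function.Surjective f := QuotientGroup.mk'_surjective _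
  let Sbar : Sylow p (↥N ⧸ T.subgroupOf N) := (S.subtype hSN).mapSurjective hf
  have hSbar : (Sbar : Subgroup _) ≤ (K.subgroupOf N).map f := by
    rw [Sylow.coe_mapSurjective, Sylow.coe_subtype]
    exact Subgroup.map_mono (Subgroup.comap_mono hSK)
  have h1 : PronAt ((K.subgroupOf N).map f) (f ⟨g, hg⟩) := hN _ ⟨Sbar, hSbar⟩ (f ⟨g, hg⟩)
  have hker : f.ker ≤ K.subgroupOf N := by
    rw [QuotientGroup.ker_mk']
    exact Subgroup.comap_mono hTK
  have h2 : PronAt (K.subgroupOf N) ⟨g, hg⟩ := pronAt_of_map_of_ker_le f hker h1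
  have h3 := (pronAt_map_iff_of_injective N.subtype N.subtype_injective).2 h2
  rw [Subgroup.map_subgroupOf_eq_of_le hKN] at h3
  exact h3


/-- Forward direction: if overgroups of Sylow subgroups of `G` are pronormal then the same holds
in `N_G(T)/T`. -/
theorem quotient_normalizer_pronormal {T : Subgroup G} (PA : Sylow p ↥A)
    (hT : (PA : Subgroup ↥A).map A.subtype = T)
    [(T.subgroupOf (Subgroup.normalizer (T : Set G))).Normal]
    (hG : ∀ K : Subgroup G, (∃ P : Sylow p G, (P : Subgroup G) ≤ K) → Cfsg.IsPronormal K) :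
    ∀ K : Subgroup (↥(Subgroup.normalizer (T : Set G)) ⧸
        T.subgroupOf (Subgroup.normalizer (T : Set G))),
      (∃ P : Sylow p (↥(Subgroup.normalizer (T : Set G)) ⧸
        T.subgroupOf (Subgroup.normalizer (T : Set G))), (P : Subgroup _) ≤ K) →
      Cfsg.IsPronormal K := by
  set N := Subgroup.normalizer (T : Set G) with hNdef
  rintro Kbar ⟨Pbar, hPbar⟩
  let f := QuotientGroup.mk' (T.subgroupOf N)
  have hf : Function.Surjective f := QuotientGroup.mk'_surjective _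
  have hTp : IsPGroup p T := by
    rw [← hT]; exact PA.isPGroup'.map _
  have hkerp : IsPGroup p f.ker := by
    rw [QuotientGroup.ker_mk']
    exact hTp.comap_subtype
  -- Sylow of `N` lying over `Pbar`
  let PN : Sylow p ↥N := Pbar.comapOfKerIsPGroup f hkerp (by
    rw [MonoidHom.range_eq_top.2 hf]; exact le_top)
  have hPN : (PN : Subgroup ↥N) ≤ Kbar.comap f := Subgroup.comap_mono hPbar
  -- a Sylow of `G` above `T`, lying in `N`
  obtain ⟨S0, hS0⟩ := hTp.exists_le_sylow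
  have hS0A : (S0 : Subgroup G) ⊓ A = T := sylow_inf_eq A PA hT S0 S0.isPGroup' hS0
  have hS0N : (S0 : Subgroup G) ≤ N := by
    have := le_normalizer_inf_normal (S0 : Subgroup G) A
    rwa [hS0A] at this
  obtain ⟨n, hn⟩ := MulAction.exists_smul_eq (↥N) (S0.subtype hS0N) PN
  rw [Sylow.smul_subtype] at hn
  -- the Sylow of G inside K
  have hle : ((n • S0 : Sylow p G) : Subgroup G) ≤ (Kbar.comap f).map N.subtype := by
    have h1 : ((n • S0 : Sylow p G) : Subgroup G) =
        (((n • S0 : Sylow p G) : Subgroup G).subgroupOf N).map N.subtype :=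
      (Subgroup.map_subgroupOf_eq_of_le (Sylow.smul_le hS0N n)).symm
    rw [h1]
    apply Subgroup.map_mono
    rw [← Sylow.coe_subtype _ (Sylow.smul_le hS0N n), hn]
    exact hPN
  have hpron : Cfsg.IsPronormal ((Kbar.comap f).map N.subtype) := hG _ ⟨_, hle⟩
  intro gbar
  obtain ⟨g, rfl⟩ := hf gbar
  have h1 : PronAt ((Kbar.comap f).map N.subtype) (N.subtype g) := hpron (N.subtype g)
  have h2 := (pronAt_map_iff_of_injective N.subtype N.subtype_injective).1 h1
  have h3 := PronAt.map f h2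
  rw [Subgroup.map_comap_eq_self_of_surjective hf] at h3
  exact h3

/-- Forward direction of (ii): for a pronormal `K`, the image of the normalizer is the normalizer
of the image. -/
theorem map_normalizer_eq_of_isPronormal {K : Subgroup G} (hK : Cfsg.IsPronormal K) :
    (Subgroup.normalizer (K : Set G)).map (QuotientGroup.mk' A) =
      Subgroup.normalizer ((K.map (QuotientGroup.mk' A) : Subgroup (G ⧸ A)) : Set (G ⧸ A)) := by
  apply le_antisymm
  · exact Subgroup.le_normalizer_map _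
  · intro gbar hgbar
    obtain ⟨g, rfl⟩ := QuotientGroup.mk'_surjective A gbar
    rw [← cj_eq_self_iff, ← map_cj] at hgbar
    have hKg : PronAt K g := hK g
    obtain ⟨x, hx, hxe⟩ := hKg
    have hcj : cj K g ≤ K ⊔ A := by
      have h1 : (cj K g).map (QuotientGroup.mk' A) ≤ K.map (QuotientGroup.mk' A) := hgbar.le
      have h2 := Subgroup.comap_mono (f := QuotientGroup.mk' A) h1
      rw [Subgroup.comap_map_eq, Subgroup.comap_map_eq, QuotientGroup.ker_mk'] at h2
      exact le_sup_left.trans h2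
    have hxKA : x ∈ K ⊔ A := (sup_le le_sup_left hcj) hx
    have hxbar : QuotientGroup.mk' A x ∈ K.map (QuotientGroup.mk' A) := by
      have h1 : QuotientGroup.mk' A x ∈ (K ⊔ A).map (QuotientGroup.mk' A) :=
        Subgroup.mem_map_of_mem _ hxKA
      rw [Subgroup.map_sup] at h1
      rw [QuotientGroup.map_mk'_self, sup_bot_eq] at h1
      exact h1
    obtain ⟨k, hk, hke⟩ := hxbar
    have hn : x⁻¹ * g ∈ Subgroup.normalizer (K : Set G) := by
      rw [← cj_eq_self_iff, cj_mul, hxe, cj_inv_cj]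
    refine ⟨k * (x⁻¹ * g), Subgroup.mul_mem _ (Subgroup.le_normalizer hk) hn, ?_⟩
    rw [map_mul, hke, ← map_mul, mul_inv_cancel_left]


/-- Core lemma: internal form. -/
theorem pronAt_core (T H : Subgroup G) (hTA : T ≤ A)
    (hsyl : ∀ B : Subgroup G, B ≤ A → T ≤ B → ∀ g : G, cj T g ≤ B → ∃ b ∈ B, cj T g = cj T b)
    (hA' : ∀ B : Subgroup G, B ≤ A → T ≤ B → ∀ a ∈ A, PronAt B a)
    (hN' : ∀ K : Subgroup G, T ≤ K → K ≤ Subgroup.normalizer (T : Set G) →
      (S : Sylow p G) → (S : Subgroup G) ≤ K → ∀ g ∈ Subgroup.normalizer (T : Set G), PronAt K g)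
    (S : Sylow p G) (hSH : (S : Subgroup G) ≤ H) (hST : (S : Subgroup G) ⊓ A = T) :
    ∀ a ∈ A, PronAt H a := by
  intro a ha
  have hTS : T ≤ S := hST ▸ inf_le_left
  have hTH : T ≤ H := hTS.trans hSH
  -- B = H ⊓ A
  have hBA : H ⊓ A ≤ A := inf_le_right
  have hTB : T ≤ H ⊓ A := le_inf hTH hTA
  have hHB : H ≤ Subgroup.normalizer ((H ⊓ A : Subgroup G) : Set G) := le_normalizer_inf_normal H A
  -- Step 1
  obtain ⟨y, hy, hye⟩ := hA' (H ⊓ A) hBA hTB a ha
  have hyJ : y ∈ H ⊔ cj H a :=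
    (sup_le_sup inf_le_left (cj_mono inf_le_left a)) hy
  apply pronAt_of_left hyJ
  have hyA : y ∈ A := by
    have : H ⊓ A ⊔ cj (H ⊓ A) a ≤ A :=
      sup_le hBA ((cj_mono hBA a).trans (cj_normal A a).le)
    exact this hy
  have ha1 : y⁻¹ * a ∈ A := A.mul_mem (A.inv_mem hyA) ha
  have hB1 : cj (H ⊓ A) (y⁻¹ * a) = H ⊓ A := by
    rw [cj_mul, hye, cj_inv_cj]
  generalize y⁻¹ * a = a1 at ha1 hB1 ⊢
  clear hy hye hyJ hyA y
  -- Step 2
  have hT1 : cj T a1 ≤ H ⊓ A := by
    calc cj T a1 ≤ cj (H ⊓ A) a1 := cj_mono hTB a1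
      _ = H ⊓ A := hB1
  obtain ⟨b, hb, hbe⟩ := hsyl (H ⊓ A) hBA hTB a1 hT1
  have hbJ : b ∈ H ⊔ cj H a1 := Subgroup.mem_sup_left hb.1
  apply pronAt_of_left hbJ
  have hB2 : cj (H ⊓ A) (b⁻¹ * a1) = H ⊓ A := by
    rw [cj_mul, hB1, cj_eq_self_of_mem _ (Subgroup.inv_mem _ hb)]
  have hT2 : cj T (b⁻¹ * a1) = T := by
    rw [cj_mul, hbe, cj_inv_cj]
  generalize b⁻¹ * a1 = a2 at hB2 hT2 ⊢
  clear hbJ hbe hb b hT1 hB1 ha1 a1
  -- Step 3
  have ha2N : a2 ∈ Subgroup.normalizer (T : Set G) := (cj_eq_self_iff T a2).1 hT2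
  have hSN : (S : Subgroup G) ≤ Subgroup.normalizer (T : Set G) := by
    have := le_normalizer_inf_normal (S : Subgroup G) A
    rwa [hST] at this
  have hTK : T ≤ H ⊓ Subgroup.normalizer (T : Set G) := le_inf hTH Subgroup.le_normalizer
  have hSK : (S : Subgroup G) ≤ H ⊓ Subgroup.normalizer (T : Set G) := le_inf hSH hSN
  obtain ⟨z, hz, hze⟩ := hN' (H ⊓ Subgroup.normalizer (T : Set G)) hTK inf_le_right S hSK a2 ha2N
  have hzJ : z ∈ H ⊔ cj H a2 :=
    (sup_le_sup inf_le_left (cj_mono inf_le_left a2)) hz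
  apply pronAt_of_left hzJ
  apply pronAt_of_mem_normalizer
  rw [← cj_eq_self_iff]
  -- Frattini
  have hfrat : H = (H ⊓ A) ⊔ (H ⊓ Subgroup.normalizer (T : Set G)) := by
    apply le_antisymm
    · intro h hh
      have h1 : cj T h ≤ H ⊓ A := by
        calc cj T h ≤ cj (H ⊓ A) h := cj_mono hTB h
          _ = H ⊓ A := (cj_eq_self_iff _ _).2 (hHB hh)
      obtain ⟨b, hb, hbe⟩ := hsyl (H ⊓ A) hBA hTB h h1
      have h2 : b⁻¹ * h ∈ H ⊓ Subgroup.normalizer (T : Set G) := by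
        refine Subgroup.mem_inf.2 ⟨H.mul_mem (H.inv_mem hb.1) hh, ?_⟩
        rw [← cj_eq_self_iff, cj_mul, hbe, cj_inv_cj]
      have : h = b * (b⁻¹ * h) := by group
      rw [this]
      exact Subgroup.mul_mem _ (Subgroup.mem_sup_left hb) (Subgroup.mem_sup_right h2)
    · exact sup_le inf_le_left inf_le_left
  -- z normalizes B
  have hzB : z ∈ Subgroup.normalizer ((H ⊓ A : Subgroup G) : Set G) := by
    have h1 : H ⊓ Subgroup.normalizer (T : Set G) ≤
        Subgroup.normalizer ((H ⊓ A : Subgroup G) : Set G) := inf_le_left.trans hHB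
    have h2 : cj (H ⊓ Subgroup.normalizer (T : Set G)) a2 ≤
        Subgroup.normalizer ((H ⊓ A : Subgroup G) : Set G) := by
      calc cj (H ⊓ Subgroup.normalizer (T : Set G)) a2
          ≤ cj (Subgroup.normalizer ((H ⊓ A : Subgroup G) : Set G)) a2 := cj_mono h1 a2
        _ = Subgroup.normalizer ((cj (H ⊓ A) a2 : Subgroup G) : Set G) := cj_normalizer _ _
        _ = Subgroup.normalizer ((H ⊓ A : Subgroup G) : Set G) := by rw [hB2]
    exact (sup_le h1 h2) hz
  have hB3 : cj (H ⊓ A) (z⁻¹ * a2) = H ⊓ A := by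
    rw [cj_mul, hB2, (cj_eq_self_iff _ _).2 (Subgroup.inv_mem _ hzB)]
  have hK3 : cj (H ⊓ Subgroup.normalizer (T : Set G)) (z⁻¹ * a2) =
      H ⊓ Subgroup.normalizer (T : Set G) := by
    rw [cj_mul, hze, cj_inv_cj]
  conv_lhs => rw [hfrat]
  rw [cj_sup, hB3, hK3, ← hfrat]


/-- Backward direction, assembled: for `H ≥ S ≥ T` with `S` Sylow in `G`, `H` satisfies the
pronormality condition at every element of `A`. -/
theorem pronAt_of_mem_normal
    (hA : ∀ K : Subgroup ↥A, (∃ P : Sylow p ↥A, (P : Subgroup ↥A) ≤ K) → Cfsg.IsPronormal K)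
    {T : Subgroup G} (PA : Sylow p ↥A) (hT : (PA : Subgroup ↥A).map A.subtype = T)
    [(T.subgroupOf (Subgroup.normalizer (T : Set G))).Normal]
    (hN : ∀ K : Subgroup (↥(Subgroup.normalizer (T : Set G)) ⧸
        T.subgroupOf (Subgroup.normalizer (T : Set G))),
      (∃ P : Sylow p (↥(Subgroup.normalizer (T : Set G)) ⧸
        T.subgroupOf (Subgroup.normalizer (T : Set G))), (P : Subgroup _) ≤ K) →
      Cfsg.IsPronormal K)
    (H : Subgroup G) (S : Sylow p G) (hSH : (S : Subgroup G) ≤ H) (hTS : T ≤ S) :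
    ∀ a ∈ A, PronAt H a := by
  have hTA : T ≤ A := by
    rw [← hT]; exact Subgroup.map_subtype_le _
  exact pronAt_core A T H hTA (sylow_conj_in_between A PA hT)
    (fun B hBA hTB a ha => pronAt_of_pronormal_in_normal A hA PA hT B hBA hTB a ha)
    (fun K hTK hKN S hSK g hg => pronAt_of_quotient_normalizer T hN K hTK hKN S hSK g hg)
    S hSH (sylow_inf_eq A PA hT S S.isPGroup' hTS)

/-- Reduction to overgroups of a Sylow subgroup containing `T`. -/
theorem isPronormal_of_key {T : Subgroup G} (hTp : IsPGroup p T) (H : Subgroup G)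
    (hH : ∃ P : Sylow p G, (P : Subgroup G) ≤ H)
    (key : ∀ (H0 : Subgroup G) (S0 : Sylow p G), (S0 : Subgroup G) ≤ H0 → T ≤ S0 →
      ∀ g, PronAt H0 g) : Cfsg.IsPronormal H := by
  obtain ⟨S', hS'⟩ := hH
  obtain ⟨S0, hS0⟩ := hTp.exists_le_sylow
  obtain ⟨c, hc⟩ := MulAction.exists_smul_eq G S' S0
  have h1 : (S0 : Subgroup G) ≤ cj H c := by
    rw [← hc, coe_smul_sylow_eq_cj]
    exact cj_mono hS' c
  have h2 : Cfsg.IsPronormal (cj H c) := key (cj H c) S0 h1 hS0
  have h3 := isPronormal_cj c⁻¹ h2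
  rwa [cj_inv_cj] at h3

end Bridge

end Cfsg.Agent.Lib.Helper76
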