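import Mathlib
import Cfsg.Prelude.Def_Solvable
import Cfsg.Agent.Lib.Helper76.FrobeniusShrink
import Cfsg.Agent.Lib.Helper97.QuatRecog

set_option autoImplicit false

open scoped Pointwise

namespace Cfsg.Agent.Lib.Helper76

/-- Version of `exists_frobenius_of_fpf` that also records the index of the complement. -/
theorem exists_frobenius_of_fpf_index {N K : Type*} [Group N] [Group K] [Finite N] [Finite K]
    [Nontrivial N] [Nontrivial K] (φ : K →* MulAut N)
    (hfpf : ∀ (a : K) (v : N), φ a v = v → a = 1 ∨ v = 1) :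
    ∃ (L : Type) (_ : Group L) (_ : Finite L) (C : Subgroup L),
      Cfsg.IsFrobeniusComplement C ∧ Nonempty (K ≃* C) ∧ C.index = Nat.card N := by
  have hfin : Finite (N ⋊[φ] K) := Finite.of_equiv _ SemidirectProduct.equivProd.symm
  have hsmall : Small.{0} (N ⋊[φ] K) := Countable.toSmall _
  let f : Shrink.{0} (N ⋊[φ] K) ≃* N ⋊[φ] K := Shrink.mulEquiv
  let C' : Subgroup (N ⋊[φ] K) := (SemidirectProduct.inr).range
  have hC' : Cfsg.IsFrobeniusComplement C' := Cfsg.Agent.S4299.frob_of_fpf φ hfpf
  have e1 : K ≃* C' := MonoidHom.ofInjective SemidirectProduct.inr_injective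
  have hidx : C'.index = Nat.card N := by
    have h1 : C'.index * Nat.card C' = Nat.card (N ⋊[φ] K) := C'.index_mul_card
    have h2 : Nat.card (N ⋊[φ] K) = Nat.card N * Nat.card K := by
      rw [Nat.card_congr SemidirectProduct.equivProd, Nat.card_prod]
    have h3 : Nat.card C' = Nat.card K := (Nat.card_congr e1.toEquiv).symm
    rw [h2, h3] at h1
    exact Nat.eq_of_mul_eq_mul_right Nat.card_pos h1
  refine ⟨Shrink.{0} (N ⋊[φ] K), inferInstance, Finite.of_equiv _ f.symm.toEquiv,
    C'.comap f.toMonoidHom, isFrobeniusComplement_comap f C' hC', ?_, ?_⟩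
  · let e2 : C'.comap f.toMonoidHom ≃* C' :=
      { toFun := fun x => ⟨f x, x.2⟩
        invFun := fun y => ⟨f.symm y, by
          rw [Subgroup.mem_comap]
          simp⟩
        left_inv := fun x => Subtype.ext (by simp)
        right_inv := fun y => Subtype.ext (by simp)
        map_mul' := fun x y => Subtype.ext (by
          change f ((x : Shrink.{0} (N ⋊[φ] K)) * (y : Shrink.{0} (N ⋊[φ] K))) = f x * f y
          exact map_mul f _ _) }
    exact ⟨e1.trans e2.symm⟩
  · rw [Subgroup.index_comap_of_surjective _ f.surjective, hidx]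

/-- `QuaternionGroup 2` acts fixed-point-freely on some group of order `n * n`. -/
def QAct (n : ℕ) : Prop :=
  ∃ (N : Type) (_ : Group N) (_ : Finite N) (φ : QuaternionGroup 2 →* MulAut N),
    (∀ (g : QuaternionGroup 2) (v : N), φ g v = v → g = 1 ∨ v = 1) ∧ Nat.card N = n * n

theorem qAct_one : QAct 1 :=
  ⟨PUnit, inferInstance, inferInstance, 1, fun _ _ _ => Or.inr (Subsingleton.elim _ _), by simp⟩

theorem qAct_mul {a b : ℕ} (ha : QAct a) (hb : QAct b) : QAct (a * b) := by
  obtain ⟨N₁, _, _, φ₁, h₁, c₁⟩ := ha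
  obtain ⟨N₂, _, _, φ₂, h₂, c₂⟩ := hb
  let φ : QuaternionGroup 2 →* MulAut (N₁ × N₂) :=
    { toFun := fun g => MulEquiv.prodCongr (φ₁ g) (φ₂ g)
      map_one' := by
        ext x
        · rw [map_one, map_one]; rfl
        · rw [map_one, map_one]; rfl
      map_mul' := fun g h => by
        ext x
        · rw [map_mul, map_mul]; rfl
        · rw [map_mul, map_mul]; rfl }
  refine ⟨N₁ × N₂, inferInstance, inferInstance, φ, ?_, ?_⟩
  · rintro g ⟨v₁, v₂⟩ hv
    have hv' : (φ₁ g v₁, φ₂ g v₂) = (v₁, v₂) := hv
    rw [Prod.mk.injEq] at hv'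
    rcases h₁ g v₁ hv'.1 with h | h
    · exact Or.inl h
    rcases h₂ g v₂ hv'.2 with h' | h'
    · exact Or.inl h'
    · right; rw [h, h']; rfl
  · rw [Nat.card_prod, c₁, c₂]; ring

section Prime

variable (r : ℕ) [Fact r.Prime] (a b : ZMod r) (hab : a ^ 2 + b ^ 2 = -1)

/-- The matrix `[[a, b], [b, -a]]` as an additive automorphism. -/
def quatI : (ZMod r × ZMod r) ≃+ (ZMod r × ZMod r) where
  toFun v := (a * v.1 + b * v.2, b * v.1 - a * v.2)
  invFun v := (-(a * v.1 + b * v.2), -(b * v.1 - a * v.2))
  left_inv v := by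
    ext
    · simp only; linear_combination (-v.1) * hab
    · simp only; linear_combination (-v.2) * hab
  right_inv v := by
    ext
    · simp only; linear_combination (-v.1) * hab
    · simp only; linear_combination (-v.2) * hab
  map_add' v w := by
    ext
    · simp only [Prod.fst_add, Prod.snd_add]; ring
    · simp only [Prod.fst_add, Prod.snd_add]; ring

/-- The matrix `[[0, -1], [1, 0]]` as an additive automorphism. -/
def quatJ : (ZMod r × ZMod r) ≃+ (ZMod r × ZMod r) where
  toFun v := (-v.2, v.1)
  invFun v := (v.2, -v.1)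
  left_inv v := by ext <;> simp
  right_inv v := by ext <;> simp
  map_add' v w := by
    ext
    · simp only [Prod.fst_add, Prod.snd_add]; ring
    · simp only [Prod.fst_add, Prod.snd_add]

theorem quatI_apply (v : ZMod r × ZMod r) :
    quatI r a b hab v = (a * v.1 + b * v.2, b * v.1 - a * v.2) := rfl

theorem quatI_symm_apply (v : ZMod r × ZMod r) :
    (quatI r a b hab).symm v = (-(a * v.1 + b * v.2), -(b * v.1 - a * v.2)) := rfl

theorem quatJ_apply (v : ZMod r × ZMod r) : quatJ r v = (-v.2, v.1) := rfl

theorem quatJ_symm_apply (v : ZMod r × ZMod r) : (quatJ r).symm v = (v.2, -v.1) := rfl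

theorem quatI_sq_apply (v : ZMod r × ZMod r) : quatI r a b hab (quatI r a b hab v) = -v := by
  rw [quatI_apply, quatI_apply]
  ext
  · simp only [Prod.fst_neg]; linear_combination v.1 * hab
  · simp only [Prod.snd_neg]; linear_combination v.2 * hab

theorem quatJ_sq_apply (v : ZMod r × ZMod r) : quatJ r (quatJ r v) = -v := by
  rw [quatJ_apply, quatJ_apply]
  rfl

theorem quatJ_conj_apply (v : ZMod r × ZMod r) :
    quatJ r (quatI r a b hab ((quatJ r).symm v)) = (quatI r a b hab).symm v := by
  rw [quatJ_symm_apply, quatI_apply, quatJ_apply, quatI_symm_apply]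
  ext
  · simp only; ring
  · simp only; ring

/-- multiplicative versions -/
def quatIM : MulAut (Multiplicative (ZMod r × ZMod r)) := AddEquiv.toMultiplicative (quatI r a b hab)

def quatJM : MulAut (Multiplicative (ZMod r × ZMod r)) := AddEquiv.toMultiplicative (quatJ r)

theorem quatIM_apply (v : Multiplicative (ZMod r × ZMod r)) :
    quatIM r a b hab v = Multiplicative.ofAdd (quatI r a b hab (Multiplicative.toAdd v)) := rfl

theorem quatIM_inv_apply (v : Multiplicative (ZMod r × ZMod r)) :
    (quatIM r a b hab)⁻¹ v = Multiplicative.ofAdd ((quatI r a b hab).symm (Multiplicative.toAdd v)) :=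
  rfl

theorem quatJM_apply (v : Multiplicative (ZMod r × ZMod r)) :
    quatJM r v = Multiplicative.ofAdd (quatJ r (Multiplicative.toAdd v)) := rfl

theorem quatJM_inv_apply (v : Multiplicative (ZMod r × ZMod r)) :
    (quatJM r)⁻¹ v = Multiplicative.ofAdd ((quatJ r).symm (Multiplicative.toAdd v)) := rfl

theorem quatIM_sq_apply (v : Multiplicative (ZMod r × ZMod r)) :
    (quatIM r a b hab ^ 2) v = Multiplicative.ofAdd (-(Multiplicative.toAdd v)) := by
  rw [pow_two, MulAut.mul_apply, quatIM_apply, quatIM_apply, toAdd_ofAdd, quatI_sq_apply]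

theorem quatIM_pow_four : quatIM r a b hab ^ (2 * 2) = 1 := by
  apply MulEquiv.ext
  intro v
  rw [pow_mul, pow_two ((quatIM r a b hab) ^ 2), MulAut.mul_apply, quatIM_sq_apply,
    quatIM_sq_apply, toAdd_ofAdd, neg_neg]
  rfl

theorem quatJM_mul_self : quatJM r * quatJM r = quatIM r a b hab ^ 2 := by
  apply MulEquiv.ext
  intro v
  rw [quatIM_sq_apply, MulAut.mul_apply, quatJM_apply, quatJM_apply, toAdd_ofAdd, quatJ_sq_apply]

theorem quatJM_conj :
    quatJM r * quatIM r a b hab * (quatJM r)⁻¹ = (quatIM r a b hab)⁻¹ := by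
  apply MulEquiv.ext
  intro v
  rw [MulAut.mul_apply, MulAut.mul_apply, quatJM_inv_apply, quatIM_apply, quatJM_apply,
    quatIM_inv_apply, toAdd_ofAdd, toAdd_ofAdd, quatJ_conj_apply]

end Prime

theorem quat2_cases : ∀ g : QuaternionGroup 2,
    g = 1 ∨ g = QuaternionGroup.a 2 ∨ g * g = QuaternionGroup.a 2 := by decide

theorem qAct_prime (r : ℕ) [Fact r.Prime] (hr2 : r ≠ 2) : QAct r := by
  obtain ⟨a, b, hab⟩ := ZMod.sq_add_sq r (-1 : ZMod r)
  let φ := Cfsg.Agent.Lib.Helper97.quatHom 2 (quatIM r a b hab) (quatJM r)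
    (quatIM_pow_four r a b hab) (quatJM_mul_self r a b hab) (quatJM_conj r a b hab)
  refine ⟨Multiplicative (ZMod r × ZMod r), inferInstance, inferInstance, φ, ?_, ?_⟩
  · have hz : ∀ v, φ (QuaternionGroup.a 2) v = Multiplicative.ofAdd (-(Multiplicative.toAdd v)) := by
      intro v
      have h1 : φ (QuaternionGroup.a 2) = quatIM r a b hab ^ 2 := by
        show Cfsg.Agent.Lib.Helper97.zpw (2 * 2) (quatIM r a b hab) 2 = _
        unfold Cfsg.Agent.Lib.Helper97.zpw
        rfl
      rw [h1, quatIM_sq_apply]
    have h2ne : (2 : ZMod r) ≠ 0 := by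
      intro h
      have h' : ((2 : ℕ) : ZMod r) = 0 := by exact_mod_cast h
      rw [ZMod.natCast_eq_zero_iff] at h'
      rcases (Nat.dvd_prime Nat.prime_two).1 h' with h1 | h1
      · exact (Fact.out : r.Prime).ne_one h1
      · exact hr2 h1
    have h2 : ∀ v : Multiplicative (ZMod r × ZMod r),
        Multiplicative.ofAdd (-(Multiplicative.toAdd v)) = v → v = 1 := by
      intro v hv
      have h : -(Multiplicative.toAdd v) = Multiplicative.toAdd v := congrArg Multiplicative.toAdd hv
      have hx : ∀ x : ZMod r, -x = x → x = 0 := by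
        intro x hx
        have : 2 * x = 0 := by linear_combination -hx
        rcases mul_eq_zero.1 this with h | h
        · exact absurd h h2ne
        · exact h
      have h0 : Multiplicative.toAdd v = 0 := by
        ext
        · exact hx _ (congrArg Prod.fst h)
        · exact hx _ (congrArg Prod.snd h)
      exact Multiplicative.toAdd.injective h0
    intro g v hv
    rcases quat2_cases g with h | h | h
    · left; exact h
    · right; rw [h, hz] at hv; exact h2 v hv
    · right
      have : φ (g * g) v = v := by rw [map_mul, MulAut.mul_apply, hv, hv]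
      rw [h, hz] at this; exact h2 v this
  · show Nat.card (ZMod r × ZMod r) = r * r
    rw [Nat.card_prod, Nat.card_zmod]

theorem qAct_of_odd : ∀ n : ℕ, Odd n → QAct n := by
  intro n
  induction n using Nat.recOnMul with
  | zero => intro h; exact absurd h (by decide)
  | one => intro _; exact qAct_one
  | prime p hp =>
    intro h
    haveI : Fact p.Prime := ⟨hp⟩
    apply qAct_prime p
    rintro rfl
    exact absurd h (by decide)
  | mul a b iha ihb =>
    intro h
    rw [Nat.odd_mul] at h
    exact qAct_mul (iha h.1) (ihb h.2)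

end Cfsg.Agent.Lib.Helper76
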