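import Mathlib

set_option autoImplicit false

namespace Cfsg.Agent.Lib.Helper76

universe u

theorem card_ker_mul_card_range_add {A B : Type*} [AddGroup A] [AddGroup B] [Finite A]
    (f : A →+ B) : Nat.card f.ker * Nat.card f.range = Nat.card A := by
  rw [← AddSubgroup.index_ker, AddSubgroup.card_mul_index]

/-- Elementary abelian case: a "quaternionic structure" `α² = β² = -1`, `αβ = -βα` on a finite
abelian group of odd order and prime exponent forces square order. -/
theorem isSquare_card_of_quat_elementary {V : Type*} [AddCommGroup V] [Finite V] (r : ℕ)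
    [Fact r.Prime] (hr : ∀ v : V, r • v = 0) (hodd : Odd (Nat.card V))
    (α β : V →+ V) (hα : ∀ v, α (α v) = -v) (hβ : ∀ v, β (β v) = -v)
    (hαβ : ∀ v, α (β v) = -β (α v)) : IsSquare (Nat.card V) := by
  obtain ⟨a0, b0, hab⟩ := ZMod.sq_add_sq r (-1 : ZMod r)
  obtain ⟨a, rfl⟩ := ZMod.natCast_zmod_surjective a0
  obtain ⟨b, rfl⟩ := ZMod.natCast_zmod_surjective b0
  have hdvd : r ∣ a * a + b * b + 1 := by
    rw [← ZMod.natCast_eq_zero_iff]
    push_cast
    rw [← sq, ← sq, hab]
    ring
  obtain ⟨c, hc⟩ := hdvd
  -- the involution u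
  let u : V →+ V := a • α + b • β
  have hu_apply : ∀ v, u v = a • α v + b • β v := fun v => rfl
  have hβα : ∀ v, β (α v) = -α (β v) := by
    intro v; rw [hαβ, neg_neg]
  have key : ∀ v : V, (a * a + b * b) • v = -v := by
    intro v
    have h1 : (a * a + b * b + 1) • v = 0 := by
      rw [hc, mul_smul, hr]
    rw [add_smul, one_smul] at h1
    exact eq_neg_of_add_eq_zero_left h1
  have huu : ∀ v, u (u v) = v := by
    intro v
    rw [hu_apply (u v), hu_apply v]
    simp only [map_add, map_nsmul, hα, hβ, hβα]
    have := key v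
    rw [add_smul, mul_smul, mul_smul] at this
    simp only [smul_add, smul_neg]
    rw [hαβ v]
    simp only [smul_neg]
    have e : a • b • β (α v) = b • a • β (α v) := by
      rw [smul_smul, smul_smul, mul_comm]
    rw [e]
    have h2 : -(a • a • v) + -(b • b • v) = v := by
      rw [← neg_add, this, neg_neg]
    abel_nf
    abel_nf at h2
    exact h2
  -- γ = αβ anticommutes with u and squares to -1
  let γ : V →+ V := α.comp β
  have hγ_apply : ∀ v, γ v = α (β v) := fun v => rfl
  have hγγ : ∀ v, γ (γ v) = -v := by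
    intro v
    simp only [hγ_apply, hβα, hβ, map_neg, hα, neg_neg]
  have hγinj : Function.Injective γ := by
    intro x y hxy
    have := congrArg γ hxy
    rw [hγγ, hγγ] at this
    exact neg_injective this
  have huγ : ∀ v, u (γ v) = -γ (u v) := by
    intro v
    rw [hu_apply (γ v), hu_apply v, hγ_apply, hγ_apply]
    simp only [map_add, map_nsmul, hα, hβ, hβα, map_neg, smul_neg, neg_neg]
    abel
  -- the hom f = u - 1
  let f : V →+ V := u - AddMonoidHom.id V
  have hf_apply : ∀ v, f v = u v - v := fun v => rfl
  have hcard := card_ker_mul_card_range_add f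
  have hrange : f.range = f.ker.map γ := by
    ext x
    rw [AddMonoidHom.mem_range, AddSubgroup.mem_map]
    constructor
    · rintro ⟨w, rfl⟩
      refine ⟨-γ (f w), ?_, ?_⟩
      · rw [AddMonoidHom.mem_ker, hf_apply, map_neg, huγ, hf_apply w, map_sub, huu]
        simp
      · rw [map_neg, hγγ, neg_neg]
    · rintro ⟨y, hy, rfl⟩
      rw [AddMonoidHom.mem_ker, hf_apply, sub_eq_zero] at hy
      obtain ⟨k, hk⟩ := hodd
      refine ⟨k • γ y, ?_⟩
      have h1 : u (γ y) = -γ y := by rw [huγ, hy]
      have h2 : (2 * k + 1) • γ y = 0 := by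
        rw [← hk]; exact card_nsmul_eq_zero'
      rw [hf_apply, map_nsmul, h1]
      rw [add_smul, mul_smul, one_smul, two_smul] at h2
      have h3 : γ y = -(k • γ y + k • γ y) := eq_neg_of_add_eq_zero_right h2
      have h4 : k • -γ y - k • γ y = -(k • γ y + k • γ y) := by
        rw [smul_neg]; abel
      rw [h4, ← h3]
  rw [hrange, AddSubgroup.card_map_of_injective hγinj] at hcard
  exact ⟨_, hcard.symm⟩

/-- Restriction of an endomorphism to an invariant additive subgroup. -/
def restrictEnd {V : Type*} [AddCommGroup V] (S : AddSubgroup V) (α : V →+ V)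
    (h : ∀ v ∈ S, α v ∈ S) : S →+ S :=
  (α.comp S.subtype).codRestrict S (fun v => h v v.2)

theorem restrictEnd_apply {V : Type*} [AddCommGroup V] (S : AddSubgroup V) (α : V →+ V)
    (h : ∀ v ∈ S, α v ∈ S) (v : S) : ((restrictEnd S α h v : S) : V) = α v := rfl

/-- General case: a finite abelian group of odd order with endomorphisms `α² = β² = -1`,
`αβ = -βα` has square order. -/
theorem isSquare_card_of_quat : ∀ (n : ℕ) (V : Type u) [AddCommGroup V] [Finite V],
    Nat.card V = n → Odd n → ∀ (α β : V →+ V), (∀ v, α (α v) = -v) → (∀ v, β (β v) = -v) →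
    (∀ v, α (β v) = -β (α v)) → IsSquare n := by
  intro n
  induction n using Nat.strong_induction_on with
  | _ n ih =>
    intro V _ _ hcard hodd α β hα hβ hαβ
    by_cases h1 : n = 1
    · subst h1; exact ⟨1, rfl⟩
    have hr : (n.minFac).Prime := Nat.minFac_prime h1
    haveI : Fact (n.minFac).Prime := ⟨hr⟩
    set r := n.minFac with hrdef
    have hrn : r ∣ Nat.card V := hcard ▸ Nat.minFac_dvd n
    let m : V →+ V := nsmulAddMonoidHom r
    have hm_apply : ∀ v, m v = r • v := fun v => rfl
    have hcm := card_ker_mul_card_range_add m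
    -- invariance
    have hkerα : ∀ (δ : V →+ V), ∀ v ∈ m.ker, δ v ∈ m.ker := by
      intro δ v hv
      rw [AddMonoidHom.mem_ker, hm_apply] at hv ⊢
      rw [← map_nsmul, hv, map_zero]
    have hrangeα : ∀ (δ : V →+ V), ∀ v ∈ m.range, δ v ∈ m.range := by
      rintro δ v ⟨w, rfl⟩
      exact ⟨δ w, by rw [hm_apply, hm_apply, map_nsmul]⟩
    have hoddK : Odd (Nat.card m.ker) ∧ Odd (Nat.card m.range) := by
      rw [← Nat.odd_mul, hcm, hcard]; exact hodd
    -- kernel is a square
    have hK : IsSquare (Nat.card m.ker) := by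
      apply isSquare_card_of_quat_elementary r ?_ hoddK.1
        (restrictEnd m.ker α (hkerα α)) (restrictEnd m.ker β (hkerα β))
      · intro v; apply Subtype.ext
        simp only [restrictEnd_apply, AddSubgroup.coe_neg]; exact hα v
      · intro v; apply Subtype.ext
        simp only [restrictEnd_apply, AddSubgroup.coe_neg]; exact hβ v
      · intro v; apply Subtype.ext
        simp only [restrictEnd_apply, AddSubgroup.coe_neg]; exact hαβ v
      · intro v; apply Subtype.ext
        have := v.2
        rw [AddMonoidHom.mem_ker, hm_apply] at this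
        simpa using this
    -- kernel is nontrivial
    obtain ⟨x, hx⟩ := exists_prime_addOrderOf_dvd_card' r hrn
    have hxk : x ∈ m.ker := by
      rw [AddMonoidHom.mem_ker, hm_apply, ← hx]; exact addOrderOf_nsmul_eq_zero x
    have hx0 : x ≠ 0 := by
      intro h0; rw [h0, addOrderOf_zero] at hx
      exact hr.ne_one hx.symm
    have hKgt : 1 < Nat.card m.ker := by
      rw [Finite.one_lt_card_iff_nontrivial]
      exact ⟨⟨⟨x, hxk⟩, 0, fun h => hx0 (congrArg Subtype.val h)⟩⟩
    have hRlt : Nat.card m.range < n := by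
      have hpos : 0 < Nat.card m.range := Nat.card_pos
      rw [← hcard, ← hcm]
      nlinarith
    have hR : IsSquare (Nat.card m.range) := by
      apply ih _ hRlt m.range rfl hoddK.2
        (restrictEnd m.range α (hrangeα α)) (restrictEnd m.range β (hrangeα β))
      · intro v; apply Subtype.ext
        simp only [restrictEnd_apply, AddSubgroup.coe_neg]; exact hα v
      · intro v; apply Subtype.ext
        simp only [restrictEnd_apply, AddSubgroup.coe_neg]; exact hβ v
      · intro v; apply Subtype.ext
        simp only [restrictEnd_apply, AddSubgroup.coe_neg]; exact hαβ v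
    rw [← hcard, ← hcm]
    exact hK.mul hR

/-- Multiplicative form. -/
theorem isSquare_card_of_quat_mul {N : Type u} [Group N] [Finite N]
    (hcomm : ∀ a b : N, a * b = b * a) (hodd : Odd (Nat.card N)) (α β : N →* N)
    (hα : ∀ v, α (α v) = v⁻¹) (hβ : ∀ v, β (β v) = v⁻¹)
    (hαβ : ∀ v, α (β v) = (β (α v))⁻¹) : IsSquare (Nat.card N) := by
  letI : CommGroup N := { (inferInstance : Group N) with mul_comm := hcomm }
  exact isSquare_card_of_quat (Nat.card N) (Additive N) rfl hodd
    (MonoidHom.toAdditive α) (MonoidHom.toAdditive β) hα hβ hαβ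

end Cfsg.Agent.Lib.Helper76
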