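import Cfsg.Agent.Lib.Helper76.ReeOdd

/-!
# The involution of `H¹ = H ∩ ²G₂` and its centraliser in `U¹`

* `invol_eq` : an involution of `H ∩ ²G₂` is `tor (-1) (-1) = h_a(-1) h_b(-1)`;
* `invol_cent_word` : it commutes with `u(t,u,v)` only if `t = v = 0`;
* `card_cent_U_le` : `|C_{U¹}(a)| ≤ |K|`;
* `tor_neg_commute` : `tor (-1) (-1)` commutes with `x_r(c)` for `r ∈ {8, 10, 3, 1}`.
-/

set_option autoImplicit false

namespace Cfsg.Agent.Lib.Helper76.Ree

open Cfsg.Lie Cfsg.Agent.Lib.Helper24 Cfsg.Agent.Lib.Helper33.Ree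

variable {K : Type*} [Field K] {e : ℕ}

theorem A7_8 : Aroot chevG2 7 8 = -1 := by decide
theorem A6_8 : Aroot chevG2 6 8 = 1 := by decide
theorem A7_3 : Aroot chevG2 7 3 = 1 := by decide
theorem A6_3 : Aroot chevG2 6 3 = -1 := by decide
theorem A7_1 : Aroot chevG2 7 1 = -3 := by decide
theorem A6_1 : Aroot chevG2 6 1 = 1 := by decide

theorem neg_one_zpow_odd (n : ℤ) (hn : Odd n) : ((-1 : Kˣ)) ^ n = -1 := hn.neg_one_zpow

theorem chi_neg_8 : chi (-1 : Kˣ) (-1) 8 = 1 := by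
  unfold chi; rw [A7_8, A6_8]; simp
theorem chi_neg_10 : chi (-1 : Kˣ) (-1) 10 = 1 := by
  unfold chi; rw [A7_10, A6_10]
  rw [show (3 : ℤ) = 2 + 1 by norm_num, zpow_add, zpow_one]; simp
theorem chi_neg_3 : chi (-1 : Kˣ) (-1) 3 = 1 := by
  unfold chi; rw [A7_3, A6_3]; simp
theorem chi_neg_1 : chi (-1 : Kˣ) (-1) 1 = 1 := by
  unfold chi; rw [A7_1, A6_1]
  rw [show (-3 : ℤ) = -(2 + 1) by norm_num, zpow_neg, zpow_add, zpow_one]; simp
theorem chi_neg_6 : chi (-1 : Kˣ) (-1) 6 = -1 := by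
  unfold chi; rw [A7_6, A6_6]
  rw [show (-3 : ℤ) = -(2 + 1) by norm_num, zpow_neg, zpow_add, zpow_one]; simp
theorem chi_neg_11 : chi (-1 : Kˣ) (-1) 11 = -1 := by
  unfold chi; rw [A7_11, A6_11]; simp

theorem tor_neg_commute (r : ℕ) (hr : r = 8 ∨ r = 10 ∨ r = 3 ∨ r = 1) (c : K) :
    Commute (tor (-1 : Kˣ) (-1)) (factsG2.xGL r c) := by
  have h := tor_conj_xGL (-1 : Kˣ) (-1) r (by rcases hr with rfl | rfl | rfl | rfl <;> norm_num) c
  have hchi : chi (-1 : Kˣ) (-1) r = 1 := by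
    rcases hr with rfl | rfl | rfl | rfl
    · exact chi_neg_8
    · exact chi_neg_10
    · exact chi_neg_3
    · exact chi_neg_1
  rw [hchi, Units.val_one, one_mul] at h
  show tor (-1 : Kˣ) (-1) * factsG2.xGL r c = factsG2.xGL r c * tor (-1 : Kˣ) (-1)
  calc tor (-1 : Kˣ) (-1) * factsG2.xGL r c
      = (tor (-1 : Kˣ) (-1) * factsG2.xGL r c * (tor (-1 : Kˣ) (-1))⁻¹) * tor (-1 : Kˣ) (-1) := by group
    _ = _ := by rw [h]

/-- the coefficients of an element of `U¹` commuting with `tor (-1) (-1)` -/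
theorem invol_cent_word (h2 : (2 : K) ≠ 0) (t u v : K)
    (hcomm : tor (-1 : Kˣ) (-1) * factsG2.wordGL (reeWordU e t u v) =
      factsG2.wordGL (reeWordU e t u v) * tor (-1 : Kˣ) (-1)) : t = 0 ∧ v = 0 := by
  have hconj : tor (-1 : Kˣ) (-1) * factsG2.wordGL (reeWordU e t u v) * (tor (-1 : Kˣ) (-1))⁻¹ =
      factsG2.wordGL (reeWordU e t u v) := by rw [hcomm]; group
  rw [tor_conj_word _ _ _ (reeWordU_lt t u v)] at hconj
  have key := ree_ordProd_inj
    (reeC ((chi (-1 : Kˣ) (-1) 7 : K) * t ^ e) ((chi (-1 : Kˣ) (-1) 6 : K) * t)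
      ((chi (-1 : Kˣ) (-1) 8 : K) * (t ^ (e + 1) + u ^ e)) ((chi (-1 : Kˣ) (-1) 9 : K) * (t ^ (2 * e + 1) + v ^ e))
      ((chi (-1 : Kˣ) (-1) 10 : K) * u) ((chi (-1 : Kˣ) (-1) 11 : K) * v))
    (reeC (t ^ e) t (t ^ (e + 1) + u ^ e) (t ^ (2 * e + 1) + v ^ e) u v) hconj
  have h6 : (chi (-1 : Kˣ) (-1) 6 : K) * t = t := by
    have := key 6 (by decide)
    simpa [reeC] using this
  have h11 : (chi (-1 : Kˣ) (-1) 11 : K) * v = v := by
    have := key 11 (by decide)
    simpa [reeC] using this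
  rw [chi_neg_6] at h6
  rw [chi_neg_11] at h11
  have aux : ∀ x : K, ((-1 : Kˣ) : K) * x = x → x = 0 := by
    intro x hx
    have : (2 : K) * x = 0 := by
      have h' : -x = x := by simpa using hx
      calc (2 : K) * x = x + x := two_mul x
        _ = -x + x := by rw [h']
        _ = 0 := neg_add_cancel x
    rcases mul_eq_zero.mp this with h | h
    · exact absurd h h2
    · exact h
  exact ⟨aux t h6, aux v h11⟩

/-- an involution of `H ∩ ²G₂` is `h_a(-1) h_b(-1)` -/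
theorem invol_eq [CharP K 3] (S : Sigma K e) (hE : ReeExp K e) (a : GL chevG2.Idx K)
    (haH : a ∈ chevG2.diagonalSubgroup K) (haG : a ∈ twistedG2 K e) (ha1 : a ≠ 1) (ha2 : a * a = 1) :
    a = tor (-1 : Kˣ) (-1) := by
  have hle := ree_le_Fx S hE
  have hr : a ∈ (torFixHom K e).range := by
    rw [torFixHom_range S hle hE.hodd hE.hθ]; exact ⟨haH, haG⟩
  obtain ⟨τ, rfl⟩ := hr
  have hτ2 : τ * τ = 1 := by
    apply torFixHom_injective (K := K) (e := e)
    rw [map_mul, ha2, map_one]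
  have hτ1 : τ ≠ 1 := by
    rintro rfl
    exact ha1 (map_one _)
  have hτ : τ = -1 := by
    have h : ((τ : K) - 1) * ((τ : K) + 1) = 0 := by
      have : (τ : K) * (τ : K) = 1 := by
        have h0 := congrArg Units.val hτ2
        simpa using h0
      calc ((τ : K) - 1) * ((τ : K) + 1) = (τ : K) * (τ : K) - 1 := by ring
        _ = 0 := by rw [this, sub_self]
    rcases mul_eq_zero.mp h with h | h
    · exact absurd (Units.ext (by simpa using sub_eq_zero.mp h)) hτ1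
    · apply Units.ext
      simpa using eq_neg_of_add_eq_zero_left h
  subst hτ
  show tor ((-1 : Kˣ) ^ e) (-1) = tor (-1) (-1)
  rw [hE.hodd.neg_one_pow]

/-- `|C_{U¹}(a)| ≤ |K|` for the involution `a` of `H¹` -/
theorem card_cent_U_le [Fintype K] [CharP K 3] (S : Sigma K e) (hE : ReeExp K e)
    (a : ↥(twistedG2 K e)) (haH : (a : GL chevG2.Idx K) ∈ chevG2.diagonalSubgroup K) (ha1 : a ≠ 1)
    (ha2 : a * a = 1) :
    Nat.card ↥(((chevG2.posUnipotent K ⊓ twistedG2 K e).subgroupOf (twistedG2 K e)) ⊓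
      Subgroup.centralizer {a}) ≤ Fintype.card K := by
  have h2 : (2 : K) ≠ 0 := by
    intro h
    have h3 : (3 : K) = 0 := hE.h3
    have : (1 : K) = 0 := by
      calc (1 : K) = 3 - 2 := by norm_num
        _ = 0 := by rw [h3, h, sub_zero]
    exact one_ne_zero this
  have hae : (a : GL chevG2.Idx K) = tor (-1 : Kˣ) (-1) :=
    invol_eq S hE a haH a.2 (by
      intro h; apply ha1; exact Subtype.ext h) (by
      have := congrArg (fun g : ↥(twistedG2 K e) => (g : GL chevG2.Idx K)) ha2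
      simpa using this)
  set C := ((chevG2.posUnipotent K ⊓ twistedG2 K e).subgroupOf (twistedG2 K e)) ⊓
      Subgroup.centralizer {a} with hC
  have hex : ∀ g : C, ∃ u : K, ((g : ↥(twistedG2 K e)) : GL chevG2.Idx K) =
      factsG2.wordGL (reeWordU e 0 u 0) := by
    intro g
    have hg1 : ((g : ↥(twistedG2 K e)) : GL chevG2.Idx K) ∈ chevG2.posUnipotent K ⊓ twistedG2 K e :=
      Subgroup.mem_subgroupOf.mp g.2.1
    obtain ⟨t, u, v, hg⟩ := (ree_U_inf S hE _).mp hg1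
    have hg' : ((g : ↥(twistedG2 K e)) : GL chevG2.Idx K) = factsG2.wordGL (reeWordU e t u v) :=
      factsG2.eq_wordGL _ _ hg
    have hc := Subgroup.mem_centralizer_iff.mp g.2.2 a rfl
    have hc' : (a : GL chevG2.Idx K) * ((g : ↥(twistedG2 K e)) : GL chevG2.Idx K) =
        ((g : ↥(twistedG2 K e)) : GL chevG2.Idx K) * (a : GL chevG2.Idx K) := by
      have := congrArg (fun x : ↥(twistedG2 K e) => (x : GL chevG2.Idx K)) hc
      simpa using this
    rw [hae, hg'] at hc'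
    obtain ⟨rfl, rfl⟩ := invol_cent_word h2 t u v hc'
    exact ⟨u, hg'⟩
  choose f hf using hex
  have hinj : Function.Injective f := by
    intro g g' h
    apply Subtype.ext
    apply Subtype.ext
    rw [hf g, hf g', h]
  calc Nat.card C ≤ Nat.card K := Nat.card_le_card_of_injective f hinj
    _ = Fintype.card K := Nat.card_eq_fintype_card

end Cfsg.Agent.Lib.Helper76.Ree
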