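import Cfsg.Agent.Lib.Helper76.ReeOdd
import Cfsg.Agent.Lib.Helper33.ReeEngine

/-!
# Cubes in `U¹` of `²G₂`: the elements of order 3

In characteristic 3, `(x_a(s) x_b(t) x_{a+b}(A) x_{3a+b}(u))³ = x_{2a+b}(-t s²) x_{3a+2b}(-t² s³)` (checked with the
engine modulo 3 of `Helper33.ReeEngine`), `x_{2a+b}`, `x_{3a+2b}` are central in `U`, hence
`u(t,u,v)³ = x_{2a+b}(-t s²) x_{3a+2b}(-t² s³)` with `s = t^e`, which is `1` iff `t = 0`; so `U¹` has `q² - 1`
elements of order 3 (S1154).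
-/

set_option autoImplicit false

namespace Cfsg.Agent.Lib.Helper76.Ree

open Cfsg.Lie Cfsg.Agent.Lib.Helper24 Cfsg.Agent.Lib.Helper33.Ree

section cube

variable {K : Type*} [Field K] [CharP K 3]

/-- a word identity checked modulo 3, for elements of the general linear group -/
theorem wordGL_eq_of_checkMod (y0 y1 y2 y3 : K) (w1 w2 : List (ℕ × Poly))
    (h : checkWordEqMod 3 chevG2 w1 w2 = true) :
    factsG2.wordGL (denW y0 y1 y2 y3 w1) = factsG2.wordGL (denW y0 y1 y2 y3 w2) := by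
  apply Units.ext
  rw [Facts.wordGL_val, Facts.wordGL_val]
  exact wordMat_eq_of_checkMod 3 chevG2 y0 y1 y2 y3 w1 w2 h

/-- commuting root elements, checked modulo 3 -/
theorem commute_of_checkMod (r s : ℕ)
    (h : checkWordEqMod 3 chevG2 [(r, Poly.x0), (s, Poly.x1)] [(s, Poly.x1), (r, Poly.x0)] = true)
    (a b : K) : Commute (factsG2.xGL r a) (factsG2.xGL s b) := by
  have := wordGL_eq_of_checkMod a b 0 0 _ _ h
  show _ * _ = _ * _
  simpa [denW, Facts.wordGL] using this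

theorem c9_7 (a b : K) : Commute (factsG2.xGL 9 a) (factsG2.xGL 7 b) :=
  commute_of_checkMod 9 7 (by decide +kernel) a b
theorem c9_6 (a b : K) : Commute (factsG2.xGL 9 a) (factsG2.xGL 6 b) :=
  commute_of_checkMod 9 6 (by decide +kernel) a b
theorem c9_8 (a b : K) : Commute (factsG2.xGL 9 a) (factsG2.xGL 8 b) :=
  commute_of_checkMod 9 8 (by decide +kernel) a b
theorem c9_10 (a b : K) : Commute (factsG2.xGL 9 a) (factsG2.xGL 10 b) :=
  commute_of_checkMod 9 10 (by decide +kernel) a b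
theorem c9_11 (a b : K) : Commute (factsG2.xGL 9 a) (factsG2.xGL 11 b) :=
  commute_of_checkMod 9 11 (by decide +kernel) a b
theorem c11_7 (a b : K) : Commute (factsG2.xGL 11 a) (factsG2.xGL 7 b) :=
  commute_of_checkMod 11 7 (by decide +kernel) a b
theorem c11_6 (a b : K) : Commute (factsG2.xGL 11 a) (factsG2.xGL 6 b) :=
  commute_of_checkMod 11 6 (by decide +kernel) a b
theorem c11_8 (a b : K) : Commute (factsG2.xGL 11 a) (factsG2.xGL 8 b) :=
  commute_of_checkMod 11 8 (by decide +kernel) a b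
theorem c11_10 (a b : K) : Commute (factsG2.xGL 11 a) (factsG2.xGL 10 b) :=
  commute_of_checkMod 11 10 (by decide +kernel) a b

/-- the symbolic word `x_a(s) x_b(t) x_{a+b}(A) x_{3a+b}(u)` -/
def wS : List (ℕ × Poly) := [(7, Poly.x1), (6, Poly.x0), (8, Poly.x2), (10, Poly.x3)]

/-- its cube modulo 3 -/
def wS3 : List (ℕ × Poly) :=
  [(9, Poly.neg (Poly.mul Poly.x0 (Poly.pow Poly.x1 2))),
   (11, Poly.neg (Poly.mul (Poly.pow Poly.x0 2) (Poly.pow Poly.x1 3)))]

theorem cube_check : checkWordEqMod 3 chevG2 (wS ++ wS ++ wS) wS3 = true := by decide +kernel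

theorem cube_W (s t A u : K) :
    (factsG2.xGL 7 s * factsG2.xGL 6 t * factsG2.xGL 8 A * factsG2.xGL 10 u) ^ 3 =
      factsG2.xGL 9 (-(t * s ^ 2)) * factsG2.xGL 11 (-(t ^ 2 * s ^ 3)) := by
  have := wordGL_eq_of_checkMod t s A u _ _ cube_check
  simp only [denW, wS, wS3, List.map_append, List.map_cons, List.map_nil, Poly.den_x0, Poly.den_x1,
    Poly.den_x2, Poly.den_x3, Poly.den_neg, Poly.den_mul, Poly.den_pow, Facts.wordGL,
    List.prod_append, List.prod_cons, List.prod_nil, mul_one] at this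
  rw [pow_succ, pow_succ, pow_one]
  rw [← this]
  group

theorem xGL_pow3 (r : ℕ) (c : K) : factsG2.xGL r c ^ 3 = 1 := by
  rw [pow_succ, pow_succ, pow_one, Facts.xGL_mul, Facts.xGL_mul]
  have h3 : ((3 : ℕ) : K) = 0 := CharP.cast_eq_zero K 3
  have : c + c + c = 0 := by
    have : c + c + c = ((3 : ℕ) : K) * c := by push_cast; ring
    rw [this, h3, zero_mul]
  rw [this, Facts.xGL_zero]

/-- the cube of `u(t,u,v)` -/
theorem wordU_cube (e : ℕ) (t u v : K) :
    factsG2.wordGL (reeWordU e t u v) ^ 3 =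
      factsG2.xGL 9 (-(t * (t ^ e) ^ 2)) * factsG2.xGL 11 (-(t ^ 2 * (t ^ e) ^ 3)) := by
  set a := factsG2.xGL 7 (t ^ e)
  set b := factsG2.xGL 6 t
  set c := factsG2.xGL 8 (t ^ (e + 1) + u ^ e)
  set z1 := factsG2.xGL 9 (t ^ (2 * e + 1) + v ^ e)
  set d := factsG2.xGL 10 u
  set z2 := factsG2.xGL 11 v
  have hw : factsG2.wordGL (reeWordU e t u v) = a * b * c * z1 * d * z2 := by
    simp [Facts.wordGL, reeWordU, g2a, g2b, g2ab, g2aab, g2aaab, g2aaabb, mul_assoc, a, b, c, z1, d, z2]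
  have h1 : a * b * c * z1 * d * z2 = (a * b * c * d) * (z1 * z2) := by
    have := (c9_10 (K := K) (t ^ (2 * e + 1) + v ^ e) u).eq
    calc a * b * c * z1 * d * z2 = a * b * c * (z1 * d) * z2 := by group
      _ = a * b * c * (d * z1) * z2 := by rw [this]
      _ = _ := by group
  have hz1 : Commute z1 (a * b * c * d) :=
    (((c9_7 _ _).mul_right (c9_6 _ _)).mul_right (c9_8 _ _)).mul_right (c9_10 _ _)
  have hz2 : Commute z2 (a * b * c * d) :=
    (((c11_7 _ _).mul_right (c11_6 _ _)).mul_right (c11_8 _ _)).mul_right (c11_10 _ _)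
  have hz : Commute (a * b * c * d) (z1 * z2) := (hz1.mul_left hz2).symm
  have hz12 : Commute z1 z2 := c9_11 _ _
  rw [hw, h1, hz.mul_pow, hz12.mul_pow, xGL_pow3, xGL_pow3, mul_one, mul_one]
  exact cube_W _ _ _ _

theorem wordU_cube_eq_one_iff {e : ℕ} (t u v : K) :
    factsG2.wordGL (reeWordU e t u v) ^ 3 = 1 ↔ t = 0 := by
  rw [wordU_cube]
  constructor
  · intro h
    have h1 : factsG2.wordGL [(7, (0 : K)), (6, 0), (8, 0), (9, -(t * (t ^ e) ^ 2)), (10, 0),
        (11, -(t ^ 2 * (t ^ e) ^ 3))] = factsG2.wordGL [(7, (0 : K)), (6, 0), (8, 0), (9, 0), (10, 0), (11, 0)] := by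
      simp only [Facts.wordGL, List.map_cons, List.map_nil, List.prod_cons, List.prod_nil,
        Facts.xGL_zero, one_mul, mul_one]
      exact h
    have key := ree_ordProd_inj (reeC (0 : K) 0 0 (-(t * (t ^ e) ^ 2)) 0 (-(t ^ 2 * (t ^ e) ^ 3)))
      (reeC (0 : K) 0 0 0 0 0) h1
    have h11 := key 11 (by decide)
    simp only [reeC] at h11
    norm_num at h11
    rcases h11 with h | h
    · exact h
    · exact h.1
  · rintro rfl
    simp [Facts.xGL_zero]

end cube

section count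

variable {K : Type*} [Field K] [CharP K 3] {e : ℕ}

omit [CharP K 3] in
theorem wordU_eq_one_iff (he : e ≠ 0) (t u v : K) :
    factsG2.wordGL (reeWordU e t u v) = 1 ↔ t = 0 ∧ u = 0 ∧ v = 0 := by
  constructor
  · intro h
    rw [← wordU_zero (K := K) he] at h
    exact reeWordU_inj t u v 0 0 0 h
  · rintro ⟨rfl, rfl, rfl⟩
    exact wordU_zero he

theorem orderOf_wordU_eq_three_iff (he : e ≠ 0) (t u v : K) :
    orderOf (factsG2.wordGL (reeWordU e t u v)) = 3 ↔ t = 0 ∧ ¬ (u = 0 ∧ v = 0) := by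
  have : Fact (Nat.Prime 3) := ⟨Nat.prime_three⟩
  rw [orderOf_eq_prime_iff, wordU_cube_eq_one_iff, Ne, wordU_eq_one_iff he]
  constructor
  · rintro ⟨h1, h2⟩
    exact ⟨h1, fun h => h2 ⟨h1, h⟩⟩
  · rintro ⟨h1, h2⟩
    exact ⟨h1, fun h => h2 h.2⟩

/-- `U¹` has exactly `q² - 1` elements of order 3 -/
theorem card_order_three [Fintype K] (S : Sigma K e) (hE : ReeExp K e) :
    Nat.card {g : ↥(chevG2.posUnipotent K ⊓ twistedG2 K e) // orderOf g = 3} =
      Fintype.card K ^ 2 - 1 := by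
  classical
  have he : e ≠ 0 := hE.hodd.pos.ne'
  let f : {p : K × K // ¬ (p = 0)} → {g : ↥(chevG2.posUnipotent K ⊓ twistedG2 K e) // orderOf g = 3} :=
    fun p => ⟨⟨factsG2.wordGL (reeWordU e 0 p.1.1 p.1.2),
      ⟨reeWordU_mem_pos _ _ _, reeWordU_mem_tw _ _ _⟩⟩, by
        rw [← Subgroup.orderOf_coe]
        show orderOf (factsG2.wordGL (reeWordU e 0 p.1.1 p.1.2)) = 3
        rw [orderOf_wordU_eq_three_iff he]
        refine ⟨rfl, fun h => p.2 ?_⟩
        exact Prod.ext h.1 h.2⟩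
  have hf : Function.Bijective f := by
    constructor
    · intro p p' h
      have h1 : factsG2.wordGL (reeWordU e 0 p.1.1 p.1.2) = factsG2.wordGL (reeWordU e 0 p'.1.1 p'.1.2) :=
        congrArg (fun g : {g : ↥(chevG2.posUnipotent K ⊓ twistedG2 K e) // orderOf g = 3} =>
          ((g : ↥(chevG2.posUnipotent K ⊓ twistedG2 K e)) : GL chevG2.Idx K)) h
      obtain ⟨_, h2, h3⟩ := reeWordU_inj _ _ _ _ _ _ h1
      exact Subtype.ext (Prod.ext h2 h3)
    · rintro ⟨⟨g, hg⟩, hord⟩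
      obtain ⟨t, u, v, hguv⟩ := (ree_U_inf S hE g).mp hg
      have hg' : g = factsG2.wordGL (reeWordU e t u v) := factsG2.eq_wordGL g _ hguv
      rw [← Subgroup.orderOf_coe] at hord
      have hord' : orderOf (factsG2.wordGL (reeWordU e t u v)) = 3 := by rw [← hg']; exact hord
      obtain ⟨rfl, h2⟩ := (orderOf_wordU_eq_three_iff he t u v).mp hord'
      refine ⟨⟨(u, v), fun h => h2 ⟨congrArg Prod.fst h, congrArg Prod.snd h⟩⟩, ?_⟩
      apply Subtype.ext
      apply Subtype.ext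
      exact hg'.symm
  rw [← Nat.card_congr (Equiv.ofBijective f hf), Nat.card_eq_fintype_card,
    Fintype.card_subtype_compl, Fintype.card_subtype_eq, Fintype.card_prod, sq]

end count

end Cfsg.Agent.Lib.Helper76.Ree
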