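import Cfsg.Agent.Lib.Helper24.ReeStab
import Cfsg.Agent.Lib.Helper24.ReeSL2
import Cfsg.Agent.Lib.Helper76.ReeCube

/-!
# The kernel of the twisted diagonal `SL₂(K) → ²G₂` is `{±1}`
-/

set_option autoImplicit false
set_option maxHeartbeats 800000

namespace Cfsg.Agent.Lib.Helper76.Ree

open Cfsg.Lie Cfsg.Agent.Lib.Helper24 Cfsg.Agent.Lib.Helper33.Ree Cfsg.Agent.Lib.Helper37.SL2

section phiker

variable {K : Type*} [Field K] {e : ℕ}

local notation "SL2K" => Matrix.SpecialLinearGroup (Fin 2) K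

/-- `Φ (uu s * ll (-s⁻¹) * uu s) = n_8(s^e) n_10(s)` -/
theorem phi_n (he : Odd e) (Φ : SL2K →* GL chevG2.Idx K)
    (hu : ∀ u : K, Φ (uu u) = factsG2.xGL 8 (u ^ e) * factsG2.xGL 10 u)
    (hl : ∀ u : K, Φ (ll u) = factsG2.xGL 3 (u ^ e) * factsG2.xGL 1 u) (s : K) :
    Φ (uu s * ll (-s⁻¹) * uu s) = factsG2.nGL 8 (s ^ e) * factsG2.nGL 10 s := by
  have he0 : e ≠ 0 := by rintro rfl; simp at he
  rw [nn_eq e he0, wordU_0s0 e he0, wordV_0s0 e he0, map_mul, map_mul, hu, hl, he.neg_pow]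

/-- `Φ (dd t) = h_a(t^(e+1)) h_b(t^(3e+1))` -/
theorem phi_dd (he : Odd e) (Φ : SL2K →* GL chevG2.Idx K)
    (hu : ∀ u : K, Φ (uu u) = factsG2.xGL 8 (u ^ e) * factsG2.xGL 10 u)
    (hl : ∀ u : K, Φ (ll u) = factsG2.xGL 3 (u ^ e) * factsG2.xGL 1 u) (t : Kˣ) :
    Φ (dd (t : K) t.ne_zero) = tor (t ^ (e + 1)) (t ^ (3 * e + 1)) := by
  rw [sl2_dd_eq, map_mul, phi_n he Φ hu hl]
  have h1 : uu (-1 : K) * ll 1 * uu (-1) = uu (-1 : K) * ll (-(-1 : K)⁻¹) * uu (-1) := by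
    congr 2
    norm_num
  rw [h1, phi_n he Φ hu hl, he.neg_one_pow]
  have c1 := nGL_commute (K := K) (-1) (t : K)
  have e2 : (factsG2.nGL 8 ((t : K) ^ e) * factsG2.nGL 10 (t : K)) * (factsG2.nGL 8 (-1) * factsG2.nGL 10 (-1)) =
      (factsG2.nGL 8 ((t : K) ^ e) * factsG2.nGL 8 (-1)) * (factsG2.nGL 10 (t : K) * factsG2.nGL 10 (-1)) := by
    have := c1.eq
    calc (factsG2.nGL 8 ((t : K) ^ e) * factsG2.nGL 10 (t : K)) * (factsG2.nGL 8 (-1) * factsG2.nGL 10 (-1))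
        = factsG2.nGL 8 ((t : K) ^ e) * (factsG2.nGL 10 (t : K) * factsG2.nGL 8 (-1)) * factsG2.nGL 10 (-1) := by group
      _ = factsG2.nGL 8 ((t : K) ^ e) * (factsG2.nGL 8 (-1) * factsG2.nGL 10 (t : K)) * factsG2.nGL 10 (-1) := by
          rw [this]
      _ = _ := by group
  rw [e2, ← hGL_eq, ← hGL_eq]
  apply Units.ext
  rw [Units.val_mul, Facts.wordGL_val, Facts.wordGL_val]
  have h8 : chevG2.wordMat K (chevG2.hWord 8 ((t : K) ^ e)) = chevG2.hMat K 8 (((t ^ e : Kˣ)) : K) := by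
    rw [Units.val_pow_eq_pow_val]; rfl
  have h10 : chevG2.wordMat K (chevG2.hWord 10 (t : K)) = chevG2.hMat K 10 (t : K) := rfl
  rw [h8, h10, hMat8, hMat10, ← Units.val_mul, tor_mul]
  congr 2
  · rw [pow_succ]
  · rw [← pow_mul, pow_succ, mul_comm e 3]

theorem neg_one_eq_dd : (-1 : SL2K) = dd ((-1 : Kˣ) : K) (-1 : Kˣ).ne_zero := by
  apply ext4 <;> simp [dd]

theorem phi_neg_one' (he : Odd e) (Φ : SL2K →* GL chevG2.Idx K)
    (hu : ∀ u : K, Φ (uu u) = factsG2.xGL 8 (u ^ e) * factsG2.xGL 10 u)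
    (hl : ∀ u : K, Φ (ll u) = factsG2.xGL 3 (u ^ e) * factsG2.xGL 1 u) :
    Φ (-1) = 1 := by
  rw [neg_one_eq_dd, phi_dd he Φ hu hl]
  have h1 : (-1 : Kˣ) ^ (e + 1) = 1 := by
    rcases he with ⟨k, rfl⟩
    exact Even.neg_one_pow ⟨k + 1, by ring⟩
  have h2 : (-1 : Kˣ) ^ (3 * e + 1) = 1 := by
    rcases he with ⟨k, rfl⟩
    exact Even.neg_one_pow ⟨3 * k + 2, by ring⟩
  rw [h1, h2, tor_one]

theorem phi_ker' (he : Odd e) (Φ : SL2K →* GL chevG2.Idx K)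
    (hu : ∀ u : K, Φ (uu u) = factsG2.xGL 8 (u ^ e) * factsG2.xGL 10 u)
    (hl : ∀ u : K, Φ (ll u) = factsG2.xGL 3 (u ^ e) * factsG2.xGL 1 u)
    (g : SL2K) (hg : Φ g = 1) : g = 1 ∨ g = -1 := by
  have he0 : e ≠ 0 := by rintro rfl; simp at he
  have hdet := det_eq g
  have hUH := ((envG2 K).hF.borel_semidirect (F := K)).2
  have hWpos : ∀ s : K, factsG2.xGL 8 (s ^ e) * factsG2.xGL 10 s ∈ chevG2.posUnipotent K := by
    intro s
    rw [← wordU_0s0 e he0]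
    exact reeWordU_mem_pos 0 s 0
  by_cases hγ : g 1 0 = 0
  · -- upper triangular
    have hα : g 0 0 ≠ 0 := by
      intro h
      rw [h, hγ] at hdet
      simp at hdet
    have hδ : g 1 1 = (g 0 0)⁻¹ := by
      rw [hγ, mul_zero, sub_zero] at hdet
      exact eq_inv_of_mul_eq_one_right hdet
    let α : Kˣ := Units.mk0 (g 0 0) hα
    have hgd : g = dd (α : K) α.ne_zero * uu ((g 0 0)⁻¹ * g 0 1) := by
      obtain ⟨u1, u2, u3, u4⟩ := mul_uu (dd (α : K) α.ne_zero) ((g 0 0)⁻¹ * g 0 1)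
      obtain ⟨d1, d2, d3, d4⟩ := dd_apply (α : K) α.ne_zero
      have hαv : (α : K) = g 0 0 := rfl
      apply ext4
      · rw [u1, d1, hαv]
      · rw [u2, d1, d2, hαv, add_zero, ← mul_assoc, mul_inv_cancel₀ hα, one_mul]
      · rw [u3, d3, hγ]
      · rw [u4, d3, d4, hαv, zero_mul, zero_add, hδ]
    rw [hgd, map_mul, phi_dd he Φ hu hl, hu] at hg
    -- `W = tor⁻¹ ∈ U ∩ H`
    have hW : factsG2.xGL 8 (((g 0 0)⁻¹ * g 0 1) ^ e) * factsG2.xGL 10 ((g 0 0)⁻¹ * g 0 1) = 1 := by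
      have hmem : factsG2.xGL 8 (((g 0 0)⁻¹ * g 0 1) ^ e) * factsG2.xGL 10 ((g 0 0)⁻¹ * g 0 1) ∈
          chevG2.posUnipotent K ⊓ chevG2.diagonalSubgroup K := by
        refine ⟨hWpos _, ?_⟩
        have : factsG2.xGL 8 (((g 0 0)⁻¹ * g 0 1) ^ e) * factsG2.xGL 10 ((g 0 0)⁻¹ * g 0 1) =
            (tor (α ^ (e + 1)) (α ^ (3 * e + 1)))⁻¹ := eq_inv_of_mul_eq_one_right hg
        rw [this]
        exact Subgroup.inv_mem _ (tor_mem_diagonal _ _)
      rw [hUH, Subgroup.mem_bot] at hmem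
      exact hmem
    have hβ : g 0 1 = 0 := by
      rw [← wordU_0s0 e he0, wordU_eq_one_iff he0] at hW
      have := hW.2.1
      rcases mul_eq_zero.mp this with h | h
      · exact absurd (inv_eq_zero.mp h) hα
      · exact h
    rw [hW, mul_one] at hg
    have htor : tor (α ^ (e + 1)) (α ^ (3 * e + 1)) = tor (1 : Kˣ) 1 := by rw [hg, tor_one]
    obtain ⟨h1, h2⟩ := tor_injective _ _ _ _ htor
    have hα2 : α ^ 2 = 1 := by
      have a1 : α ^ (2 * e) = 1 := by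
        have : α ^ (3 * e + 1) = α ^ (2 * e) * α ^ (e + 1) := by rw [← pow_add]; congr 1; ring
        rw [this, h1, mul_one] at h2
        exact h2
      have a2 : α ^ (2 * e + 2) = 1 := by
        have : α ^ (2 * e + 2) = (α ^ (e + 1)) ^ 2 := by rw [← pow_mul]; congr 1; ring
        rw [this, h1, one_pow]
      rw [pow_add, a1, one_mul] at a2
      exact a2
    have hαK : (g 0 0) ^ 2 = 1 := by
      have := congrArg Units.val hα2
      simpa [α] using this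
    have hpm : g 0 0 = 1 ∨ g 0 0 = -1 := by
      have : (g 0 0 - 1) * (g 0 0 + 1) = 0 := by
        calc (g 0 0 - 1) * (g 0 0 + 1) = g 0 0 ^ 2 - 1 := by ring
          _ = 0 := by rw [hαK, sub_self]
      rcases mul_eq_zero.mp this with h | h
      · left; exact sub_eq_zero.mp h
      · right; exact eq_neg_of_add_eq_zero_left h
    rcases hpm with h | h
    · left
      apply ext4
      · simpa using h
      · simpa using hβ
      · simpa using hγ
      · rw [hδ, h]; simp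
    · right
      apply ext4
      · simpa using h
      · simpa using hβ
      · simpa using hγ
      · rw [hδ, h]; simp
  · -- the big cell
    exfalso
    let τ : Kˣ := Units.mk0 (-(g 1 0)⁻¹) (by simpa using hγ)
    have hgd : g = uu (g 0 0 * (g 1 0)⁻¹) * dd (τ : K) τ.ne_zero * w1 * uu (g 1 1 * (g 1 0)⁻¹) := by
      have hβ : g 0 1 = (g 0 0 * g 1 1 - 1) * (g 1 0)⁻¹ := by
        field_simp
        linear_combination -hdet
      obtain ⟨u1, u2, u3, u4⟩ := mul_uu (uu (g 0 0 * (g 1 0)⁻¹) * dd (τ : K) τ.ne_zero * w1) (g 1 1 * (g 1 0)⁻¹)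
      obtain ⟨v1, v2, v3, v4⟩ := mul_w1 (uu (g 0 0 * (g 1 0)⁻¹) * dd (τ : K) τ.ne_zero)
      obtain ⟨d1, d2, d3, d4⟩ := mul_dd (uu (g 0 0 * (g 1 0)⁻¹)) (τ : K) τ.ne_zero
      obtain ⟨a1, a2, a3, a4⟩ := uu_apply (g 0 0 * (g 1 0)⁻¹)
      have hτv : (τ : K) = -(g 1 0)⁻¹ := rfl
      have hτi : (τ : K)⁻¹ = -(g 1 0) := by rw [hτv, inv_neg, inv_inv]
      apply ext4
      · rw [u1, v1, d2, a2, hτi]
        field_simp
      · rw [u2, v1, v2, d2, d1, a2, a1, hτi, hτv, hβ]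
        field_simp
        ring
      · rw [u3, v3, d4, a4, hτi]
        ring
      · rw [u4, v3, v4, d4, d3, a4, a3, hτi]
        field_simp
        ring
    have hw : Φ w1 = reeS K := by
      rw [sl2_w1_eq]
      have : uu (1 : K) * ll (-1) * uu 1 = uu (1 : K) * ll (-(1 : K)⁻¹) * uu 1 := by
        congr 2
        norm_num
      rw [this, phi_n he Φ hu hl, one_pow]
      rfl
    rw [hgd, map_mul, map_mul, map_mul, hw, phi_dd he Φ hu hl, hu, hu] at hg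
    apply reeS_not_borel (K := K)
    set A := factsG2.xGL 8 ((g 0 0 * (g 1 0)⁻¹) ^ e) * factsG2.xGL 10 (g 0 0 * (g 1 0)⁻¹) with hA
    set B := factsG2.xGL 8 ((g 1 1 * (g 1 0)⁻¹) ^ e) * factsG2.xGL 10 (g 1 1 * (g 1 0)⁻¹) with hB
    set T := tor (τ ^ (e + 1)) (τ ^ (3 * e + 1)) with hT
    have hs : reeS K = T⁻¹ * A⁻¹ * B⁻¹ := by
      have : A * T * reeS K * B = 1 := hg
      calc reeS K = T⁻¹ * A⁻¹ * (A * T * reeS K * B) * B⁻¹ := by group
        _ = T⁻¹ * A⁻¹ * B⁻¹ := by rw [this]; group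
    rw [hs]
    unfold ChevalleyDatum.borelSubgroup
    have hAm : A ∈ chevG2.posUnipotent K ⊔ chevG2.diagonalSubgroup K :=
      Subgroup.mem_sup_left (hWpos _)
    have hBm : B ∈ chevG2.posUnipotent K ⊔ chevG2.diagonalSubgroup K :=
      Subgroup.mem_sup_left (hWpos _)
    have hTm : T ∈ chevG2.posUnipotent K ⊔ chevG2.diagonalSubgroup K :=
      Subgroup.mem_sup_right (tor_mem_diagonal _ _)
    exact Subgroup.mul_mem _ (Subgroup.mul_mem _ (Subgroup.inv_mem _ hTm) (Subgroup.inv_mem _ hAm))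
      (Subgroup.inv_mem _ hBm)

end phiker

end Cfsg.Agent.Lib.Helper76.Ree
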