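import Cfsg.Agent.Lib.Helper24.ReeStab
import Cfsg.Agent.Lib.Helper24.ReeSL2
import Cfsg.Agent.Lib.Helper48.Dickson.TorusPlus
import Cfsg.Agent.Lib.Helper76.Ree2B
import Cfsg.Agent.Lib.Helper76.Ree2C
import Cfsg.Agent.Lib.Helper60.Ree2S
import Cfsg.Agent.Lib.Helper79.Ree2A
import Cfsg.Agent.Lib.Helper91.Ree2E
import Cfsg.Agent.Lib.Helper81.Ree2V
import Cfsg.Agent.Lib.Helper68.Ree2N

/-!
# The centraliser of the involution of `H¹` in `²G₂(q)` is `Z₂ × PSL₂(q)`
-/

set_option autoImplicit false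
set_option maxHeartbeats 800000

namespace Cfsg.Agent.Lib.Helper76.Ree

open Cfsg.Lie Cfsg.Agent.Lib.Helper24 Cfsg.Agent.Lib.Helper33.Ree Cfsg.Agent.Lib.Helper37.SL2
open Cfsg.Agent.Lib.Helper60.Ree2 Cfsg.Agent.Lib.Helper79.Ree2 Cfsg.Agent.Lib.Helper91.Ree2 Cfsg.Agent.Lib.Helper81.Ree2 Cfsg.Agent.Lib.Helper68.Ree2

section asm

variable {K : Type*} [Field K] [Fintype K] {m : ℕ}

local notation "G1" => twistedG2 K (3 ^ m)
local notation "PSL2K" => Matrix.ProjectiveSpecialLinearGroup (Fin 2) K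
local notation "SL2K" => Matrix.SpecialLinearGroup (Fin 2) K

theorem two_ne_zero_of_card (hK : Fintype.card K = 3 ^ (2 * m + 1)) : (2 : K) ≠ 0 := by
  have hE := reeExp_of_card hK
  intro h
  have h3 : (3 : K) = 0 := hE.h3
  have : (1 : K) = 0 := by
    calc (1 : K) = 3 - 2 := by norm_num
      _ = 0 := by rw [h3, h, sub_zero]
  exact one_ne_zero this

/-- the involution as an element of `GL` -/
theorem invol_coe (hK : Fintype.card K = 3 ^ (2 * m + 1)) (a : ↥G1)
    (haH : (a : GL chevG2.Idx K) ∈ chevG2.diagonalSubgroup K) (ha1 : a ≠ 1) (ha2 : a * a = 1) :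
    (a : GL chevG2.Idx K) = tor (-1 : Kˣ) (-1) := by
  haveI := ree_charP hK
  have hE := reeExp_of_card hK
  obtain ⟨S⟩ := ree_exists_sigma hK
  exact invol_eq S hE a haH a.2 (by
    intro h; apply ha1; exact Subtype.ext h) (by
    have := congrArg (fun g : ↥G1 => (g : GL chevG2.Idx K)) ha2
    simpa using this)

/-- `|C(a)| ≤ q (q - 1) (q + 1)` -/
theorem card_centralizer_invol_le (hK : Fintype.card K = 3 ^ (2 * m + 1)) (a : ↥G1)
    (haH : (a : GL chevG2.Idx K) ∈ chevG2.diagonalSubgroup K) (ha1 : a ≠ 1) (ha2 : a * a = 1) :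
    Nat.card ↥(Subgroup.centralizer ({a} : Set ↥G1)) ≤
      3 ^ (2 * m + 1) * (3 ^ (2 * m + 1) - 1) * (1 + 3 ^ (2 * m + 1)) := by
  haveI := ree_charP hK
  have hE := reeExp_of_card hK
  obtain ⟨S⟩ := ree_exists_sigma hK
  have R := ree_rankOne S hE
  have hae := invol_coe hK a haH ha1 ha2
  -- a ∈ H'
  have haH' : a ∈ (chevG2.diagonalSubgroup K ⊓ G1).subgroupOf G1 :=
    Subgroup.mem_subgroupOf.mpr ⟨haH, a.2⟩
  -- a commutes with H'
  have hcomm : ∀ h ∈ (chevG2.diagonalSubgroup K ⊓ G1).subgroupOf G1, a * h = h * a := by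
    intro h hh
    have hh' : (h : GL chevG2.Idx K) ∈ chevG2.diagonalSubgroup K := (Subgroup.mem_subgroupOf.mp hh).1
    obtain ⟨c₀, c₁, hc⟩ := exists_tor_of_mem_diagonal _ hh'
    apply Subtype.ext
    rw [Subgroup.coe_mul, Subgroup.coe_mul, hae, hc, tor_mul, tor_mul, mul_comm c₀, mul_comm c₁]
  -- s a s⁻¹ = a
  have hsa : reeSG hE * a * (reeSG hE)⁻¹ = a := by
    have hmem := R.hsH a haH'
    have h1 : ((reeSG hE * a * (reeSG hE)⁻¹ : ↥G1) : GL chevG2.Idx K) ∈ chevG2.diagonalSubgroup K :=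
      (Subgroup.mem_subgroupOf.mp hmem).1
    have h2 : reeSG hE * a * (reeSG hE)⁻¹ ≠ 1 := by
      intro h
      apply ha1
      have : a = (reeSG hE)⁻¹ * (reeSG hE * a * (reeSG hE)⁻¹) * reeSG hE := by group
      rw [this, h]; group
    have h3 : (reeSG hE * a * (reeSG hE)⁻¹) * (reeSG hE * a * (reeSG hE)⁻¹) = 1 := by
      calc (reeSG hE * a * (reeSG hE)⁻¹) * (reeSG hE * a * (reeSG hE)⁻¹)
          = reeSG hE * (a * a) * (reeSG hE)⁻¹ := by group
        _ = 1 := by rw [ha2]; group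
    apply Subtype.ext
    rw [invol_coe hK _ h1 h2 h3, hae]
  have hA := card_centralizer_le R a haH' hcomm hsa
  have hU := card_cent_U_le S hE a haH ha1 ha2
  rw [hK] at hU
  have hH : Nat.card ↥((chevG2.diagonalSubgroup K ⊓ G1).subgroupOf G1) = 3 ^ (2 * m + 1) - 1 := by
    rw [← Cfsg.Agent.S1114.result hK]
    exact Nat.card_congr (Subgroup.subgroupOfEquivOfLe inf_le_right).toEquiv
  rw [hH] at hA
  calc Nat.card ↥(Subgroup.centralizer ({a} : Set ↥G1))
      ≤ _ := hA
    _ ≤ 3 ^ (2 * m + 1) * (3 ^ (2 * m + 1) - 1) * (1 + 3 ^ (2 * m + 1)) := by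
        apply Nat.mul_le_mul (Nat.mul_le_mul hU le_rfl)
        exact Nat.add_le_add_left hU 1


/-- `tor (-1) (-1)` commutes with the image of the twisted diagonal -/
theorem invol_commute_phi {e : ℕ}
    (Φ : SL2K →* GL chevG2.Idx K)
    (hu : ∀ u : K, Φ (uu u) = (envG2 K).hF.xGL 8 (u ^ e) * (envG2 K).hF.xGL 10 u)
    (hl : ∀ u : K, Φ (ll u) = (envG2 K).hF.xGL 3 (u ^ e) * (envG2 K).hF.xGL 1 u)
    (g : SL2K) : tor (-1 : Kˣ) (-1) * Φ g = Φ g * tor (-1 : Kˣ) (-1) := by
  have hle : Subgroup.closure (Set.range (uu (F := K)) ∪ Set.range (ll (F := K))) ≤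
      (Subgroup.centralizer ({tor (-1 : Kˣ) (-1)} : Set (GL chevG2.Idx K))).comap Φ := by
    rw [Subgroup.closure_le]
    rintro x (⟨s, rfl⟩ | ⟨s, rfl⟩)
    · rw [SetLike.mem_coe, Subgroup.mem_comap, Subgroup.mem_centralizer_iff]
      intro y hy
      rw [Set.mem_singleton_iff] at hy
      subst hy
      rw [hu]
      have h1 : Commute (tor (-1 : Kˣ) (-1)) ((envG2 K).hF.xGL 8 (s ^ e)) :=
        tor_neg_commute 8 (Or.inl rfl) _
      have h2 : Commute (tor (-1 : Kˣ) (-1)) ((envG2 K).hF.xGL 10 s) :=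
        tor_neg_commute 10 (Or.inr (Or.inl rfl)) _
      exact (h1.mul_right h2).eq
    · rw [SetLike.mem_coe, Subgroup.mem_comap, Subgroup.mem_centralizer_iff]
      intro y hy
      rw [Set.mem_singleton_iff] at hy
      subst hy
      rw [hl]
      have h1 : Commute (tor (-1 : Kˣ) (-1)) ((envG2 K).hF.xGL 3 (s ^ e)) :=
        tor_neg_commute 3 (Or.inr (Or.inr (Or.inl rfl))) _
      have h2 : Commute (tor (-1 : Kˣ) (-1)) ((envG2 K).hF.xGL 1 s) :=
        tor_neg_commute 1 (Or.inr (Or.inr (Or.inr rfl))) _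
      exact (h1.mul_right h2).eq
  rw [sl2_closure_uu_ll] at hle
  have := hle (Subgroup.mem_top g)
  rw [Subgroup.mem_comap, Subgroup.mem_centralizer_iff] at this
  exact this _ rfl

/-- the twisted diagonal as a homomorphism into the centraliser of the involution -/
theorem exists_phiC (hK : Fintype.card K = 3 ^ (2 * m + 1)) (a : ↥G1)
    (haH : (a : GL chevG2.Idx K) ∈ chevG2.diagonalSubgroup K) (ha1 : a ≠ 1) (ha2 : a * a = 1) :
    ∃ ΦC : SL2K →* ↥(Subgroup.centralizer ({a} : Set ↥G1)),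
      (∀ g, ΦC g = 1 ↔ (g = 1 ∨ g = -1)) ∧ ∀ g, ((ΦC g : ↥(Subgroup.centralizer ({a} : Set ↥G1))) : ↥G1) ≠ a := by
  have hE := reeExp_of_card hK
  have h2 := two_ne_zero_of_card hK
  have hae := invol_coe hK a haH ha1 ha2
  obtain ⟨Φ, hu, hl, hmem⟩ := ree_sl2_hom (K := K) hE
  have hker : ∀ g, Φ g = 1 ↔ (g = 1 ∨ g = -1) := by
    intro g
    constructor
    · exact phi_ker' hE.hodd Φ hu hl g
    · rintro (rfl | rfl)
      · exact map_one Φ
      · exact phi_neg_one' hE.hodd Φ hu hl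
  let ΦG : SL2K →* ↥G1 := Φ.codRestrict G1 hmem
  have hΦG : ∀ g, ((ΦG g : ↥G1) : GL chevG2.Idx K) = Φ g := fun g => rfl
  have hcent : ∀ g, ΦG g ∈ Subgroup.centralizer ({a} : Set ↥G1) := by
    intro g
    rw [Subgroup.mem_centralizer_iff]
    intro y hy
    rw [Set.mem_singleton_iff] at hy
    subst hy
    apply Subtype.ext
    rw [Subgroup.coe_mul, Subgroup.coe_mul, hΦG, hae]
    exact invol_commute_phi Φ hu hl g
  let ΦC : SL2K →* ↥(Subgroup.centralizer ({a} : Set ↥G1)) := ΦG.codRestrict _ hcent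
  have hΦC : ∀ g, (((ΦC g : ↥(Subgroup.centralizer ({a} : Set ↥G1))) : ↥G1) : GL chevG2.Idx K) = Φ g :=
    fun g => rfl
  have hone : ∀ g, ΦC g = 1 ↔ Φ g = 1 := by
    intro g
    constructor
    · intro h
      have := congrArg (fun x : ↥(Subgroup.centralizer ({a} : Set ↥G1)) => ((x : ↥G1) : GL chevG2.Idx K)) h
      simpa [hΦC] using this
    · intro h
      apply Subtype.ext
      apply Subtype.ext
      rw [hΦC, h]
      rfl
  refine ⟨ΦC, fun g => (hone g).trans (hker g), ?_⟩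
  intro g hg
  have hg' : Φ g = tor (-1 : Kˣ) (-1) := by
    rw [← hΦC, hg, hae]
  -- `g` commutes up to sign with everything
  have hcomm : ∀ h : SL2K, g * h = h * g ∨ g * h = -(h * g) := by
    intro h
    have h1 : Φ (g * h * g⁻¹ * h⁻¹) = 1 := by
      rw [map_mul, map_mul, map_mul, map_inv, map_inv, hg']
      have := invol_commute_phi Φ hu hl h
      calc tor (-1 : Kˣ) (-1) * Φ h * (tor (-1 : Kˣ) (-1))⁻¹ * (Φ h)⁻¹
          = (tor (-1 : Kˣ) (-1) * Φ h) * (tor (-1 : Kˣ) (-1))⁻¹ * (Φ h)⁻¹ := by group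
        _ = (Φ h * tor (-1 : Kˣ) (-1)) * (tor (-1 : Kˣ) (-1))⁻¹ * (Φ h)⁻¹ := by rw [this]
        _ = 1 := by group
    rcases (hker _).mp h1 with h3 | h3
    · left
      have : g * h = (g * h * g⁻¹ * h⁻¹) * (h * g) := by group
      rw [this, h3, one_mul]
    · right
      have : g * h = (g * h * g⁻¹ * h⁻¹) * (h * g) := by group
      rw [this, h3, neg_mul, one_mul]
  rcases sl2_central_of_comm h2 g (hcomm (uu 1)) (hcomm (ll 1)) with rfl | rfl
  · rw [map_one] at hg'
    have := congrArg (fun x => x) hg'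
    have hne : tor (-1 : Kˣ) (-1) ≠ (1 : GL chevG2.Idx K) := by
      rw [← hae]
      intro h
      exact ha1 (Subtype.ext h)
    exact hne hg'.symm
  · rw [phi_neg_one' hE.hodd Φ hu hl] at hg'
    have hne : tor (-1 : Kˣ) (-1) ≠ (1 : GL chevG2.Idx K) := by
      rw [← hae]
      intro h
      exact ha1 (Subtype.ext h)
    exact hne hg'.symm


theorem neg_one_mem_center : (-1 : SL2K) ∈ Subgroup.center SL2K := by
  rw [Subgroup.mem_center_iff]
  intro g
  rw [mul_neg, neg_mul, mul_one, one_mul]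

theorem eq_pm_one_of_mem_center (g : SL2K) (hg : g ∈ Subgroup.center SL2K) : g = 1 ∨ g = -1 := by
  rw [Matrix.SpecialLinearGroup.mem_center_iff] at hg
  obtain ⟨r, hr, hrg⟩ := hg
  have hr2 : r ^ 2 = 1 := by simpa using hr
  have : (r - 1) * (r + 1) = 0 := by
    calc (r - 1) * (r + 1) = r ^ 2 - 1 := by ring
      _ = 0 := by rw [hr2, sub_self]
  rcases mul_eq_zero.mp this with h | h
  · left
    have hr1 : r = 1 := sub_eq_zero.mp h
    apply Subtype.ext
    rw [← hrg, hr1]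
    simp
  · right
    have hr1 : r = -1 := eq_neg_of_add_eq_zero_left h
    apply Subtype.ext
    rw [← hrg, hr1]
    ext i j
    fin_cases i <;> fin_cases j <;> simp [Matrix.scalar]

theorem zmod2_one_ne_zero : (1 : ZMod 2) ≠ 0 := by decide

theorem q_arith (q : ℕ) (hq : 1 ≤ q) : q * (q - 1) * (1 + q) = q * (q ^ 2 - 1) := by
  obtain ⟨n, rfl⟩ : ∃ n, q = n + 1 := ⟨q - 1, by omega⟩
  have h1 : n + 1 - 1 = n := by omega
  have h2 : (n + 1) ^ 2 - 1 = n * (n + 2) := by
    have : (n + 1) ^ 2 = n * (n + 2) + 1 := by ring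
    omega
  rw [h1, h2]
  ring

/-- **the structure of the centraliser of the involution** -/
theorem exists_psi (hK : Fintype.card K = 3 ^ (2 * m + 1)) (a : ↥G1)
    (haH : (a : GL chevG2.Idx K) ∈ chevG2.diagonalSubgroup K) (ha1 : a ≠ 1) (ha2 : a * a = 1) :
    ∃ Ψ : Multiplicative (ZMod 2) × PSL2K ≃* ↥(Subgroup.centralizer ({a} : Set ↥G1)),
      ((Ψ (Multiplicative.ofAdd (1 : ZMod 2), 1) : ↥(Subgroup.centralizer ({a} : Set ↥G1))) : ↥G1) = a := by
  classical
  obtain ⟨ΦC, hker, hna⟩ := exists_phiC hK a haH ha1 ha2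
  -- the involution as an element of `C`
  have haC : a ∈ Subgroup.centralizer ({a} : Set ↥G1) := by
    rw [Subgroup.mem_centralizer_iff]
    intro y hy
    rw [Set.mem_singleton_iff] at hy
    rw [hy]
  let aC : ↥(Subgroup.centralizer ({a} : Set ↥G1)) := ⟨a, haC⟩
  have haC1 : aC ≠ 1 := by
    intro h
    apply ha1
    exact congrArg Subtype.val h
  have haC2 : aC * aC = 1 := by
    apply Subtype.ext
    exact ha2
  have hcentral : ∀ y : ↥(Subgroup.centralizer ({a} : Set ↥G1)), aC * y = y * aC := by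
    intro y
    apply Subtype.ext
    have := Subgroup.mem_centralizer_iff.mp y.2 a rfl
    exact this
  have hord : orderOf aC = 2 := by
    apply orderOf_eq_prime
    · rw [pow_two]; exact haC2
    · exact haC1
  -- the quotient hom
  have hcen : Subgroup.center SL2K ≤ ΦC.ker := by
    intro z hz
    rw [MonoidHom.mem_ker, hker]
    exact eq_pm_one_of_mem_center z hz
  let Φbar : PSL2K →* ↥(Subgroup.centralizer ({a} : Set ↥G1)) := QuotientGroup.lift (Subgroup.center SL2K) ΦC hcen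
  have hΦbar : ∀ g : SL2K, Φbar (QuotientGroup.mk g) = ΦC g := fun g => rfl
  -- `Multiplicative (ZMod 2) ≃* ⟨a⟩`
  haveI : Fact (Nat.Prime 2) := ⟨Nat.prime_two⟩
  have hc1 : Nat.card (Multiplicative (ZMod 2)) = 2 := by
    rw [Nat.card_eq_fintype_card, Fintype.card_multiplicative, ZMod.card]
  have hc2 : Nat.card ↥(Subgroup.zpowers aC) = 2 := by rw [Nat.card_zpowers, hord]
  let e1 : Multiplicative (ZMod 2) ≃* ↥(Subgroup.zpowers aC) := mulEquivOfPrimeCardEq hc1 hc2
  let f1 : Multiplicative (ZMod 2) →* ↥(Subgroup.centralizer ({a} : Set ↥G1)) := (Subgroup.zpowers aC).subtype.comp e1.toMonoidHom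
  have hf1mem : ∀ i, f1 i ∈ Subgroup.zpowers aC := fun i => (e1 i).2
  have hf1inj : Function.Injective f1 := by
    intro i j h
    apply e1.injective
    exact Subtype.ext h
  have hzp : ∀ y ∈ Subgroup.zpowers aC, y = 1 ∨ y = aC := by
    rintro y ⟨k, rfl⟩
    show aC ^ k = 1 ∨ aC ^ k = aC
    rcases Int.emod_two_eq_zero_or_one k with h | h
    · left
      obtain ⟨j, hj⟩ : ∃ j, k = 2 * j := ⟨k / 2, by omega⟩
      rw [hj, zpow_mul, zpow_ofNat, pow_two, haC2, one_zpow]
    · right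
      obtain ⟨j, hj⟩ : ∃ j, k = 2 * j + 1 := ⟨k / 2, by omega⟩
      rw [hj, zpow_add, zpow_mul, zpow_ofNat, pow_two, haC2, one_zpow, one_mul, zpow_one]
  have hcomm : ∀ (i : Multiplicative (ZMod 2)) (x : PSL2K), Commute (f1 i) (Φbar x) := by
    intro i x
    rcases hzp _ (hf1mem i) with h | h
    · rw [h]; exact Commute.one_left _
    · rw [h]; exact hcentral _
  let Ψ : Multiplicative (ZMod 2) × PSL2K →* ↥(Subgroup.centralizer ({a} : Set ↥G1)) := MonoidHom.noncommCoprod f1 Φbar hcomm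
  have hΨ : ∀ i x, Ψ (i, x) = f1 i * Φbar x := fun i x => MonoidHom.noncommCoprod_apply _ _ _ _
  -- injectivity
  have hΦbar_inj : ∀ x : PSL2K, Φbar x = 1 → x = 1 := by
    intro x hx
    induction x using QuotientGroup.induction_on with | H g => ?_
    rw [hΦbar, hker] at hx
    rw [QuotientGroup.eq_one_iff]
    rcases hx with rfl | rfl
    · exact Subgroup.one_mem _
    · exact neg_one_mem_center
  have hinj : Function.Injective Ψ := by
    rw [injective_iff_map_eq_one]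
    rintro ⟨i, x⟩ h
    rw [hΨ] at h
    rcases hzp _ (hf1mem i) with h1 | h1
    · rw [h1, one_mul] at h
      have hx := hΦbar_inj x h
      have hi : i = 1 := hf1inj (by rw [h1, map_one])
      rw [hx, hi]; rfl
    · exfalso
      rw [h1] at h
      have h2 : Φbar x = aC := by
        have : Φbar x = aC⁻¹ := eq_inv_of_mul_eq_one_right h
        rw [this]
        exact inv_eq_of_mul_eq_one_right haC2
      induction x using QuotientGroup.induction_on with | H g => ?_
      rw [hΦbar] at h2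
      apply hna g
      rw [h2]
  -- cardinalities
  have hq1 : 1 ≤ 3 ^ (2 * m + 1) := Nat.one_le_pow _ _ (by norm_num)
  have hcard : Nat.card ↥(Subgroup.centralizer ({a} : Set ↥G1)) ≤ Nat.card (Multiplicative (ZMod 2) × PSL2K) := by
    rw [Nat.card_prod, hc1]
    have h1 := card_centralizer_invol_le hK a haH ha1 ha2
    have h2 := Cfsg.Agent.Lib.Helper48.Dickson.card_psl2_mul (F := K)
    rw [hK] at h2
    have hg : Nat.gcd 2 (3 ^ (2 * m + 1) - 1) = 2 := by
      apply Nat.gcd_eq_left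
      have : Odd (3 ^ (2 * m + 1)) := Odd.pow (by decide)
      rcases this with ⟨k, hk⟩
      exact ⟨k, by omega⟩
    rw [hg] at h2
    rw [q_arith _ hq1] at h1
    calc Nat.card ↥(Subgroup.centralizer ({a} : Set ↥G1)) ≤ _ := h1
      _ = 2 * Nat.card PSL2K := by rw [← h2]; ring
  have hbij : Function.Bijective Ψ := hinj.bijective_of_nat_card_le hcard
  refine ⟨MulEquiv.ofBijective Ψ hbij, ?_⟩
  show ((Ψ (Multiplicative.ofAdd (1 : ZMod 2), 1) : ↥(Subgroup.centralizer ({a} : Set ↥G1))) : ↥G1) = a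
  rw [hΨ, map_one Φbar, mul_one]
  rcases hzp _ (hf1mem (Multiplicative.ofAdd (1 : ZMod 2))) with h | h
  · exfalso
    have : Multiplicative.ofAdd (1 : ZMod 2) = 1 := hf1inj (by rw [h, map_one])
    have h01 : (1 : ZMod 2) = 0 := by
      have := congrArg Multiplicative.toAdd this
      simpa using this
    exact zmod2_one_ne_zero h01
  · rw [h]

end asm

end Cfsg.Agent.Lib.Helper76.Ree
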