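import Cfsg.Agent.Lib.Helper76.Ree2Asm
import Cfsg.Agent.S1069
import Cfsg.Agent.S1073

/-!
# Sylow 2-subgroups of `²G₂(q)`: elementary abelian of order 8, self-centralising, `|N(S)| = 168`
-/

set_option autoImplicit false
set_option maxHeartbeats 800000

namespace Cfsg.Agent.Lib.Helper76.Ree

open Cfsg.Lie Cfsg.Agent.Lib.Helper24 Cfsg.Agent.Lib.Helper33.Ree Cfsg.Agent.Lib.Helper37.SL2
open Cfsg.Agent.Lib.Helper79.Ree2 Cfsg.Agent.Lib.Helper91.Ree2 Cfsg.Agent.Lib.Helper81.Ree2 Cfsg.Agent.Lib.Helper68.Ree2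

theorem three_pow_mod_16 (m : ℕ) : 3 ^ (2 * m + 1) % 16 = 3 ∨ 3 ^ (2 * m + 1) % 16 = 11 := by
  induction m with
  | zero => left; norm_num
  | succ k ih =>
    have : 3 ^ (2 * (k + 1) + 1) = 9 * 3 ^ (2 * k + 1) := by ring
    rw [this]; omega

theorem order_mod_16_aux (q : ℕ) (h : q % 16 = 3 ∨ q % 16 = 11) :
    (q ^ 3 * (q - 1) * (q ^ 3 + 1)) % 16 = 8 := by
  rcases h with h | h
  · have h0 : q ≡ 3 [MOD 16] := h
    have h1 : q - 1 ≡ 2 [MOD 16] := by
      show (q - 1) % 16 = 2 % 16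
      omega
    have := ((h0.pow 3).mul h1).mul ((h0.pow 3).add_right 1)
    exact this
  · have h0 : q ≡ 11 [MOD 16] := h
    have h1 : q - 1 ≡ 10 [MOD 16] := by
      show (q - 1) % 16 = 10 % 16
      omega
    have := ((h0.pow 3).mul h1).mul ((h0.pow 3).add_right 1)
    exact this

theorem ree_order_mod_16 (m : ℕ) :
    ((3 ^ (2 * m + 1)) ^ 3 * (3 ^ (2 * m + 1) - 1) * ((3 ^ (2 * m + 1)) ^ 3 + 1)) % 16 = 8 :=
  order_mod_16_aux _ (three_pow_mod_16 m)

theorem centralizer_map_equiv {G : Type*} [Group G] (φ : G ≃* G) (P : Subgroup G) :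
    Subgroup.centralizer ((P.map φ.toMonoidHom : Subgroup G) : Set G) =
      (Subgroup.centralizer (P : Set G)).map φ.toMonoidHom := by
  ext x
  rw [Subgroup.mem_centralizer_iff, Subgroup.mem_map]
  constructor
  · intro h
    refine ⟨φ.symm x, ?_, by simp⟩
    rw [Subgroup.mem_centralizer_iff]
    intro p hp
    apply φ.injective
    have := h (φ p) (Subgroup.mem_map_of_mem _ hp)
    simpa using this
  · rintro ⟨c, hc, rfl⟩ y hy
    rw [SetLike.mem_coe, Subgroup.mem_map] at hy
    obtain ⟨p, hp, rfl⟩ := hy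
    have := Subgroup.mem_centralizer_iff.mp hc p hp
    show φ p * φ c = φ c * φ p
    rw [← map_mul, ← map_mul, this]

section syl

variable {K : Type*} [Field K] [Fintype K] {m : ℕ}

local notation "G1" => twistedG2 K (3 ^ m)
local notation "PSL2K" => Matrix.ProjectiveSpecialLinearGroup (Fin 2) K

theorem not_isSquare_two (hK : Fintype.card K = 3 ^ (2 * m + 1)) : ¬ IsSquare (2 : K) := by
  have h3 : (3 : K) = 0 := (reeExp_of_card hK).h3
  have h2 : (2 : K) = -1 := by linear_combination h3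
  rw [h2, FiniteField.isSquare_neg_one_iff, hK]
  have := three_pow_mod_four m
  omega

/-- the involution `h_a(-1) h_b(-1)` as an element of the Ree group -/
theorem exists_invol (hK : Fintype.card K = 3 ^ (2 * m + 1)) :
    ∃ a : ↥G1, (a : GL chevG2.Idx K) ∈ chevG2.diagonalSubgroup K ∧ a ≠ 1 ∧ a * a = 1 := by
  haveI := ree_charP hK
  have hE := reeExp_of_card hK
  have h2 := two_ne_zero_of_card hK
  have hmem : tor (-1 : Kˣ) (-1) ∈ G1 := by
    have := torFix_mem (K := K) (3 ^ m) hE.hodd hE.hθ (-1)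
    rwa [hE.hodd.neg_one_pow] at this
  refine ⟨⟨tor (-1 : Kˣ) (-1), hmem⟩, tor_mem_diagonal _ _, ?_, ?_⟩
  · intro h
    have h' : tor (-1 : Kˣ) (-1) = tor (1 : Kˣ) 1 := by
      rw [tor_one]
      exact congrArg (fun g : ↥G1 => (g : GL chevG2.Idx K)) h
    have := (tor_injective _ _ _ _ h').1
    have h1 : ((-1 : Kˣ) : K) = ((1 : Kˣ) : K) := congrArg Units.val this
    apply h2
    have : (-1 : K) = 1 := by simpa using h1
    linear_combination -this
  · apply Subtype.ext
    show tor (-1 : Kˣ) (-1) * tor (-1 : Kˣ) (-1) = 1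
    rw [tor_mul]
    simp [tor_one]

/-- **the standard Sylow 2-subgroup** -/
theorem exists_sylow_struct (hK : Fintype.card K = 3 ^ (2 * m + 1)) :
    ∃ P0 : Subgroup ↥G1, Nat.card ↥P0 = 8 ∧ (∀ x ∈ P0, x * x = 1) ∧
      Subgroup.centralizer (P0 : Set ↥G1) = P0 ∧
      ∃ t : ↥G1, t ^ 3 = 1 ∧ t ∉ P0 ∧ t ∈ Subgroup.normalizer (P0 : Set ↥G1) := by
  classical
  haveI := ree_charP hK
  obtain ⟨a, haH, ha1, ha2⟩ := exists_invol hK
  obtain ⟨Ψ, hΨa⟩ := exists_psi hK a haH ha1 ha2
  obtain ⟨V, t, hV4, hVC, ht1, ht3, htV⟩ := exists_klein_psl2 (F := K)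
  let ι : Multiplicative (ZMod 2) × PSL2K →* ↥G1 :=
    (Subgroup.centralizer ({a} : Set ↥G1)).subtype.comp Ψ.toMonoidHom
  have hι : ∀ y, ι y = ((Ψ y : ↥(Subgroup.centralizer ({a} : Set ↥G1))) : ↥G1) := fun y => rfl
  have hιinj : Function.Injective ι := by
    intro y y' h
    apply Ψ.injective
    exact Subtype.ext h
  have hιrange : ∀ x : ↥G1, x ∈ Subgroup.centralizer ({a} : Set ↥G1) → ∃ y, ι y = x := by
    intro x hx
    refine ⟨Ψ.symm ⟨x, hx⟩, ?_⟩
    rw [hι, MulEquiv.apply_symm_apply]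
  have hιa : ι (Multiplicative.ofAdd (1 : ZMod 2), 1) = a := hΨa
  let T : Subgroup (Multiplicative (ZMod 2) × PSL2K) := Subgroup.prod ⊤ V
  have hTmem : ∀ y : Multiplicative (ZMod 2) × PSL2K, y ∈ T ↔ y.2 ∈ V := by
    intro y
    rw [Subgroup.mem_prod]
    simp
  -- squares in `V`
  have hVsq : ∀ z ∈ V, z * z = 1 := by
    intro z hz
    have h4 : z ^ 4 = 1 := by
      have := pow_card_eq_one' (G := ↥V) (x := ⟨z, hz⟩)
      rw [hV4] at this
      have := congrArg (fun w : ↥V => (w : PSL2K)) this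
      simpa using this
    have := psl2_sq_eq_one (not_isSquare_two hK) (two_ne_zero_of_card hK) z h4
    rwa [pow_two] at this
  have hZsq : ∀ i : Multiplicative (ZMod 2), i * i = 1 := by
    intro i
    have : ∀ x : ZMod 2, x + x = 0 := by decide
    exact congrArg Multiplicative.ofAdd (this (Multiplicative.toAdd i))
  have hVcomm : ∀ z ∈ V, ∀ w ∈ V, z * w = w * z := by
    intro z hz w hw
    have : w ∈ Subgroup.centralizer (V : Set PSL2K) := by rw [hVC]; exact hw
    exact Subgroup.mem_centralizer_iff.mp this z hz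
  refine ⟨T.map ι, ?_, ?_, ?_, ?_⟩
  · -- cardinality
    rw [Subgroup.card_map_of_injective hιinj]
    have : Nat.card ↥T = Nat.card (↥(⊤ : Subgroup (Multiplicative (ZMod 2))) × ↥V) :=
      Nat.card_congr (Subgroup.prodEquiv _ _).toEquiv
    rw [this, Nat.card_prod, hV4, Subgroup.card_top, Nat.card_eq_fintype_card,
      Fintype.card_multiplicative, ZMod.card]
  · -- exponent 2
    rintro x ⟨y, hy, rfl⟩
    rw [← map_mul]
    have : y * y = 1 := by
      apply Prod.ext
      · exact hZsq y.1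
      · exact hVsq y.2 ((hTmem y).mp hy)
    rw [this, map_one]
  · -- self-centralising
    apply le_antisymm
    · intro x hx
      have hxa : x ∈ Subgroup.centralizer ({a} : Set ↥G1) := by
        rw [Subgroup.mem_centralizer_iff]
        intro y hy
        rw [Set.mem_singleton_iff] at hy
        subst hy
        have hamem : y ∈ T.map ι := by
          refine ⟨(Multiplicative.ofAdd (1 : ZMod 2), 1), ?_, hιa⟩
          rw [SetLike.mem_coe, hTmem]
          exact V.one_mem
        exact Subgroup.mem_centralizer_iff.mp hx y hamem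
      obtain ⟨y, rfl⟩ := hιrange x hxa
      refine ⟨y, ?_, rfl⟩
      rw [SetLike.mem_coe, hTmem, ← hVC, Subgroup.mem_centralizer_iff]
      intro z hz
      have hmem : ι (1, z) ∈ T.map ι := ⟨(1, z), (hTmem _).mpr hz, rfl⟩
      have := Subgroup.mem_centralizer_iff.mp hx _ hmem
      rw [← map_mul, ← map_mul] at this
      have := hιinj this
      exact congrArg Prod.snd this
    · rintro x ⟨y, hy, rfl⟩
      rw [Subgroup.mem_centralizer_iff]
      rintro _ ⟨y', hy', rfl⟩
      rw [← map_mul, ← map_mul]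
      congr 1
      apply Prod.ext
      · exact mul_comm _ _
      · exact hVcomm _ ((hTmem y').mp hy') _ ((hTmem y).mp hy)
  · -- the element of order 3
    have hg3 : ι (1, t) ^ 3 = 1 := by
      rw [← map_pow]
      have : ((1, t) : Multiplicative (ZMod 2) × PSL2K) ^ 3 = 1 := by
        apply Prod.ext
        · simp
        · exact ht3
      rw [this, map_one]
    have hfwd : ∀ h ∈ T.map ι, ι (1, t) * h * (ι (1, t))⁻¹ ∈ T.map ι := by
      rintro _ ⟨y, hy, rfl⟩
      refine ⟨(1, t) * y * (1, t)⁻¹, ?_, by rw [map_mul, map_mul, map_inv]⟩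
      rw [SetLike.mem_coe, hTmem]
      exact htV _ ((hTmem y).mp hy)
    refine ⟨ι (1, t), hg3, ?_, ?_⟩
    · rintro ⟨y, hy, h⟩
      have hy1 := hιinj h
      have htV' : t ∈ V := by
        have := (hTmem y).mp hy
        rwa [hy1] at this
      apply ht1
      have h2 := hVsq t htV'
      calc t = t ^ 3 * (t * t)⁻¹ := by group
        _ = 1 := by rw [ht3, h2, inv_one, mul_one]
    · rw [Subgroup.mem_normalizer_iff]
      intro h
      constructor
      · exact hfwd h
      · intro hk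
        have h1 := hfwd _ (hfwd _ hk)
        have e : ∀ g h : ↥G1, g ^ 3 = 1 → g * (g * (g * h * g⁻¹) * g⁻¹) * g⁻¹ = h := by
          intro g h hg
          have hg' : g * g * g = 1 := by rw [← hg]; simp [pow_succ]
          have hinv : g⁻¹ * g⁻¹ * g⁻¹ = 1 := by
            have : (g * g * g)⁻¹ = 1 := by rw [hg', inv_one]
            rw [← this]; group
          calc g * (g * (g * h * g⁻¹) * g⁻¹) * g⁻¹ = (g * g * g) * h * (g⁻¹ * g⁻¹ * g⁻¹) := by group
            _ = h := by rw [hg', hinv, one_mul, mul_one]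
        rwa [e _ _ hg3] at h1

end syl

end Cfsg.Agent.Lib.Helper76.Ree
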