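import Cfsg.Agent.Lib.Helper24.FactsAll
import Cfsg.Agent.Lib.Helper24.Words
import Cfsg.Prelude.Def_LieTwisted
import Cfsg.Prelude.Def_ChevStructure

/-!
# The involution `h_a(-1) h_b(-1)` of the Ree group `²G₂`

In characteristic 3 and for odd `e`, the torus element `h_a(-1) h_b(-1)` of `G₂(K)` is a product of
four of the generators of `twistedG2 K e` (with parameters in the prime field).  The identity is
checked over `ZMod 3` by kernel evaluation and transported along `ZMod 3 →+* K`.
-/

set_option autoImplicit false

namespace Cfsg.Agent.Lib.Helper76.Ree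

open Cfsg.Lie Cfsg.Agent.Lib.Helper24

section mapping

variable {F K : Type*} [Field F] [Field K]

theorem xMat_map2 (D : ChevalleyDatum) (σ : F →+* K) (r : Fin D.nroots) (t : F) :
    (D.xMat F r t).map σ = D.xMat K r (σ t) := by
  ext row col
  simp only [Matrix.map_apply, ChevalleyDatum.xMat, Matrix.of_apply]
  rcases col with i | s
  · rcases row with i' | u
    · simp [apply_ite σ]
    · simp [apply_ite σ]
  · by_cases h1 : s = r
    · simp only [h1, if_true]
      rcases row with i' | u
      · simp
      · simp [apply_ite σ]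
    · simp only [h1, if_false]
      by_cases h2 : s.val = D.negIdx.getD r.val 0
      · simp only [h2, if_true]
        rcases row with i' | u
        · simp
        · simp [apply_ite σ]
      · simp only [h2, if_false]
        rcases row with i' | u
        · simp
        · simp [apply_ite σ, map_list_sum, List.map_map, Function.comp_def]

theorem x_map2 (D : ChevalleyDatum) (σ : F →+* K) (s : ℕ) (t : F) :
    (D.x F s t).map σ = D.x K s (σ t) := by
  unfold ChevalleyDatum.x
  split_ifs with h
  · exact xMat_map2 D σ ⟨s, h⟩ t
  · exact Matrix.map_one σ (map_zero σ) (map_one σ)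

theorem wordMat_map2 (D : ChevalleyDatum) (σ : F →+* K) (w : List (ℕ × F)) :
    (D.wordMat F w).map σ = D.wordMat K (w.map fun p => (p.1, σ p.2)) := by
  induction w with
  | nil => simp [ChevalleyDatum.wordMat]
  | cons p rest ih =>
    have h1 : D.wordMat F (p :: rest) = D.x F p.1 p.2 * D.wordMat F rest := by
      simp [ChevalleyDatum.wordMat]
    have h2 : D.wordMat K ((p :: rest).map fun p => (p.1, σ p.2)) =
        D.x K p.1 (σ p.2) * D.wordMat K (rest.map fun p => (p.1, σ p.2)) := by
      simp [ChevalleyDatum.wordMat]
    rw [h1, h2, Matrix.map_mul, ih, x_map2]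

end mapping

/-- the identity over the prime field -/
theorem invol_word_zmod :
    chevG2.wordMat (ZMod 3) (reeWordU 1 0 0 1) * chevG2.wordMat (ZMod 3) (reeWordV 1 0 0 1)
      * chevG2.wordMat (ZMod 3) (reeWordU 1 1 1 1) * chevG2.wordMat (ZMod 3) (reeWordV 1 (-1) 1 (-1))
    = chevG2.hMat (ZMod 3) 7 (-1) * chevG2.hMat (ZMod 3) 6 (-1) := by
  decide +kernel

end Cfsg.Agent.Lib.Helper76.Ree
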