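import Cfsg.Agent.Lib.Helper76.ReeInvol

/-!
# The involution word of `²G₂` over a field of characteristic 3
-/

set_option autoImplicit false

namespace Cfsg.Agent.Lib.Helper76.Ree

open Cfsg.Lie Cfsg.Agent.Lib.Helper24

section invol

variable {K : Type*} [Field K]

theorem ree_neg7 : chevG2.neg 7 = 4 := by decide
theorem ree_neg6 : chevG2.neg 6 = 5 := by decide

theorem reeU_001 (e : ℕ) (he : e ≠ 0) :
    reeWordU e (0 : K) 0 1 = [(7, 0), (6, 0), (8, 0), (9, 1), (10, 0), (11, 1)] := by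
  simp [reeWordU, g2a, g2b, g2ab, g2aab, g2aaab, g2aaabb, zero_pow he]

theorem reeV_001 (e : ℕ) (he : e ≠ 0) :
    reeWordV e (0 : K) 0 1 = [(4, 0), (5, 0), (3, 0), (2, -1), (1, 0), (0, -1)] := by
  rw [reeWordV, reeU_001 e he]
  simp [ChevalleyDatum.negWord, chevG2, chevG2NegIdx]

theorem reeU_111 (e : ℕ) :
    reeWordU e (1 : K) 1 1 = [(7, 1), (6, 1), (8, 1 + 1), (9, 1 + 1), (10, 1), (11, 1)] := by
  simp [reeWordU, g2a, g2b, g2ab, g2aab, g2aaab, g2aaabb]

theorem reeV_m1m (e : ℕ) (he : Odd e) :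
    reeWordV e (-1 : K) 1 (-1) = [(4, 1), (5, 1), (3, -(1 + 1)), (2, 1 + 1), (1, -1), (0, 1)] := by
  have h1 : (-1 : K) ^ e = -1 := he.neg_one_pow
  have h2 : (-1 : K) ^ (e + 1) = 1 := by rw [pow_succ, h1]; simp
  have h3 : (-1 : K) ^ (2 * e + 1) = -1 := by
    rw [pow_succ, pow_mul]; simp
  simp only [reeWordV, reeWordU, g2a, g2b, g2ab, g2aab, g2aaab, g2aaabb, h1, h2, h3, one_pow]
  simp [ChevalleyDatum.negWord, chevG2, chevG2NegIdx]

theorem hWord7 : chevG2.hWord 7 (-1 : K) = [(7, -1), (4, 1), (7, -1), (7, -1), (4, 1), (7, -1)] := by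
  simp [ChevalleyDatum.hWord, ChevalleyDatum.nWord, ree_neg7, inv_neg]

theorem hWord6 : chevG2.hWord 6 (-1 : K) = [(6, -1), (5, 1), (6, -1), (6, -1), (5, 1), (6, -1)] := by
  simp [ChevalleyDatum.hWord, ChevalleyDatum.nWord, ree_neg6, inv_neg]

/-- `h_a(-1) h_b(-1)` as a word in the generators of the Ree group -/
theorem invol_word [CharP K 3] (e : ℕ) (he : Odd e) :
    chevG2.wordMat K (reeWordU e 0 0 1) * chevG2.wordMat K (reeWordV e 0 0 1)
      * chevG2.wordMat K (reeWordU e 1 1 1) * chevG2.wordMat K (reeWordV e (-1) 1 (-1))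
    = chevG2.hMat K 7 (-1) * chevG2.hMat K 6 (-1) := by
  have he0 : e ≠ 0 := by rintro rfl; simp at he
  let f : ZMod 3 →+* K := ZMod.castHom (dvd_refl 3) K
  have key := congrArg (fun M => M.map f) invol_word_zmod
  simp only [Matrix.map_mul] at key
  unfold ChevalleyDatum.hMat at key ⊢
  rw [wordMat_map2, wordMat_map2, wordMat_map2, wordMat_map2, wordMat_map2, wordMat_map2,
    reeU_001 1 one_ne_zero, reeV_001 1 one_ne_zero, reeU_111, reeV_m1m 1 odd_one, hWord7, hWord6] at key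
  rw [reeU_001 e he0, reeV_001 e he0, reeU_111, reeV_m1m e he, hWord7, hWord6]
  simpa using key

/-- the verified facts for `G₂` -/
theorem factsG2 : Facts chevG2 := facts_all chevG2 (by simp)

theorem wordU_mem (e : ℕ) (t u v : K) :
    factsG2.wordGL (reeWordU e t u v) ∈ twistedG2 K e :=
  Subgroup.subset_closure ⟨_, ⟨t, u, v, Or.inl rfl⟩, factsG2.wordGL_val _⟩

theorem wordV_mem (e : ℕ) (t u v : K) :
    factsG2.wordGL (reeWordV e t u v) ∈ twistedG2 K e :=
  Subgroup.subset_closure ⟨_, ⟨t, u, v, Or.inr rfl⟩, factsG2.wordGL_val _⟩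

/-- the involution `h_a(-1) h_b(-1)` lies in the Ree group -/
theorem invol_mem [CharP K 3] (e : ℕ) (he : Odd e) (g : GL chevG2.Idx K)
    (hg : (g : Matrix chevG2.Idx chevG2.Idx K) = chevG2.hMat K 7 (-1) * chevG2.hMat K 6 (-1)) :
    g ∈ twistedG2 K e := by
  have e1 : g = factsG2.wordGL (reeWordU e 0 0 1) * factsG2.wordGL (reeWordV e 0 0 1) *
      factsG2.wordGL (reeWordU e 1 1 1) * factsG2.wordGL (reeWordV e (-1) 1 (-1)) := by
    apply Units.ext
    rw [hg, ← invol_word e he]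
    simp only [Units.val_mul, Facts.wordGL_val]
  rw [e1]
  exact Subgroup.mul_mem _ (Subgroup.mul_mem _ (Subgroup.mul_mem _ (wordU_mem e _ _ _)
    (wordV_mem e _ _ _)) (wordU_mem e _ _ _)) (wordV_mem e _ _ _)

end invol

end Cfsg.Agent.Lib.Helper76.Ree
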