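import Cfsg.Agent.Lib.Helper76.PronormalSylow

set_option autoImplicit false

namespace Cfsg.Agent.Lib.Helper76

open Matrix

theorem commute_single_of_commute_transvection {n : Type*} [Fintype n] [DecidableEq n] {R : Type*}
    [CommRing R] (a b : n) (x : Matrix n n R)
    (h : x * Matrix.transvection a b 1 = Matrix.transvection a b 1 * x) :
    Commute (Matrix.single a b (1 : R)) x := by
  unfold Matrix.transvection at h
  rw [Matrix.mul_add, Matrix.add_mul, Matrix.mul_one, Matrix.one_mul] at h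
  exact (add_left_cancel h).symm

/-- A matrix in `M₅(𝔽₂)` of determinant `1` commuting with the four transvections
`t₀₂, t₂₃, t₃₄, t₄₁` is `1` or `t₀₁`. -/
theorem eq_one_or_transvection_of_commute (x : Matrix (Fin 5) (Fin 5) (ZMod 2)) (hdet : x.det = 1)
    (h1 : x * Matrix.transvection 0 2 1 = Matrix.transvection 0 2 1 * x)
    (h2 : x * Matrix.transvection 2 3 1 = Matrix.transvection 2 3 1 * x)
    (h3 : x * Matrix.transvection 3 4 1 = Matrix.transvection 3 4 1 * x)
    (h4 : x * Matrix.transvection 4 1 1 = Matrix.transvection 4 1 1 * x) :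
    x = 1 ∨ x = Matrix.transvection 0 1 1 := by
  have c1 := commute_single_of_commute_transvection _ _ x h1
  have c2 := commute_single_of_commute_transvection _ _ x h2
  have c3 := commute_single_of_commute_transvection _ _ x h3
  have c4 := commute_single_of_commute_transvection _ _ x h4
  -- diagonal entries all equal
  have d02 : x 0 0 = x 2 2 := Matrix.diag_eq_of_commute_single c1
  have d23 : x 2 2 = x 3 3 := Matrix.diag_eq_of_commute_single c2
  have d34 : x 3 3 = x 4 4 := Matrix.diag_eq_of_commute_single c3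
  have d41 : x 4 4 = x 1 1 := Matrix.diag_eq_of_commute_single c4
  -- columns 0,2,3,4 are zero off the diagonal
  have col0 : ∀ k : Fin 5, k ≠ 0 → x k 0 = 0 := fun k hk => Matrix.col_eq_zero_of_commute_single c1 hk
  have col2 : ∀ k : Fin 5, k ≠ 2 → x k 2 = 0 := fun k hk => Matrix.col_eq_zero_of_commute_single c2 hk
  have col3 : ∀ k : Fin 5, k ≠ 3 → x k 3 = 0 := fun k hk => Matrix.col_eq_zero_of_commute_single c3 hk
  have col4 : ∀ k : Fin 5, k ≠ 4 → x k 4 = 0 := fun k hk => Matrix.col_eq_zero_of_commute_single c4 hk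
  -- rows 2,3,4,1 are zero off the diagonal
  have row2 : ∀ k : Fin 5, k ≠ 2 → x 2 k = 0 := fun k hk => Matrix.row_eq_zero_of_commute_single c1 hk
  have row3 : ∀ k : Fin 5, k ≠ 3 → x 3 k = 0 := fun k hk => Matrix.row_eq_zero_of_commute_single c2 hk
  have row4 : ∀ k : Fin 5, k ≠ 4 → x 4 k = 0 := fun k hk => Matrix.row_eq_zero_of_commute_single c3 hk
  have row1 : ∀ k : Fin 5, k ≠ 1 → x 1 k = 0 := fun k hk => Matrix.row_eq_zero_of_commute_single c4 hk
  -- the common diagonal value is `1`
  have hd : x 0 0 = 1 := by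
    by_contra hne
    have h0 : x 0 0 = 0 := by
      have : ∀ c : ZMod 2, c ≠ 1 → c = 0 := by decide
      exact this _ hne
    -- then column 0 vanishes, so det = 0
    have hcol : ∀ k : Fin 5, x k 0 = 0 := by
      intro k
      by_cases hk : k = 0
      · subst hk; exact h0
      · exact col0 k hk
    have : x.det = 0 := Matrix.det_eq_zero_of_column_eq_zero 0 hcol
    rw [this] at hdet
    exact zero_ne_one hdet
  have e22 : x 2 2 = 1 := d02 ▸ hd
  have e33 : x 3 3 = 1 := d23 ▸ e22
  have e44 : x 4 4 = 1 := d34 ▸ e33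
  have e11 : x 1 1 = 1 := d41 ▸ e44
  have hx01 : x 0 1 = 0 ∨ x 0 1 = 1 := by
    have : ∀ c : ZMod 2, c = 0 ∨ c = 1 := by decide
    exact this _
  rcases hx01 with h01 | h01
  · left
    ext i j
    fin_cases i <;> fin_cases j <;>
      simp [hd, e11, e22, e33, e44, h01, col0, col2, col3, col4, row2, row3, row4]
  · right
    ext i j
    fin_cases i <;> fin_cases j <;>
      simp [Matrix.transvection, hd, e11, e22, e33, e44, h01,
        col0, col2, col3, col4, row2, row3, row4]

/-- position of the index in the order `0 < 2 < 3 < 4 < 1`. -/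
def pos5 : Fin 5 → ℕ := ![0, 4, 1, 2, 3]

theorem pos5_lt (i : Fin 5) : pos5 i < 5 := by
  fin_cases i <;> simp [pos5]

/-- `n i j = 0` unless `pos5 j ≥ pos5 i + k`. -/
def Filt (k : ℕ) (n : Matrix (Fin 5) (Fin 5) (ZMod 2)) : Prop :=
  ∀ i j, pos5 j < pos5 i + k → n i j = 0

theorem Filt.add {k : ℕ} {n m : Matrix (Fin 5) (Fin 5) (ZMod 2)} (hn : Filt k n) (hm : Filt k m) :
    Filt k (n + m) := by
  intro i j h
  simp [hn i j h, hm i j h]

theorem Filt.mono {k l : ℕ} (hkl : l ≤ k) {n : Matrix (Fin 5) (Fin 5) (ZMod 2)} (hn : Filt k n) :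
    Filt l n := fun i j h => hn i j (by omega)

theorem Filt.mul {k l : ℕ} {n m : Matrix (Fin 5) (Fin 5) (ZMod 2)} (hn : Filt k n) (hm : Filt l m) :
    Filt (k + l) (n * m) := by
  intro i j h
  rw [Matrix.mul_apply]
  apply Finset.sum_eq_zero
  intro a _
  by_cases ha : pos5 a < pos5 i + k
  · rw [hn i a ha, zero_mul]
  · rw [hm a j (by omega), mul_zero]

theorem Filt.zero (k : ℕ) : Filt k (0 : Matrix (Fin 5) (Fin 5) (ZMod 2)) := fun _ _ _ => rfl

theorem Filt.eq_zero {n : Matrix (Fin 5) (Fin 5) (ZMod 2)} (hn : Filt 5 n) : n = 0 := by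
  ext i j
  exact hn i j (by have := pos5_lt j; omega)

theorem Filt.pow {n : Matrix (Fin 5) (Fin 5) (ZMod 2)} (hn : Filt 1 n) (k : ℕ) : Filt k (n ^ k) := by
  induction k with
  | zero =>
    intro i j h
    rw [pow_zero, Matrix.one_apply_ne]
    rintro rfl
    omega
  | succ k ih => rw [pow_succ]; exact ih.mul hn

/-- unitriangular w.r.t. the order `0 < 2 < 3 < 4 < 1` -/
def UT5 (u : Matrix (Fin 5) (Fin 5) (ZMod 2)) : Prop := Filt 1 (u - 1)

theorem UT5.one : UT5 1 := by
  unfold UT5; rw [sub_self]; exact Filt.zero 1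

theorem UT5.mul {u v : Matrix (Fin 5) (Fin 5) (ZMod 2)} (hu : UT5 u) (hv : UT5 v) : UT5 (u * v) := by
  unfold UT5 at *
  have : u * v - 1 = (u - 1) * (v - 1) + ((u - 1) + (v - 1)) := by noncomm_ring
  rw [this]
  exact ((hu.mul hv).mono (by norm_num)).add (hu.add hv)

theorem UT5.pow {u : Matrix (Fin 5) (Fin 5) (ZMod 2)} (hu : UT5 u) (k : ℕ) : UT5 (u ^ k) := by
  induction k with
  | zero => rw [pow_zero]; exact UT5.one
  | succ k ih => rw [pow_succ]; exact ih.mul hu

theorem UT5.pow_eight {u : Matrix (Fin 5) (Fin 5) (ZMod 2)} (hu : UT5 u) : u ^ 8 = 1 := by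
  have hn5 : (u - 1) ^ 5 = 0 := (Filt.pow hu 5).eq_zero
  have hn8 : (u - 1) ^ 8 = 0 := by
    have : (u - 1) ^ 8 = (u - 1) ^ 5 * (u - 1) ^ 3 := by rw [← pow_add]
    rw [this, hn5, zero_mul]
  have hcomm : Commute (u - 1) 1 := Commute.one_right _
  have : Fact (Nat.Prime 2) := ⟨Nat.prime_two⟩
  have h := add_pow_char_pow_of_commute 2 3 hcomm
  have h8 : (2 : ℕ) ^ 3 = 8 := by norm_num
  rw [h8, sub_add_cancel, hn8, one_pow, zero_add] at h
  exact h

theorem UT5.transvection (a c : Fin 5) (h : pos5 a < pos5 c) : UT5 (Matrix.transvection a c 1) := by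
  unfold UT5 Matrix.transvection
  rw [add_sub_cancel_left]
  intro i j hij
  rw [Matrix.single_apply]
  split_ifs with h1
  · exfalso
    obtain ⟨rfl, rfl⟩ := h1
    omega
  · rfl


/-! ### The centralizer of the transvection `t₀₁` in `SL₅(2)` -/

/-- `SL₅(2)` -/
abbrev SL5 : Type := Matrix.SpecialLinearGroup (Fin 5) (ZMod 2)

/-- the transvection `1 + E_{ac}` as an element of `SL₅(2)` -/
def tv5 (a c : Fin 5) (h : a ≠ c) : SL5 :=
  ⟨Matrix.transvection a c 1, Matrix.det_transvection_of_ne _ _ h 1⟩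

@[simp] theorem tv5_coe (a c : Fin 5) (h : a ≠ c) :
    ((tv5 a c h : SL5) : Matrix (Fin 5) (Fin 5) (ZMod 2)) = Matrix.transvection a c 1 := rfl

/-- the four "simple root" transvections for the order `0 < 2 < 3 < 4 < 1` -/
def gens5 : Set SL5 :=
  {tv5 0 2 (by decide), tv5 2 3 (by decide), tv5 3 4 (by decide), tv5 4 1 (by decide)}

theorem ut5_of_mem_gens5 (g : SL5) (hg : g ∈ gens5) :
    UT5 (g : Matrix (Fin 5) (Fin 5) (ZMod 2)) := by
  rcases hg with rfl | rfl | rfl | rfl
  · exact UT5.transvection 0 2 (by simp [pos5])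
  · exact UT5.transvection 2 3 (by simp [pos5])
  · exact UT5.transvection 3 4 (by simp [pos5])
  · exact UT5.transvection 4 1 (by simp [pos5])

theorem SL5.pow_eight_of_ut5 (g : SL5) (hg : UT5 (g : Matrix (Fin 5) (Fin 5) (ZMod 2))) :
    g ^ 8 = 1 := by
  apply Subtype.ext
  rw [Matrix.SpecialLinearGroup.coe_pow, hg.pow_eight]
  rfl

theorem ut5_of_mem_closure (g : SL5) (hg : g ∈ Subgroup.closure gens5) :
    UT5 (g : Matrix (Fin 5) (Fin 5) (ZMod 2)) := by
  induction hg using Subgroup.closure_induction with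
  | mem x hx => exact ut5_of_mem_gens5 x hx
  | one => exact UT5.one
  | mul x y _ _ hx hy =>
    rw [Matrix.SpecialLinearGroup.coe_mul]
    exact hx.mul hy
  | inv x _ hx =>
    have h8 := SL5.pow_eight_of_ut5 x hx
    have : x⁻¹ = x ^ 7 := by
      rw [inv_eq_iff_mul_eq_one, ← pow_succ']
      exact h8
    rw [this, Matrix.SpecialLinearGroup.coe_pow]
    exact hx.pow 7

theorem isPGroup_closure_gens5 : IsPGroup 2 (Subgroup.closure gens5) := by
  intro g
  refine ⟨3, ?_⟩
  apply Subtype.ext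
  have := SL5.pow_eight_of_ut5 g.1 (ut5_of_mem_closure g.1 g.2)
  simpa using this

theorem transvection_comm_01 (a c : Fin 5) (hc : c ≠ 0) (ha : a ≠ 1) :
    (Matrix.transvection a c 1 : Matrix (Fin 5) (Fin 5) (ZMod 2)) * Matrix.transvection 0 1 1 =
      Matrix.transvection 0 1 1 * Matrix.transvection a c 1 := by
  unfold Matrix.transvection
  have e1 : (Matrix.single a c (1 : ZMod 2) : Matrix (Fin 5) (Fin 5) (ZMod 2)) *
      Matrix.single 0 1 1 = 0 := Matrix.single_mul_single_of_ne 1 a c 0 hc 1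
  have e2 : (Matrix.single 0 1 (1 : ZMod 2) : Matrix (Fin 5) (Fin 5) (ZMod 2)) *
      Matrix.single a c 1 = 0 := Matrix.single_mul_single_of_ne 1 0 1 a ha.symm 1
  rw [Matrix.add_mul, Matrix.mul_add, Matrix.mul_add, Matrix.add_mul, Matrix.mul_add, Matrix.mul_add,
    e1, e2]
  simp only [Matrix.one_mul, Matrix.mul_one, add_zero]
  abel

theorem gens5_le_centralizer (s : SL5)
    (hs : (s : Matrix (Fin 5) (Fin 5) (ZMod 2)) = Matrix.transvection 0 1 1) :
    Subgroup.closure gens5 ≤ Subgroup.centralizer ({s} : Set SL5) := by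
  rw [Subgroup.closure_le]
  intro g hg
  rw [SetLike.mem_coe, Subgroup.mem_centralizer_iff]
  intro h hh
  rw [Set.mem_singleton_iff] at hh
  subst hh
  apply Subtype.ext
  rw [Matrix.SpecialLinearGroup.coe_mul, Matrix.SpecialLinearGroup.coe_mul, hs]
  rcases hg with rfl | rfl | rfl | rfl
  · exact (transvection_comm_01 0 2 (by decide) (by decide)).symm
  · exact (transvection_comm_01 2 3 (by decide) (by decide)).symm
  · exact (transvection_comm_01 3 4 (by decide) (by decide)).symm
  · exact (transvection_comm_01 4 1 (by decide) (by decide)).symm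

/-- an element of `SL₅(2)` commuting with the four generators is `1` or the transvection `t₀₁` -/
theorem SL5.eq_one_or_of_commute (s : SL5)
    (hs : (s : Matrix (Fin 5) (Fin 5) (ZMod 2)) = Matrix.transvection 0 1 1) (x : SL5)
    (hx : ∀ g ∈ gens5, x * g = g * x) : x = 1 ∨ x = s := by
  have key : ∀ (a c : Fin 5) (h : a ≠ c), tv5 a c h ∈ gens5 →
      (x : Matrix (Fin 5) (Fin 5) (ZMod 2)) * Matrix.transvection a c 1 =
        Matrix.transvection a c 1 * (x : Matrix (Fin 5) (Fin 5) (ZMod 2)) := by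
    intro a c h hm
    have := congrArg Subtype.val (hx _ hm)
    simpa using this
  have h1 := key 0 2 (by decide) (by simp [gens5])
  have h2 := key 2 3 (by decide) (by simp [gens5])
  have h3 := key 3 4 (by decide) (by simp [gens5])
  have h4 := key 4 1 (by decide) (by simp [gens5])
  rcases eq_one_or_transvection_of_commute (x : Matrix (Fin 5) (Fin 5) (ZMod 2)) x.2 h1 h2 h3 h4
    with h | h
  · left
    exact Subtype.ext h
  · right
    exact Subtype.ext (h.trans hs.symm)

/-- **Centre of a Sylow 2-subgroup of the centralizer of a transvection in `SL₅(2)`.** -/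
theorem center_sylow_centralizer_transvection (s : SL5)
    (hs : (s : Matrix (Fin 5) (Fin 5) (ZMod 2)) = Matrix.transvection 0 1 1)
    (T0 : Sylow 2 (Subgroup.centralizer ({s} : Set SL5)))
    (x : Subgroup.centralizer ({s} : Set SL5)) (hx : x ∈ T0)
    (hc : ∀ y ∈ T0, x * y = y * x) : x = 1 ∨ (x : SL5) = s := by
  classical
  have : Fact (Nat.Prime 2) := ⟨Nat.prime_two⟩
  -- the `2`-subgroup `U0` of the centralizer
  have hU0 : IsPGroup 2 ((Subgroup.closure gens5).subgroupOf (Subgroup.centralizer ({s} : Set SL5))) :=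
    isPGroup_closure_gens5.comap_subtype
  obtain ⟨T1, hT1⟩ := hU0.exists_le_sylow
  obtain ⟨g, hg⟩ := MulAction.exists_smul_eq (Subgroup.centralizer ({s} : Set SL5)) T1 T0
  have hcj : (T0 : Subgroup (Subgroup.centralizer ({s} : Set SL5))) = cj (T1 : Subgroup _) g := by
    rw [← hg]; exact coe_smul_sylow_eq_cj T1 g
  have memT0 : ∀ y, y ∈ T0 ↔ g⁻¹ * y * g ∈ T1 := by
    intro y
    show y ∈ (T0 : Subgroup (Subgroup.centralizer ({s} : Set SL5))) ↔ _
    rw [hcj, mem_cj_iff]
    rfl
  -- `x' = g⁻¹ x g` is central in `T1`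
  have hx' : g⁻¹ * x * g ∈ T1 := (memT0 x).mp hx
  have hc' : ∀ y ∈ T1, (g⁻¹ * x * g) * y = y * (g⁻¹ * x * g) := by
    intro y hy
    have hy0 : g * y * g⁻¹ ∈ T0 := by
      rw [memT0]
      have : g⁻¹ * (g * y * g⁻¹) * g = y := by group
      rw [this]; exact hy
    have := hc _ hy0
    calc (g⁻¹ * x * g) * y = g⁻¹ * (x * (g * y * g⁻¹)) * g := by group
      _ = g⁻¹ * ((g * y * g⁻¹) * x) * g := by rw [this]
      _ = y * (g⁻¹ * x * g) := by group
  -- so it commutes with the generators
  have hcomm : ∀ t ∈ gens5, ((g⁻¹ * x * g : Subgroup.centralizer ({s} : Set SL5)) : SL5) * t =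
      t * ((g⁻¹ * x * g : Subgroup.centralizer ({s} : Set SL5)) : SL5) := by
    intro t ht
    have htC : t ∈ Subgroup.centralizer ({s} : Set SL5) :=
      gens5_le_centralizer s hs (Subgroup.subset_closure ht)
    have htT1 : (⟨t, htC⟩ : Subgroup.centralizer ({s} : Set SL5)) ∈ T1 := by
      apply hT1
      rw [Subgroup.mem_subgroupOf]
      exact Subgroup.subset_closure ht
    have := congrArg Subtype.val (hc' _ htT1)
    simpa using this
  have hsC : s ∈ Subgroup.centralizer ({s} : Set SL5) := by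
    rw [Subgroup.mem_centralizer_iff]
    intro h hh
    rw [Set.mem_singleton_iff] at hh
    rw [hh]
  have hgs : (g : SL5) * s = s * (g : SL5) := by
    have := (Subgroup.mem_centralizer_iff.mp g.2) s (Set.mem_singleton s)
    exact this.symm
  rcases SL5.eq_one_or_of_commute s hs _ hcomm with h | h
  · left
    have h' : g⁻¹ * x * g = 1 := Subtype.ext h
    calc x = g * (g⁻¹ * x * g) * g⁻¹ := by group
      _ = 1 := by rw [h']; group
  · right
    have h' : g⁻¹ * x * g = ⟨s, hsC⟩ := Subtype.ext h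
    have : x = g * (g⁻¹ * x * g) * g⁻¹ := by group
    rw [this, h']
    show (g : SL5) * s * ((g : SL5))⁻¹ = s
    rw [hgs]; group

end Cfsg.Agent.Lib.Helper76
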