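import Cfsg.Agent.Lib.Helper68.SQChev
import Cfsg.Agent.Lib.Helper68.SQOdd
import Cfsg.Agent.Lib.Helper24.Ord_G2
import Cfsg.Agent.Lib.Helper24.Ord_F4
import Cfsg.Agent.Lib.Helper24.Ord_E6
import Cfsg.Agent.Lib.Helper24.Ord_E7

/-!
# K-SQ pack (S4625, architect helper38): PARALLEL HANDS for the leaves G2, F4, E6, E7
(keystones 462507, 462508, 462509, 462510), via the generic lemma `Helper68.SQ.sylSq_of_env`.
-/

set_option autoImplicit false

namespace Cfsg.Agent.Lib.Helper76.SQ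

open Cfsg Cfsg.Lie Cfsg.Agent.Lib.Helper24 Cfsg.Agent.Lib.Helper38.SQ Cfsg.Agent.Lib.Helper68.SQ

variable {F : Type*} [Field F] [Fintype F] [CharP F 2] {D : ChevalleyDatum} {tab : List ℕ}
  {orb : List (ℕ × ℕ × ℕ)}

/-- the generic leaf with a cofactor on the left: `g * |G| = q ^ N * P` with `P` odd gives `SylSq` -/
theorem sylSq_of_env_mul (E : Env D F tab orb) (g P : ℕ) (hP : ¬ 2 ∣ P)
    (hX : g * Nat.card ↥(D.group F) = Fintype.card F ^ (D.nroots / 2) * P) :
    SylSq ↥(D.group F) := by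
  have hle : D.posUnipotent F ≤ D.group F := E.hF.pos_le_group
  have hcard : Nat.card (D.posUnipotent F) = Fintype.card F ^ (D.nroots / 2) :=
    E.hF.card_posUnipotent E.hC E.hU E.hNR E.hcomm
  have hdvd : Fintype.card F ^ (D.nroots / 2) ∣ Nat.card ↥(D.group F) := by
    rw [← hcard]; exact Subgroup.card_dvd_of_le hle
  obtain ⟨m, hm⟩ := hdvd
  have hq0 : 0 < Fintype.card F ^ (D.nroots / 2) := pow_pos Fintype.card_pos _
  have h1 : g * m = P := by
    have h2 : Fintype.card F ^ (D.nroots / 2) * (g * m) = Fintype.card F ^ (D.nroots / 2) * P := by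
      rw [← hX, hm]; ring
    exact Nat.eq_of_mul_eq_mul_left hq0 h2
  refine sylSq_of_env E m ?_ hm
  intro h2
  exact hP (h1 ▸ dvd_mul_of_dvd_right h2 g)

/-- **LEAF G2 (462507)** -/
theorem sylSq_g2 (F : Type) [Field F] [Fintype F] [CharP F 2] :
    SylSq (Cfsg.Lie.chevG2.group F) := by
  obtain ⟨E⟩ := env_of_facts (F := F) chevG2 (by simp) nTabG2 orbTabG2 nfacts_G2 hnfacts_G2 cfacts_G2
  have hq2 : 2 ∣ Fintype.card F := two_dvd_card_of_charTwo F
  have hq0 : 0 < Fintype.card F := Fintype.card_pos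
  have hX := ord_G2 (F := F) (q := Fintype.card F) rfl
  have e : chevG2.nroots / 2 = 6 := by decide
  have h := fun d (hd : d ≠ 0) => not_two_dvd_pow_sub_one hq2 hq0 hd
  refine sylSq_of_env_mul E 1 ((Fintype.card F ^ 2 - 1) * (Fintype.card F ^ 6 - 1))
    (not_two_dvd_mul (h 2 (by norm_num)) (h 6 (by norm_num))) ?_
  rw [e, one_mul, hX]
  simp only [mul_assoc]

/-- **LEAF F4 (462508)** -/
theorem sylSq_f4 (F : Type) [Field F] [Fintype F] [CharP F 2] :
    SylSq (Cfsg.Lie.chevF4.group F) := by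
  obtain ⟨E⟩ := env_of_facts (F := F) chevF4 (by simp) nTabF4 orbTabF4 nfacts_F4 hnfacts_F4 cfacts_F4
  have hq2 : 2 ∣ Fintype.card F := two_dvd_card_of_charTwo F
  have hq0 : 0 < Fintype.card F := Fintype.card_pos
  have hX := ord_F4 (F := F) (q := Fintype.card F) rfl
  have e : chevF4.nroots / 2 = 24 := by decide
  have h := fun d (hd : d ≠ 0) => not_two_dvd_pow_sub_one hq2 hq0 hd
  refine sylSq_of_env_mul E 1 ((Fintype.card F ^ 2 - 1) * ((Fintype.card F ^ 6 - 1) *
      ((Fintype.card F ^ 8 - 1) * (Fintype.card F ^ 12 - 1))))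
    (not_two_dvd_mul (h 2 (by norm_num)) (not_two_dvd_mul (h 6 (by norm_num))
      (not_two_dvd_mul (h 8 (by norm_num)) (h 12 (by norm_num))))) ?_
  rw [e, one_mul, hX]
  simp only [mul_assoc]

/-- **LEAF E6 (462509)** -/
theorem sylSq_e6 (F : Type) [Field F] [Fintype F] [CharP F 2] :
    SylSq (Cfsg.Lie.chevE6.group F) := by
  obtain ⟨E⟩ := env_of_facts (F := F) chevE6 (by simp) nTabE6 orbTabE6 nfacts_E6 hnfacts_E6 cfacts_E6
  have hq2 : 2 ∣ Fintype.card F := two_dvd_card_of_charTwo F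
  have hq0 : 0 < Fintype.card F := Fintype.card_pos
  have hX := ord_E6 (F := F) (q := Fintype.card F) rfl
  have e : chevE6.nroots / 2 = 36 := by decide
  have h := fun d (hd : d ≠ 0) => not_two_dvd_pow_sub_one hq2 hq0 hd
  refine sylSq_of_env_mul E (Nat.gcd 3 (Fintype.card F - 1))
    ((Fintype.card F ^ 2 - 1) * ((Fintype.card F ^ 5 - 1) * ((Fintype.card F ^ 6 - 1) *
      ((Fintype.card F ^ 8 - 1) * ((Fintype.card F ^ 9 - 1) * (Fintype.card F ^ 12 - 1))))))
    (not_two_dvd_mul (h 2 (by norm_num)) (not_two_dvd_mul (h 5 (by norm_num))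
      (not_two_dvd_mul (h 6 (by norm_num)) (not_two_dvd_mul (h 8 (by norm_num))
      (not_two_dvd_mul (h 9 (by norm_num)) (h 12 (by norm_num))))))) ?_
  rw [e, hX]
  simp only [mul_assoc]

/-- **LEAF E7 (462510)** -/
theorem sylSq_e7 (F : Type) [Field F] [Fintype F] [CharP F 2] :
    SylSq (Cfsg.Lie.chevE7.group F) := by
  obtain ⟨E⟩ := env_of_facts (F := F) chevE7 (by simp) nTabE7 orbTabE7 nfacts_E7 hnfacts_E7 cfacts_E7
  have hq2 : 2 ∣ Fintype.card F := two_dvd_card_of_charTwo F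
  have hq0 : 0 < Fintype.card F := Fintype.card_pos
  have hX := ord_E7 (F := F) (q := Fintype.card F) rfl
  have e : chevE7.nroots / 2 = 63 := by decide
  have h := fun d (hd : d ≠ 0) => not_two_dvd_pow_sub_one hq2 hq0 hd
  refine sylSq_of_env_mul E (Nat.gcd 2 (Fintype.card F - 1))
    ((Fintype.card F ^ 2 - 1) * ((Fintype.card F ^ 6 - 1) * ((Fintype.card F ^ 8 - 1) *
      ((Fintype.card F ^ 10 - 1) * ((Fintype.card F ^ 12 - 1) * ((Fintype.card F ^ 14 - 1) *
      (Fintype.card F ^ 18 - 1)))))))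
    (not_two_dvd_mul (h 2 (by norm_num)) (not_two_dvd_mul (h 6 (by norm_num))
      (not_two_dvd_mul (h 8 (by norm_num)) (not_two_dvd_mul (h 10 (by norm_num))
      (not_two_dvd_mul (h 12 (by norm_num)) (not_two_dvd_mul (h 14 (by norm_num))
      (h 18 (by norm_num)))))))) ?_
  rw [e, hX]
  simp only [mul_assoc]

end Cfsg.Agent.Lib.Helper76.SQ
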