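import Mathlib

set_option autoImplicit false

namespace Cfsg.Agent.Lib.Helper76

open Subgroup

/-- Let `z ≠ 1`, `C = C_G(z)`, `T` a Sylow `p`-subgroup of `C` containing `z` such that every
central element of `T` is `1` or `z`.  Then `T` (viewed in `G`) has index prime to `p`. -/
theorem sylow_centralizer_index_aux {G : Type*} [Group G] [Finite G] (p : ℕ) [Fact p.Prime] (z : G)
    (hz1 : z ≠ 1) (C : Subgroup G) (hCmem : ∀ y : G, y ∈ C ↔ z * y = y * z)
    (T : Sylow p C)
    (hzT : ∃ x : C, x ∈ T ∧ (x : G) = z)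
    (hcen : ∀ x : C, x ∈ T → (∀ y ∈ T, x * y = y * x) → x = 1 ∨ (x : G) = z) :
    ¬ p ∣ ((T : Subgroup C).map C.subtype).index := by
  classical
  set T' : Subgroup G := (T : Subgroup C).map C.subtype with hT'
  have hT'p : IsPGroup p T' := T.2.map _
  have hT'C : T' ≤ C := Subgroup.map_subtype_le _
  have memT' : ∀ x : G, x ∈ T' ↔ ∃ h : x ∈ C, (⟨x, h⟩ : C) ∈ T := by
    intro x
    constructor
    · rintro ⟨y, hy, rfl⟩
      exact ⟨y.2, hy⟩
    · rintro ⟨h, hx⟩
      exact ⟨⟨x, h⟩, hx, rfl⟩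
  have hzT' : z ∈ T' := by
    obtain ⟨x, hx, hxz⟩ := hzT
    exact ⟨x, hx, hxz⟩
  have hCcomm : ∀ y ∈ C, z * y = y * z := fun y hy => (hCmem y).mp hy
  obtain ⟨P, hP⟩ := hT'p.exists_le_sylow
  by_cases hTP : T' = (P : Subgroup G)
  · rw [hTP]
    exact P.not_dvd_index
  · exfalso
    have hlt : T' < (P : Subgroup G) := lt_of_le_of_ne hP hTP
    have hnil : Group.IsNilpotent (P : Subgroup G) := P.2.isNilpotent
    have hnc : NormalizerCondition (P : Subgroup G) := Group.normalizerCondition_of_isNilpotent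
    have hlt' : T'.subgroupOf (P : Subgroup G) < ⊤ := by
      rw [lt_top_iff_ne_top, Ne, Subgroup.subgroupOf_eq_top]
      exact fun h => hTP (le_antisymm hP h)
    obtain ⟨g, hgN, hgT⟩ := SetLike.exists_of_lt (hnc _ hlt')
    have hgN' : ∀ h : G, h ∈ (P : Subgroup G) → (h ∈ T' ↔ (g : G) * h * (g : G)⁻¹ ∈ T') := by
      intro h hh
      have := (Subgroup.mem_normalizer_iff.mp hgN) ⟨h, hh⟩
      simpa [Subgroup.mem_subgroupOf] using this
    have hgT' : (g : G) ∉ T' := by
      simpa [Subgroup.mem_subgroupOf] using hgT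
    -- `g z g⁻¹` is central in `T'`
    have hw : (g : G) * z * (g : G)⁻¹ ∈ T' := (hgN' z (hP hzT')).mp hzT'
    have hwcomm : ∀ y ∈ T', (g : G) * z * (g : G)⁻¹ * y = y * ((g : G) * z * (g : G)⁻¹) := by
      intro y hy
      have hy' : (g : G)⁻¹ * y * (g : G) ∈ T' := by
        have h1 : (g : G)⁻¹ * y * (g : G) ∈ (P : Subgroup G) :=
          P.1.mul_mem (P.1.mul_mem (P.1.inv_mem g.2) (hP hy)) g.2
        rw [hgN' _ h1]
        simpa [mul_assoc] using hy
      have h2 := hCcomm _ (hT'C hy')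
      calc (g : G) * z * (g : G)⁻¹ * y
          = (g : G) * (z * ((g : G)⁻¹ * y * (g : G))) * (g : G)⁻¹ := by group
        _ = (g : G) * (((g : G)⁻¹ * y * (g : G)) * z) * (g : G)⁻¹ := by rw [h2]
        _ = y * ((g : G) * z * (g : G)⁻¹) := by group
    obtain ⟨hwC, hwT⟩ := (memT' _).mp hw
    have hcases := hcen ⟨_, hwC⟩ hwT (by
      intro y hy
      apply Subtype.ext
      have := hwcomm (y : G) ((memT' _).mpr ⟨y.2, hy⟩)
      simpa using this)
    have hgz : (g : G) * z * (g : G)⁻¹ = z := by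
      rcases hcases with h | h
      · exfalso
        apply hz1
        have h' : (g : G) * z * (g : G)⁻¹ = 1 := congrArg Subtype.val h
        have : z = (g : G)⁻¹ * ((g : G) * z * (g : G)⁻¹) * (g : G) := by group
        rw [this, h']; group
      · exact h
    have hgC : (g : G) ∈ C := by
      rw [hCmem]
      calc z * (g : G) = ((g : G) * z * (g : G)⁻¹) * (g : G) := by rw [hgz]
        _ = (g : G) * z := by group
    -- the bigger `p`-subgroup of `C`
    set K : Subgroup G := T' ⊔ Subgroup.zpowers (g : G) with hK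
    have hKP : K ≤ (P : Subgroup G) := sup_le hP (by
      rw [Subgroup.zpowers_le]; exact g.2)
    have hKp : IsPGroup p K := P.2.to_le hKP
    have hKCp : IsPGroup p (K.subgroupOf C) := hKp.comap_subtype
    have hle : (T : Subgroup C) ≤ K.subgroupOf C := by
      intro t ht
      rw [Subgroup.mem_subgroupOf]
      exact (le_sup_left : T' ≤ K) ((memT' _).mpr ⟨t.2, ht⟩)
    have heq := T.is_maximal' hKCp hle
    have hgK : (⟨(g : G), hgC⟩ : C) ∈ K.subgroupOf C := by
      rw [Subgroup.mem_subgroupOf]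
      exact (le_sup_right : Subgroup.zpowers (g : G) ≤ K) (Subgroup.mem_zpowers _)
    rw [heq] at hgK
    exact hgT' ((memT' _).mpr ⟨hgC, hgK⟩)

end Cfsg.Agent.Lib.Helper76
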