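import Cfsg.Agent.Lib.Helper24.HStruct
import Cfsg.Prelude.Def_ChevE6
import Cfsg.Prelude.Def_ChevD4

/-!
# Torus characters of the simply laced types `E6`, `D4`

A diagonal element `∏ h_{p_i}(c_i)` on which every fundamental root takes the value `1` is killed
by every root: the Cartan row of a root is the integral combination of the rows of the fundamental
roots whose coefficients are the (co)root coordinates.  (Leaf for helper33's twisted BN-pairs.)
-/

set_option autoImplicit false

namespace Cfsg.Agent.Lib.Helper76.TwCore

open Cfsg.Lie Cfsg.Agent.Lib.Helper24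

/-- table check: the Cartan row of a root is the combination of the rows of the fundamental roots,
with the coroot coordinates as coefficients -/
def cartanLinOK (D : ChevalleyDatum) : Bool :=
  (List.range D.nroots).all fun r => (List.range D.rank).all fun i =>
    decide (D.cartan i r =
      ((List.range D.rank).map fun j => (D.coroot.getD r #[]).getD j 0 * D.cartan i (D.simple j)).sum)

theorem cartanLinOK_spec (D : ChevalleyDatum) (h : cartanLinOK D = true) (r : ℕ) (hr : r < D.nroots)
    (i : ℕ) (hi : i < D.rank) :
    D.cartan i r =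
      ∑ j ∈ Finset.range D.rank, (D.coroot.getD r #[]).getD j 0 * D.cartan i (D.simple j) := by
  simp only [cartanLinOK, List.all_eq_true, List.mem_range, decide_eq_true_eq] at h
  rw [h r hr i hi, ← List.sum_toFinset _ List.nodup_range, List.toFinset_range]

theorem cartanLinOK_E6 : cartanLinOK chevE6 = true := by decide +kernel

theorem cartanLinOK_D4 : cartanLinOK chevD4 = true := by decide +kernel

theorem zpow_finset_sum {F : Type*} [Field F] (a : F) (ha : a ≠ 0) (s : Finset ℕ) (e : ℕ → ℤ) :
    a ^ (∑ j ∈ s, e j) = ∏ j ∈ s, a ^ e j := by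
  classical
  induction s using Finset.induction_on with
  | empty => simp
  | insert j s hj ih => rw [Finset.sum_insert hj, Finset.prod_insert hj, zpow_add₀ ha, ih]

theorem torusEntry_range {F : Type*} [Field F] (D : ChevalleyDatum) (c : ℕ → F) (r : ℕ) :
    torusEntry D (List.range D.rank) c (D.rank + r) =
      ∏ i ∈ Finset.range D.rank, c i ^ D.cartan i r := by
  unfold torusEntry
  rw [← List.prod_toFinset _ List.nodup_range, List.toFinset_range]
  apply Finset.prod_congr rfl
  intro i _
  congr 1
  unfold Eexp
  rw [if_neg (by omega)]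
  congr 1
  omega

theorem torusEntry_eq_one_of_simple {F : Type*} [Field F] (D : Cfsg.Lie.ChevalleyDatum)
    (hD : D = Cfsg.Lie.chevE6 ∨ D = Cfsg.Lie.chevD4) (c : ℕ → F) (hc : ∀ i, c i ≠ 0)
    (h1 : ∀ j < D.rank,
      Cfsg.Agent.Lib.Helper24.torusEntry D (List.range D.rank) c (D.rank + D.simple j) = 1) :
    ∀ r < D.nroots,
      Cfsg.Agent.Lib.Helper24.torusEntry D (List.range D.rank) c (D.rank + r) = 1 := by
  have hOK : cartanLinOK D = true := by
    rcases hD with rfl | rfl
    · exact cartanLinOK_E6
    · exact cartanLinOK_D4
  intro r hr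
  rw [torusEntry_range]
  calc ∏ i ∈ Finset.range D.rank, c i ^ D.cartan i r
      = ∏ i ∈ Finset.range D.rank, ∏ j ∈ Finset.range D.rank,
          (c i ^ D.cartan i (D.simple j)) ^ (D.coroot.getD r #[]).getD j 0 := by
        apply Finset.prod_congr rfl
        intro i hi
        rw [cartanLinOK_spec D hOK r hr i (Finset.mem_range.mp hi), zpow_finset_sum _ (hc i)]
        apply Finset.prod_congr rfl
        intro j _
        rw [mul_comm, zpow_mul]
    _ = ∏ j ∈ Finset.range D.rank, ∏ i ∈ Finset.range D.rank,
          (c i ^ D.cartan i (D.simple j)) ^ (D.coroot.getD r #[]).getD j 0 := Finset.prod_comm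
    _ = ∏ j ∈ Finset.range D.rank,
          (∏ i ∈ Finset.range D.rank, c i ^ D.cartan i (D.simple j)) ^
            (D.coroot.getD r #[]).getD j 0 := by
        apply Finset.prod_congr rfl
        intro j _
        rw [Finset.prod_zpow]
    _ = 1 := by
        apply Finset.prod_eq_one
        intro j hj
        rw [← torusEntry_range, h1 j (Finset.mem_range.mp hj), one_zpow]

end Cfsg.Agent.Lib.Helper76.TwCore
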