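import Cfsg.Agent.Lib.Helper24.CellsB
import Cfsg.Prelude.Def_ChevE6
import Cfsg.Prelude.Def_ChevD4

/-!
# Commutators of Weyl words that are not in the Borel subgroup

Generic form (over a verified environment `Env`) of `Facts.nS_comm_not_borel`, for products of
fundamental reflections: used for the irreducibility of the twisted Weyl groups of `²E₆`, `³D₄`.
-/

set_option autoImplicit false

namespace Cfsg.Agent.Lib.Helper76.TwIrr

open Cfsg.Lie Cfsg.Agent.Lib.Helper24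

section gen

variable {F : Type*} [Field F] {D : ChevalleyDatum} {tab : List ℕ} {orb : List (ℕ × ℕ × ℕ)}

/-- if the Weyl group elements of the words `w`, `w'` do not commute at the root `r`, the commutator
of `n_w` and `n_{w'}` is not in `B` -/
theorem comm_nW_not_borel (E : Env D F tab orb) (w w' : List ℕ)
    (hw : ∀ i ∈ w, i < D.rank) (hw' : ∀ i ∈ w', i < D.rank) (r : ℕ) (hr : r < D.nroots)
    (hne : rhoW D w (rhoW D w' r) ≠ rhoW D w' (rhoW D w r)) :
    E.hF.nW (F := F) w * E.hF.nW w' * (E.hF.nW w)⁻¹ * (E.hF.nW w')⁻¹ ∉ D.borelSubgroup F := by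
  intro h
  have hmw := E.nW_mem w hw
  have hmw' := E.nW_mem w' hw'
  have hN' : E.hF.nW (F := F) w * E.hF.nW w' * (E.hF.nW w)⁻¹ * (E.hF.nW w')⁻¹ ∈
      D.monomialSubgroup F :=
    Subgroup.mul_mem _ (Subgroup.mul_mem _ (Subgroup.mul_mem _ hmw hmw') (Subgroup.inv_mem _ hmw))
      (Subgroup.inv_mem _ hmw')
  have hH' : E.hF.nW (F := F) w * E.hF.nW w' * (E.hF.nW w)⁻¹ * (E.hF.nW w')⁻¹ ∈
      D.diagonalSubgroup F := by
    rw [← E.hBN]; exact ⟨h, hN'⟩
  have h1 := E.hN.rhoW_lt w' hw' r hr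
  have h2 := E.hN.rhoW_lt w hw r hr
  have h12 := E.hN.rhoW_lt w hw _ h1
  have h21 := E.hN.rhoW_lt w' hw' _ h2
  obtain ⟨χ, hχ, eχ⟩ := E.hF.diag_conj _ hH' (rhoW D w' (rhoW D w r)) h21
  obtain ⟨η1, hη1, e1⟩ := E.hF.nW_conj (F := F) E.hN w' hw' r hr
  obtain ⟨η2, hη2, e2⟩ := E.hF.nW_conj (F := F) E.hN w hw _ h1
  obtain ⟨η3, hη3, e3⟩ := E.hF.nW_conj (F := F) E.hN w hw r hr
  obtain ⟨η4, hη4, e4⟩ := E.hF.nW_conj (F := F) E.hN w' hw' _ h2
  have key : E.hF.nW (F := F) w * (E.hF.nW w' * E.hF.xGL r 1 * (E.hF.nW w')⁻¹) * (E.hF.nW w)⁻¹ =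
      (E.hF.nW w * E.hF.nW w' * (E.hF.nW w)⁻¹ * (E.hF.nW w')⁻¹) *
        (E.hF.nW w' * (E.hF.nW w * E.hF.xGL r 1 * (E.hF.nW w)⁻¹) * (E.hF.nW w')⁻¹) *
        (E.hF.nW w * E.hF.nW w' * (E.hF.nW w)⁻¹ * (E.hF.nW w')⁻¹)⁻¹ := by group
  rw [e1, e2, e3, e4, eχ] at key
  have h0 := E.hF.xGL_eq_xGL E.hR E.hNe E.hU.unit _ _ h12 h21 hne _ _ key
  rcases hη1 with rfl | rfl <;> rcases hη2 with rfl | rfl <;> simp at h0

/-- table check: the Weyl group elements of the words `w`, `w'` differ at some root -/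
def commMoveOK (D : ChevalleyDatum) (w w' : List ℕ) : Bool :=
  (w.all fun i => decide (i < D.rank)) && (w'.all fun i => decide (i < D.rank)) &&
  (List.range D.nroots).any fun r =>
    !(Nat.beq (rhoW D w (rhoW D w' r)) (rhoW D w' (rhoW D w r)))

theorem comm_nW_not_borel_of_table (E : Env D F tab orb) (w w' : List ℕ)
    (h : commMoveOK D w w' = true) :
    E.hF.nW (F := F) w * E.hF.nW w' * (E.hF.nW w)⁻¹ * (E.hF.nW w')⁻¹ ∉ D.borelSubgroup F := by
  simp only [commMoveOK, Bool.and_eq_true, List.all_eq_true, decide_eq_true_eq, List.any_eq_true,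
    List.mem_range, Bool.not_eq_true', nbeq_false] at h
  obtain ⟨⟨hw, hw'⟩, r, hr, hne⟩ := h
  exact comm_nW_not_borel E w w' hw hw' r hr hne

end gen

theorem commMove_E6_a : commMoveOK chevE6 [1] [3] = true := by decide +kernel

theorem commMove_E6_b : commMoveOK chevE6 [3] [2, 4] = true := by decide +kernel

theorem commMove_E6_c : commMoveOK chevE6 [2, 4] [0, 5] = true := by decide +kernel

theorem commMove_D4 : commMoveOK chevD4 [1] [0, 2, 3] = true := by decide +kernel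

end Cfsg.Agent.Lib.Helper76.TwIrr
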