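import Cfsg.Agent.Lib.Helper76.TwistPerfD4
import Cfsg.Agent.Lib.Helper76.TwistE6
import Cfsg.Agent.Lib.Helper24.RF_E6

/-!
# `²E₆(q)` is perfect
-/

set_option autoImplicit false
set_option linter.unusedSimpArgs false
set_option linter.unusedSectionVars false

namespace Cfsg.Agent.Lib.Helper76.Twist

open Cfsg.Lie Cfsg.Agent.Lib.Helper24 Cfsg.Agent.Lib.Helper76.TwistPerf
  Cfsg.Agent.Lib.Helper76.TwistCount
open scoped commutatorElement

/-- the reflection tables of type `E₆` -/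
theorem nfactsE6 : NFacts chevE6 nTabE6 where
  ntab := fun i hi => ntab_E6 i hi
  refl := by
    intro i hi s hs
    have hi' : i < 6 := hi
    have hs' : s < 72 := hs
    interval_cases i
    · exact refl_E6_0 s hs'
    · exact refl_E6_1 s hs'
    · exact refl_E6_2 s hs'
    · exact refl_E6_3 s hs'
    · exact refl_E6_4 s hs'
    · exact refl_E6_5 s hs'

section duo

variable {K : Type*} [Field K] {D : ChevalleyDatum}

/-- a twisted root element for an orbit of two orthogonal roots -/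
def duo (hF : Facts D) (f : K →+* K) (r1 r2 : ℕ) (t : K) : GL D.Idx K :=
  hF.xGL r1 t * hF.xGL r2 (f t)

theorem duo_mul (hF : Facts D) (f : K →+* K) (r1 r2 : ℕ)
    (c12 : ∀ t u : K, Commute (hF.xGL r1 t) (hF.xGL r2 u)) (a b : K) :
    duo hF f r1 r2 a * duo hF f r1 r2 b = duo hF f r1 r2 (a + b) := by
  unfold duo
  rw [map_add, ← hF.xGL_mul, ← hF.xGL_mul]
  have e1 := (c12 b (f a)).eq
  calc hF.xGL r1 a * hF.xGL r2 (f a) * (hF.xGL r1 b * hF.xGL r2 (f b))
      = hF.xGL r1 a * (hF.xGL r2 (f a) * hF.xGL r1 b) * hF.xGL r2 (f b) := by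
        simp only [mul_assoc]
    _ = hF.xGL r1 a * (hF.xGL r1 b * hF.xGL r2 (f a)) * hF.xGL r2 (f b) := by rw [e1]
    _ = _ := by simp only [mul_assoc]

theorem conj_mul2 {G : Type*} [Group G] (h a b : G) :
    h * (a * b) * h⁻¹ = (h * a * h⁻¹) * (h * b * h⁻¹) := by group

end duo

section e6

variable {K : Type*} [Field K]

/-- the torus element attached to an orbit of two fundamental roots -/
def hOrbE6 (hF : Facts chevE6) (f : K →+* K) (r s : ℕ) (γ : K) : GL chevE6.Idx K :=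
  hF.wordGL (chevE6.hWord r γ) * hF.wordGL (chevE6.hWord s (f γ))

theorem hOrbE6_conj (hF : Facts chevE6) (f : K →+* K) (r s : ℕ) (hr : r < 72) (hs : s < 72)
    (γ : K) (hγ : γ ≠ 0) (x : ℕ) (hx : x < 72) (t : K) :
    hOrbE6 hF f r s γ * hF.xGL x t * (hOrbE6 hF f r s γ)⁻¹ =
      hF.xGL x (γ ^ Aroot chevE6 r x * ((f γ) ^ Aroot chevE6 s x * t)) := by
  have h1 : f γ ≠ 0 := (map_ne_zero f).mpr hγ
  unfold hOrbE6
  rw [← hWord_conj hF r hr γ hγ x hx, ← hWord_conj hF s hs (f γ) h1 x hx]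
  group

theorem arootE6 : ∀ p ∈ ([(56, 56, 2), (36, 56, 0), (56, 36, 0), (36, 36, 2),
    (56, 15, -2), (36, 15, 0), (56, 35, 0), (36, 35, -2),
    (42, 42, 2), (37, 42, 0), (42, 37, 0), (37, 37, 2),
    (42, 29, -2), (37, 29, 0), (42, 34, 0), (37, 34, -2),
    (42, 39, -1), (37, 39, -1), (42, 32, 1), (37, 32, 1),
    (39, 46, -1), (39, 25, 1)] :
      List (ℕ × ℕ × ℤ)), Aroot chevE6 p.1 p.2.1 = p.2.2 := by decide +kernel

theorem hOrbE6_conj_A_pos (hF : Facts chevE6) (f : K →+* K) (γ : K) (hγ : γ ≠ 0) (t : K) :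
    hOrbE6 hF f 56 36 γ * duo hF f 56 36 t * (hOrbE6 hF f 56 36 γ)⁻¹ =
      duo hF f 56 36 (γ ^ 2 * t) := by
  unfold duo
  rw [conj_mul2, hOrbE6_conj hF f 56 36 (by norm_num) (by norm_num) γ hγ 56 (by norm_num),
    hOrbE6_conj hF f 56 36 (by norm_num) (by norm_num) γ hγ 36 (by norm_num)]
  rw [arootE6 (56, 56, 2) (by decide), arootE6 (36, 56, 0) (by decide),
    arootE6 (56, 36, 0) (by decide), arootE6 (36, 36, 2) (by decide)]
  simp only [zpow_zero, pow_zero, one_mul, map_mul, map_pow, zpow_ofNat]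

theorem hOrbE6_conj_A_neg (hF : Facts chevE6) (f : K →+* K) (γ : K) (hγ : γ ≠ 0) (t : K) :
    hOrbE6 hF f 56 36 γ * duo hF f 15 35 t * (hOrbE6 hF f 56 36 γ)⁻¹ =
      duo hF f 15 35 ((γ ^ 2)⁻¹ * t) := by
  unfold duo
  rw [conj_mul2, hOrbE6_conj hF f 56 36 (by norm_num) (by norm_num) γ hγ 15 (by norm_num),
    hOrbE6_conj hF f 56 36 (by norm_num) (by norm_num) γ hγ 35 (by norm_num)]
  rw [arootE6 (56, 15, -2) (by decide), arootE6 (36, 15, 0) (by decide),
    arootE6 (56, 35, 0) (by decide), arootE6 (36, 35, -2) (by decide)]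
  simp only [zpow_zero, pow_zero, one_mul, map_mul, map_pow, map_inv₀, zpow_neg, zpow_ofNat]

theorem hOrbE6_conj_B_pos (hF : Facts chevE6) (f : K →+* K) (γ : K) (hγ : γ ≠ 0) (t : K) :
    hOrbE6 hF f 42 37 γ * duo hF f 42 37 t * (hOrbE6 hF f 42 37 γ)⁻¹ =
      duo hF f 42 37 (γ ^ 2 * t) := by
  unfold duo
  rw [conj_mul2, hOrbE6_conj hF f 42 37 (by norm_num) (by norm_num) γ hγ 42 (by norm_num),
    hOrbE6_conj hF f 42 37 (by norm_num) (by norm_num) γ hγ 37 (by norm_num)]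
  rw [arootE6 (42, 42, 2) (by decide), arootE6 (37, 42, 0) (by decide),
    arootE6 (42, 37, 0) (by decide), arootE6 (37, 37, 2) (by decide)]
  simp only [zpow_zero, pow_zero, one_mul, map_mul, map_pow, zpow_ofNat]

theorem hOrbE6_conj_B_neg (hF : Facts chevE6) (f : K →+* K) (γ : K) (hγ : γ ≠ 0) (t : K) :
    hOrbE6 hF f 42 37 γ * duo hF f 29 34 t * (hOrbE6 hF f 42 37 γ)⁻¹ =
      duo hF f 29 34 ((γ ^ 2)⁻¹ * t) := by
  unfold duo
  rw [conj_mul2, hOrbE6_conj hF f 42 37 (by norm_num) (by norm_num) γ hγ 29 (by norm_num),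
    hOrbE6_conj hF f 42 37 (by norm_num) (by norm_num) γ hγ 34 (by norm_num)]
  rw [arootE6 (42, 29, -2) (by decide), arootE6 (37, 29, 0) (by decide),
    arootE6 (42, 34, 0) (by decide), arootE6 (37, 34, -2) (by decide)]
  simp only [zpow_zero, pow_zero, one_mul, map_mul, map_pow, map_inv₀, zpow_neg, zpow_ofNat]

theorem hOrbE6_conj_39 (hF : Facts chevE6) (f : K →+* K) (γ : K) (hγ : γ ≠ 0) (t : K) :
    hOrbE6 hF f 42 37 γ * hF.xGL 39 t * (hOrbE6 hF f 42 37 γ)⁻¹ =
      hF.xGL 39 ((γ * f γ)⁻¹ * t) := by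
  rw [hOrbE6_conj hF f 42 37 (by norm_num) (by norm_num) γ hγ 39 (by norm_num),
    arootE6 (42, 39, -1) (by decide), arootE6 (37, 39, -1) (by decide)]
  congr 1
  simp only [zpow_neg, zpow_one, mul_inv]
  ring

theorem hOrbE6_conj_32 (hF : Facts chevE6) (f : K →+* K) (γ : K) (hγ : γ ≠ 0) (t : K) :
    hOrbE6 hF f 42 37 γ * hF.xGL 32 t * (hOrbE6 hF f 42 37 γ)⁻¹ =
      hF.xGL 32 ((γ * f γ) * t) := by
  rw [hOrbE6_conj hF f 42 37 (by norm_num) (by norm_num) γ hγ 32 (by norm_num),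
    arootE6 (42, 32, 1) (by decide), arootE6 (37, 32, 1) (by decide)]
  congr 1
  simp only [zpow_one]
  ring

theorem h39_conj_46 (hF : Facts chevE6) (c : K) (hc : c ≠ 0) (t : K) :
    hF.wordGL (chevE6.hWord 39 c) * hF.xGL 46 t * (hF.wordGL (chevE6.hWord 39 c))⁻¹ =
      hF.xGL 46 (c⁻¹ * t) := by
  rw [hWord_conj hF 39 (by show (39 : ℕ) < 72; norm_num) c hc 46 (by show (46 : ℕ) < 72; norm_num),
    arootE6 (39, 46, -1) (by decide)]
  simp only [zpow_neg, zpow_one]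

theorem h39_conj_25 (hF : Facts chevE6) (c : K) (hc : c ≠ 0) (t : K) :
    hF.wordGL (chevE6.hWord 39 c) * hF.xGL 25 t * (hF.wordGL (chevE6.hWord 39 c))⁻¹ =
      hF.xGL 25 (c * t) := by
  rw [hWord_conj hF 39 (by show (39 : ℕ) < 72; norm_num) c hc 25 (by show (25 : ℕ) < 72; norm_num),
    arootE6 (39, 25, 1) (by decide)]
  simp only [zpow_one]

end e6

section e6mem

variable {K : Type*} [Field K] [Fintype K]

theorem duo_mul_E6 (hF : Facts chevE6) (f : K →+* K) (r s : ℕ) (h : (r, s) ∈ commPairsE6)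
    (a b : K) : duo hF f r s a * duo hF f r s b = duo hF f r s (a + b) :=
  duo_mul hF f r s (fun t u => commute_E6 hF r s h t u) a b

theorem duo_mem_E6 (hF : Facts chevE6) (f : K →+* K) (q : ℕ) (hf : ∀ x, f x = x ^ q)
    (r s : ℕ) (hrs : (r, s) ∈ [(e6p1, e6p6), (e6m1, e6m6), (e6p3, e6p5), (e6m3, e6m5)]) (t : K) :
    duo hF f r s t ∈ twistedE6 K q :=
  pair_mem_E6 hF f q hf (r, s) hrs t

theorem hOrbE6_A_mem (hF : Facts chevE6) (f : K →+* K) (q : ℕ) (hf : ∀ x, f x = x ^ q) (γ : K) :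
    hOrbE6 hF f 56 36 γ ∈ twistedE6 K q :=
  h_orbit_mem_E6 hF f q hf 56 15 36 35 e6_simple.2.2.2.2.2.2.1
    e6_simple.2.2.2.2.2.2.2.2.2.2.2 (by decide) (by decide) (by decide) (by decide)
    (by simp [e6p1, e6p6]) (by simp [e6m1, e6m6]) γ

theorem hOrbE6_B_mem (hF : Facts chevE6) (f : K →+* K) (q : ℕ) (hf : ∀ x, f x = x ^ q) (γ : K) :
    hOrbE6 hF f 42 37 γ ∈ twistedE6 K q :=
  h_orbit_mem_E6 hF f q hf 42 29 37 34 e6_simple.2.2.2.2.2.2.2.2.1
    e6_simple.2.2.2.2.2.2.2.2.2.2.1 (by decide) (by decide) (by decide) (by decide)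
    (by simp [e6p3, e6p5]) (by simp [e6m3, e6m5]) γ

theorem h39_mem_E6 (hF : Facts chevE6) (f : K →+* K) (q : ℕ) (hf : ∀ x, f x = x ^ q) (c : K)
    (hc : c ^ q = c) : hF.wordGL (chevE6.hWord 39 c) ∈ twistedE6 K q :=
  h_fixed_mem_E6 hF f q hf 39 32 e6_simple.2.2.2.2.2.2.2.2.2.1 (by simp [e6p4])
    (by simp [e6m4]) c hc

/-- a unit with `γ ^ 2 ≠ 1` -/
theorem exists_sq_ne_one {q : ℕ} (hq : 2 ≤ q) (hK : Fintype.card K = q ^ 2) :
    ∃ γ : K, γ ≠ 0 ∧ γ ^ 2 - 1 ≠ 0 ∧ (γ ^ 2)⁻¹ - 1 ≠ 0 := by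
  have hcard : 2 + 1 < Fintype.card K := by
    rw [hK]
    calc 2 + 1 < 2 ^ 2 := by norm_num
      _ ≤ q ^ 2 := Nat.pow_le_pow_left hq 2
  obtain ⟨γ, hγ⟩ := exists_pow_ne_one (K := K) 2 (by norm_num) hcard
  have h1 : (γ : K) ^ 2 ≠ 1 := by
    intro h
    apply hγ
    apply Units.ext
    rw [Units.val_pow_eq_pow_val, Units.val_one]
    exact h
  refine ⟨(γ : K), γ.ne_zero, ?_, ?_⟩
  · intro h; exact h1 (sub_eq_zero.mp h)
  · intro h; exact h1 (inv_eq_one.mp (sub_eq_zero.mp h))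

/-- the twisted root elements for the orbits of size two are commutators: positive case -/
theorem duo_mem_comm_pos (hF : Facts chevE6) (f : K →+* K) {q : ℕ} (hf : ∀ x, f x = x ^ q)
    (r s : ℕ) (hc : (r, s) ∈ commPairsE6)
    (hrs : (r, s) ∈ [(e6p1, e6p6), (e6m1, e6m6), (e6p3, e6p5), (e6m3, e6m5)])
    (h : GL chevE6.Idx K) (hh : h ∈ twistedE6 K q) (γ : K) (hd : γ ^ 2 - 1 ≠ 0)
    (hconj : ∀ t, h * duo hF f r s t * h⁻¹ = duo hF f r s (γ ^ 2 * t)) (t : K) :
    duo hF f r s t ∈ ⁅twistedE6 K q, twistedE6 K q⁆ := by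
  set d : K := γ ^ 2 - 1 with hd_def
  have e : h * duo hF f r s (t / d) * h⁻¹ = duo hF f r s (t / d) * duo hF f r s t := by
    rw [hconj, duo_mul_E6 hF f r s hc]
    congr 1
    field_simp
    rw [hd_def]; ring
  exact mem_commutator_of_conj_eq _ _ _ _ hh (duo_mem_E6 hF f q hf r s hrs _) e

/-- the twisted root elements for the orbits of size two are commutators: negative case -/
theorem duo_mem_comm_neg (hF : Facts chevE6) (f : K →+* K) {q : ℕ} (hf : ∀ x, f x = x ^ q)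
    (r s : ℕ) (hc : (r, s) ∈ commPairsE6)
    (hrs : (r, s) ∈ [(e6p1, e6p6), (e6m1, e6m6), (e6p3, e6p5), (e6m3, e6m5)])
    (h : GL chevE6.Idx K) (hh : h ∈ twistedE6 K q) (γ : K) (hd : (γ ^ 2)⁻¹ - 1 ≠ 0)
    (hconj : ∀ t, h * duo hF f r s t * h⁻¹ = duo hF f r s ((γ ^ 2)⁻¹ * t)) (t : K) :
    duo hF f r s t ∈ ⁅twistedE6 K q, twistedE6 K q⁆ := by
  set d : K := (γ ^ 2)⁻¹ - 1 with hd_def
  have e : h * duo hF f r s (t / d) * h⁻¹ = duo hF f r s (t / d) * duo hF f r s t := by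
    rw [hconj, duo_mul_E6 hF f r s hc]
    congr 1
    have : (γ ^ 2)⁻¹ = d + 1 := by rw [hd_def]; ring
    rw [this]
    field_simp
    ring
  exact mem_commutator_of_conj_eq _ _ _ _ hh (duo_mem_E6 hF f q hf r s hrs _) e

theorem frob_sq (f : K →+* K) {q : ℕ} (hK : Fintype.card K = q ^ 2) (hf : ∀ x, f x = x ^ q)
    (x : K) : f (f x) = x := by
  rw [hf, hf, ← pow_mul, show q * q = q ^ 2 by ring, ← hK]
  exact FiniteField.pow_card x

/-- a unit whose norm is not `1` -/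
theorem exists_norm_ne_one_E6 (f : K →+* K) {q : ℕ} (hq : 3 ≤ q) (hK : Fintype.card K = q ^ 2)
    (hf : ∀ x, f x = x ^ q) : ∃ γ : K, γ ≠ 0 ∧ γ * f γ ≠ 1 := by
  have hcard : (1 + q) + 1 < Fintype.card K := by
    rw [hK]
    have h3 : 3 * q ≤ q ^ 2 := by rw [sq]; exact Nat.mul_le_mul_right _ hq
    omega
  obtain ⟨γ, hγ⟩ := exists_pow_ne_one (K := K) (1 + q) (by omega) hcard
  refine ⟨(γ : K), γ.ne_zero, ?_⟩
  rw [hf, ← pow_succ']
  intro h
  apply hγ
  apply Units.ext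
  rw [Units.val_pow_eq_pow_val, Units.val_one, add_comm]
  exact h

/-- generic step: a one-parameter root subgroup over the fixed field on which a torus element
of the group acts through a nontrivial fixed scalar consists of commutators -/
theorem single_mem_comm_E6 (hF : Facts chevE6) (f : K →+* K) {q : ℕ} (hf : ∀ x, f x = x ^ q)
    (r : ℕ) (hr : r ∈ [e6p2, e6m2, e6p4, e6m4]) (h : GL chevE6.Idx K) (hh : h ∈ twistedE6 K q)
    (c : K) (hfc : f c = c) (hc1 : c - 1 ≠ 0)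
    (hconj : ∀ t, h * hF.xGL r t * h⁻¹ = hF.xGL r (c * t)) (t : K) (ht : t ^ q = t) :
    hF.xGL r t ∈ ⁅twistedE6 K q, twistedE6 K q⁆ := by
  set d : K := c - 1 with hd_def
  have hfd : f d = d := by rw [hd_def, map_sub, hfc, map_one]
  have hu : (t / d) ^ q = t / d := by
    rw [← hf, map_div₀, hfd, hf, ht]
  have e : h * hF.xGL r (t / d) * h⁻¹ = hF.xGL r (t / d) * hF.xGL r t := by
    rw [hconj, hF.xGL_mul]
    congr 1
    have : c = d + 1 := by rw [hd_def]; ring
    rw [this]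
    field_simp
    ring
  exact mem_commutator_of_conj_eq _ _ _ _ hh (single_mem_E6 hF q r hr _ hu) e

end e6mem

section e6q2

variable {K : Type*} [Field K] [Fintype K]

/-- the element `n_r` for a fixed fundamental root lies in `²E₆(q)` -/
theorem nS_mem_E6 (hF : Facts chevE6) (f : K →+* K) (q : ℕ) (hf : ∀ x, f x = x ^ q)
    (i r r' : ℕ) (hi : chevE6.simple i = r) (hneg : chevE6.neg r = r')
    (hr : r ∈ [e6p2, e6m2, e6p4, e6m4]) (hr' : r' ∈ [e6p2, e6m2, e6p4, e6m4]) :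
    (hF.nS i : GL chevE6.Idx K) ∈ twistedE6 K q := by
  have e : (hF.nS i : GL chevE6.Idx K) =
      hF.xGL r 1 * (hF.xGL r' (-(1 : K)⁻¹) * hF.xGL r 1) := by
    show hF.wordGL (chevE6.nWord (chevE6.simple i) (1 : K)) = _
    rw [hi]
    simp only [ChevalleyDatum.nWord, Facts.wordGL, List.map_cons, List.map_nil, List.prod_cons,
      List.prod_nil, mul_one, hneg]
  rw [e]
  have h1 : ((1 : K)) ^ q = 1 := one_pow q
  have h2 : (-(1 : K)⁻¹) ^ q = -(1 : K)⁻¹ := by rw [← hf, map_neg, map_inv₀, map_one]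
  exact Subgroup.mul_mem _ (single_mem_E6 hF q r hr _ h1)
    (Subgroup.mul_mem _ (single_mem_E6 hF q r' hr' _ h2) (single_mem_E6 hF q r hr _ h1))

theorem nS3_mem_E6 (hF : Facts chevE6) (f : K →+* K) (q : ℕ) (hf : ∀ x, f x = x ^ q) :
    (hF.nS 3 : GL chevE6.Idx K) ∈ twistedE6 K q :=
  nS_mem_E6 hF f q hf 3 39 32 e6_simple.2.2.2.1 e6_simple.2.2.2.2.2.2.2.2.2.1
    (by simp [e6p4]) (by simp [e6m4])

theorem nS1_mem_E6 (hF : Facts chevE6) (f : K →+* K) (q : ℕ) (hf : ∀ x, f x = x ^ q) :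
    (hF.nS 1 : GL chevE6.Idx K) ∈ twistedE6 K q :=
  nS_mem_E6 hF f q hf 1 46 25 e6_simple.2.1 e6_simple.2.2.2.2.2.2.2.1
    (by simp [e6p2]) (by simp [e6m2])

theorem reflect_E6 : chevE6.reflectRoot 3 42 = 43 ∧ chevE6.reflectRoot 3 37 = 40 ∧
    chevE6.reflectRoot 3 46 = 47 ∧ chevE6.reflectRoot 3 39 = 32 ∧
    chevE6.reflectRoot 1 46 = 25 := by decide +kernel

/-- conjugation by `n_{p_i}` in characteristic two -/
theorem nS_conj_E6 (hF : Facts chevE6) (h2 : (2 : K) = 0) (i : ℕ) (hi : i < 6) (s : ℕ)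
    (hs : s < 72) (t : K) :
    hF.nS i * hF.xGL s t * (hF.nS i)⁻¹ = hF.xGL (chevE6.reflectRoot i s) t := by
  obtain ⟨η, hη, h⟩ := hF.nS_conj (F := K) nfactsE6 i hi s hs
  rw [h t, cast_eta_char2 h2 η hη, one_mul]

theorem duo_refl_mem_E6 (hF : Facts chevE6) (f : K →+* K) (q : ℕ) (hf : ∀ x, f x = x ^ q)
    (h2 : (2 : K) = 0) (t : K) : duo hF f 43 40 t ∈ twistedE6 K q := by
  have e : duo hF f 43 40 t = hF.nS 3 * duo hF f 42 37 t * (hF.nS 3)⁻¹ := by
    unfold duo
    rw [conj_mul2, nS_conj_E6 hF h2 3 (by norm_num) 42 (by norm_num),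
      nS_conj_E6 hF h2 3 (by norm_num) 37 (by norm_num), reflect_E6.1, reflect_E6.2.1]
  rw [e]
  have hn := nS3_mem_E6 hF f q hf
  exact Subgroup.mul_mem _ (Subgroup.mul_mem _ hn
    (duo_mem_E6 hF f q hf 42 37 (by simp [e6p3, e6p5]) t)) (Subgroup.inv_mem _ hn)

theorem x47_mem_E6 (hF : Facts chevE6) (f : K →+* K) (q : ℕ) (hf : ∀ x, f x = x ^ q)
    (h2 : (2 : K) = 0) (t : K) (ht : t ^ q = t) : hF.xGL 47 t ∈ twistedE6 K q := by
  have e : hF.xGL 47 t = hF.nS 3 * hF.xGL 46 t * (hF.nS 3)⁻¹ := by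
    rw [nS_conj_E6 hF h2 3 (by norm_num) 46 (by norm_num), reflect_E6.2.2.1]
  rw [e]
  have hn := nS3_mem_E6 hF f q hf
  exact Subgroup.mul_mem _ (Subgroup.mul_mem _ hn
    (single_mem_E6 hF q 46 (by simp [e6p2]) t ht)) (Subgroup.inv_mem _ hn)

/-- further pairs of commuting root subgroups -/
def commPairsE6b : List (ℕ × ℕ) :=
  [(29, 40), (34, 43), (39, 43), (39, 40), (39, 29), (39, 34)]

theorem commPairsE6b_ok : commPairsE6b.all (fun p => commFullOK chevE6 p.1 p.2 &&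
    (chevE6.commTerms p.1 p.2).isEmpty) = true := by decide +kernel

theorem commute_E6b (hF : Facts chevE6) (r s : ℕ) (h : (r, s) ∈ commPairsE6b) (t u : K) :
    Commute (hF.xGL r t) (hF.xGL s u) := by
  have h1 := List.all_eq_true.mp commPairsE6b_ok (r, s) h
  simp only [Bool.and_eq_true, List.isEmpty_iff] at h1
  exact commute_xGL hF r s h1.1 h1.2 t u

theorem commTerms_E6 : commFullOK chevE6 43 29 = true ∧ commFullOK chevE6 40 34 = true ∧
    commFullOK chevE6 47 32 = true ∧ chevE6.commTerms 43 29 = [(39, 1, 1, 1)] ∧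
    chevE6.commTerms 40 34 = [(39, -1, 1, 1)] ∧ chevE6.commTerms 47 32 = [(46, -1, 1, 1)] := by
  decide +kernel

/-- the commutator relations needed in characteristic two -/
theorem comm_rel_E6 (hF : Facts chevE6) (h2 : (2 : K) = 0) (t u : K) :
    hF.xGL 29 u * hF.xGL 43 t = hF.xGL 43 t * hF.xGL 29 u * hF.xGL 39 (t * u) ∧
    hF.xGL 34 u * hF.xGL 40 t = hF.xGL 40 t * hF.xGL 34 u * hF.xGL 39 (t * u) ∧
    hF.xGL 32 u * hF.xGL 47 t = hF.xGL 47 t * hF.xGL 32 u * hF.xGL 46 (t * u) := by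
  have hneg : ∀ x : K, -x = x := by
    intro x
    have : x + x = 0 := by rw [← two_mul, h2, zero_mul]
    exact neg_eq_of_add_eq_zero_left this
  refine ⟨?_, ?_, ?_⟩
  · have h := hF.comm_of_commFullOK 43 29 commTerms_E6.1 t u
    rw [h]
    congr 1
    unfold ChevalleyDatum.commWord
    rw [commTerms_E6.2.2.2.1]
    simp [Facts.wordGL, hneg]
  · have h := hF.comm_of_commFullOK 40 34 commTerms_E6.2.1 t u
    rw [h]
    congr 1
    unfold ChevalleyDatum.commWord
    rw [commTerms_E6.2.2.2.2.1]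
    simp [Facts.wordGL, hneg]
  · have h := hF.comm_of_commFullOK 47 32 commTerms_E6.2.2.1 t u
    rw [h]
    congr 1
    unfold ChevalleyDatum.commWord
    rw [commTerms_E6.2.2.2.2.2]
    simp [Facts.wordGL, hneg]

/-- `x_{p₄}(Tr(t u))` is a commutator in characteristic two -/
theorem x39_trace_mem_comm_E6 (hF : Facts chevE6) (f : K →+* K) (q : ℕ) (hf : ∀ x, f x = x ^ q)
    (h2 : (2 : K) = 0) (t u : K) :
    hF.xGL 39 (t * u + f t * f u) ∈ ⁅twistedE6 K q, twistedE6 K q⁆ := by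
  have h := two_pairs (hF.xGL 43 t) (hF.xGL 40 (f t)) (hF.xGL 29 u) (hF.xGL 34 (f u))
    (hF.xGL 39 (t * u)) (hF.xGL 39 (f t * f u))
    (comm_rel_E6 hF h2 t u).1 (comm_rel_E6 hF h2 (f t) (f u)).2.1
    (commute_E6b hF 29 40 (by decide) _ _) (commute_E6b hF 34 43 (by decide) _ _)
    (by
      intro z hz x hx
      have hz' : ∃ v, z = hF.xGL 39 v := by
        simp only [List.mem_cons, List.not_mem_nil, or_false] at hz
        rcases hz with h | h <;> exact ⟨_, h⟩
      have hx' : ∃ r w, (39, r) ∈ commPairsE6b ∧ x = hF.xGL r w := by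
        simp only [List.mem_cons, List.not_mem_nil, or_false] at hx
        rcases hx with h | h | h | h <;> exact ⟨_, _, by decide, h⟩
      obtain ⟨v, hv⟩ := hz'
      obtain ⟨r, w, hr, hw⟩ := hx'
      rw [hv, hw]
      exact commute_E6b hF 39 r hr v w)
  have hz : hF.xGL 39 (t * u) * hF.xGL 39 (f t * f u) = hF.xGL 39 (t * u + f t * f u) := by
    rw [hF.xGL_mul]
  rw [hz] at h
  exact mem_commutator_of_mul_eq _ _ _ _ (duo_mem_E6 hF f q hf 29 34 (by simp [e6m3, e6m5]) u)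
    (duo_refl_mem_E6 hF f q hf h2 t) h

/-- the trace form is not identically zero when `q = 2` -/
theorem exists_trace_eq_one_E6 (f : K →+* K) (hK : Fintype.card K = 2 ^ 2)
    (hf : ∀ x, f x = x ^ 2) : ∃ t : K, t + f t = 1 := by
  classical
  have hf2 := frob_sq f hK hf
  have key : ∃ t : K, t + f t ≠ 0 := by
    by_contra hcon
    push Not at hcon
    let p : Polynomial K := Polynomial.X ^ 2 + Polynomial.X
    have hdeg : p.natDegree ≤ 2 := by
      apply Polynomial.natDegree_add_le_of_degree_le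
      · exact Polynomial.natDegree_X_pow_le 2
      · exact Polynomial.natDegree_X_le.trans (by norm_num)
    have hp : p = 0 := by
      apply Polynomial.eq_zero_of_natDegree_lt_card_of_eval_eq_zero' p Finset.univ
      · intro t _
        have := hcon t
        rw [hf] at this
        simp only [p, Polynomial.eval_add, Polynomial.eval_pow, Polynomial.eval_X]
        rw [← this]; ring
      · rw [Finset.card_univ, hK]
        omega
    have hc : p.coeff 1 = 1 := by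
      simp [p, Polynomial.coeff_X_pow, Polynomial.coeff_X]
    rw [hp] at hc
    simp at hc
  obtain ⟨t, ht⟩ := key
  refine ⟨t, ?_⟩
  set c : K := t + f t with hc
  have hfc : f c = c := by rw [hc, map_add, hf2]; ring
  rw [hf] at hfc
  have : c * (c - 1) = 0 := by
    have : c * (c - 1) = c ^ 2 - c := by ring
    rw [this, hfc, sub_self]
  rcases mul_eq_zero.mp this with h | h
  · exact absurd h ht
  · exact sub_eq_zero.mp h

end e6q2

/-- `²E₆(q)` is perfect -/
theorem twistedE6_perfect {K : Type*} [Field K] [Fintype K] (hF : Facts chevE6) {q : ℕ}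
    (hq : IsPrimePow q) (hK : Fintype.card K = q ^ 2) : commutator ↥(twistedE6 K q) = ⊤ := by
  obtain ⟨f, hf⟩ := exists_frob hq hK
  have hq2 : 2 ≤ q := two_le_of_card hK
  have hf2 := frob_sq f hK hf
  apply commutator_eq_top_of_le
  have key : chevE6.genSubgroup K (e6Words K q) ≤ ⁅twistedE6 K q, twistedE6 K q⁆ := by
    unfold ChevalleyDatum.genSubgroup
    rw [Subgroup.closure_le]
    rintro g ⟨w, hw, hgw⟩
    have hg' := hF.eq_wordGL g w hgw
    subst hg'
    rcases hw with ⟨t, ht, r, hr, rfl⟩ | ⟨t, rs, hrs, rfl⟩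
    · have hw1 : ∀ r : ℕ, hF.wordGL [(r, t)] = hF.xGL r t := by
        intro r; simp [Facts.wordGL]
      rw [hw1]
      rcases Nat.lt_or_ge q 3 with hlt | hge
      · have hq2' : q = 2 := by omega
        subst hq2'
        have h2 : (2 : K) = 0 := two_eq_zero_of_card hK
        have ht01 : t = 0 ∨ t = 1 := by
          have : t * (t - 1) = 0 := by
            have : t * (t - 1) = t ^ 2 - t := by ring
            rw [this, ht, sub_self]
          rcases mul_eq_zero.mp this with h | h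
          · exact Or.inl h
          · exact Or.inr (sub_eq_zero.mp h)
        obtain ⟨t0, ht0⟩ := exists_trace_eq_one_E6 f hK hf
        have h39 : hF.xGL 39 (1 : K) ∈ ⁅twistedE6 K 2, twistedE6 K 2⁆ := by
          have := x39_trace_mem_comm_E6 hF f 2 hf h2 t0 1
          rw [map_one, mul_one, mul_one, ht0] at this
          exact this
        have h32 : hF.xGL 32 (1 : K) ∈ ⁅twistedE6 K 2, twistedE6 K 2⁆ := by
          have e : hF.xGL 32 (1 : K) = hF.nS 3 * hF.xGL 39 1 * (hF.nS 3)⁻¹ := by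
            rw [nS_conj_E6 hF h2 3 (by norm_num) 39 (by norm_num), reflect_E6.2.2.2.1]
          rw [e]
          exact conj_mem_commutator _ _ _ (nS3_mem_E6 hF f 2 hf) h39
        have h46 : hF.xGL 46 (1 : K) ∈ ⁅twistedE6 K 2, twistedE6 K 2⁆ := by
          have h := (comm_rel_E6 hF h2 (1 : K) 1).2.2
          rw [mul_one] at h
          exact mem_commutator_of_mul_eq _ _ _ _
            (single_mem_E6 hF 2 32 (by simp [e6m4]) 1 (one_pow 2))
            (x47_mem_E6 hF f 2 hf h2 1 (one_pow 2)) h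
        have h25 : hF.xGL 25 (1 : K) ∈ ⁅twistedE6 K 2, twistedE6 K 2⁆ := by
          have e : hF.xGL 25 (1 : K) = hF.nS 1 * hF.xGL 46 1 * (hF.nS 1)⁻¹ := by
            rw [nS_conj_E6 hF h2 1 (by norm_num) 46 (by norm_num), reflect_E6.2.2.2.2]
          rw [e]
          exact conj_mem_commutator _ _ _ (nS1_mem_E6 hF f 2 hf) h46
        rcases ht01 with rfl | rfl
        · rw [hF.xGL_zero]; exact Subgroup.one_mem _
        · simp only [e6p2, e6m2, e6p4, e6m4, List.mem_cons, List.not_mem_nil, or_false] at hr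
          rcases hr with rfl | rfl | rfl | rfl
          · exact h46
          · exact h25
          · exact h39
          · exact h32
      · obtain ⟨γ, hγ0, hN⟩ := exists_norm_ne_one_E6 f hge hK hf
        have hfN : f (γ * f γ) = γ * f γ := by rw [map_mul, hf2]; ring
        have hN0 : γ * f γ ≠ 0 := mul_ne_zero hγ0 ((map_ne_zero f).mpr hγ0)
        have hNq : (γ * f γ) ^ q = γ * f γ := by rw [← hf, hfN]
        have hfNi : f ((γ * f γ)⁻¹) = (γ * f γ)⁻¹ := by rw [map_inv₀, hfN]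
        have hN1 : γ * f γ - 1 ≠ 0 := fun h => hN (sub_eq_zero.mp h)
        have hN1' : (γ * f γ)⁻¹ - 1 ≠ 0 := fun h => hN (inv_eq_one.mp (sub_eq_zero.mp h))
        have hr' := hr
        simp only [e6p2, e6m2, e6p4, e6m4, List.mem_cons, List.not_mem_nil, or_false] at hr
        rcases hr with rfl | rfl | rfl | rfl
        · exact single_mem_comm_E6 hF f hf 46 hr' _ (h39_mem_E6 hF f q hf _ hNq) _ hfNi hN1'
            (fun t => h39_conj_46 hF _ hN0 t) t ht
        · exact single_mem_comm_E6 hF f hf 25 hr' _ (h39_mem_E6 hF f q hf _ hNq) _ hfN hN1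
            (fun t => h39_conj_25 hF _ hN0 t) t ht
        · exact single_mem_comm_E6 hF f hf 39 hr' _ (hOrbE6_B_mem hF f q hf γ) _ hfNi hN1'
            (fun t => hOrbE6_conj_39 hF f γ hγ0 t) t ht
        · exact single_mem_comm_E6 hF f hf 32 hr' _ (hOrbE6_B_mem hF f q hf γ) _ hfN hN1
            (fun t => hOrbE6_conj_32 hF f γ hγ0 t) t ht
    · have hw2 : ∀ r1 r2 : ℕ, hF.wordGL [(r1, t), (r2, t ^ q)] = duo hF f r1 r2 t := by
        intro r1 r2
        rw [← hf]
        simp [Facts.wordGL, duo]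
      rw [hw2]
      obtain ⟨γ, hγ0, hd1, hd2⟩ := exists_sq_ne_one hq2 hK
      have hrs' := hrs
      simp only [e6p1, e6p6, e6m1, e6m6, e6p3, e6p5, e6m3, e6m5, List.mem_cons,
        List.not_mem_nil, or_false] at hrs
      rcases hrs with rfl | rfl | rfl | rfl
      · exact duo_mem_comm_pos hF f hf 56 36 (by decide) hrs' _ (hOrbE6_A_mem hF f q hf γ) γ hd1
          (fun t => hOrbE6_conj_A_pos hF f γ hγ0 t) t
      · exact duo_mem_comm_neg hF f hf 15 35 (by decide) hrs' _ (hOrbE6_A_mem hF f q hf γ) γ hd2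
          (fun t => hOrbE6_conj_A_neg hF f γ hγ0 t) t
      · exact duo_mem_comm_pos hF f hf 42 37 (by decide) hrs' _ (hOrbE6_B_mem hF f q hf γ) γ hd1
          (fun t => hOrbE6_conj_B_pos hF f γ hγ0 t) t
      · exact duo_mem_comm_neg hF f hf 29 34 (by decide) hrs' _ (hOrbE6_B_mem hF f q hf γ) γ hd2
          (fun t => hOrbE6_conj_B_neg hF f γ hγ0 t) t
  exact key

end Cfsg.Agent.Lib.Helper76.Twist
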