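import Cfsg.Agent.Lib.Helper24.GraphTab
import Cfsg.Agent.Lib.Helper24.CommFormula
import Cfsg.Agent.Lib.Helper76.ChevTorusCard

/-!
# The twisting automorphism `σ = (graph automorphism) ∘ (field endomorphism)` on `GL`

For a Chevalley datum `D` with a graph automorphism given by the packed tables of
`Cfsg.Agent.Lib.Helper24.GraphTab` and a ring endomorphism `f` of the field, the map
`σ g = g₀ · f(g) · g₀⁻¹` on the general linear group sends `x_s(t)` to `x_{R s}(η_s f t)`.
We compute `σ` on words, on the generators `h_{p_i}(γ)` of the diagonal subgroup and on the torus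
parametrisation of `Cfsg.Agent.Lib.Helper76.ChevTorus`.
-/

set_option autoImplicit false

namespace Cfsg.Agent.Lib.Helper76.Twist

open Cfsg.Lie Cfsg.Agent.Lib.Helper24 Cfsg.Agent.Lib.Helper76.ChevTorus
  Cfsg.Agent.Lib.Helper76.MonomialAct

section basic

variable {K : Type*} [Field K]

theorem xMat_map' (D : ChevalleyDatum) (σ : K →+* K) (r : Fin D.nroots) (t : K) :
    (D.xMat K r t).map σ = D.xMat K r (σ t) := by
  ext row col
  simp only [Matrix.map_apply, ChevalleyDatum.xMat, Matrix.of_apply]
  rcases col with i | s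
  · rcases row with i' | u
    · simp [apply_ite σ]
    · simp [apply_ite σ]
  · by_cases h1 : s = r
    · simp only [h1, if_true]
      rcases row with i' | u
      · simp
      · simp [apply_ite σ]
    · simp only [h1, if_false]
      by_cases h2 : s.val = D.negIdx.getD r.val 0
      · simp only [h2, if_true]
        rcases row with i' | u
        · simp
        · simp [apply_ite σ]
      · simp only [h2, if_false]
        rcases row with i' | u
        · simp
        · simp [apply_ite σ, map_list_sum, List.map_map, Function.comp_def]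

theorem x_map' (D : ChevalleyDatum) (σ : K →+* K) (s : ℕ) (t : K) :
    (D.x K s t).map σ = D.x K s (σ t) := by
  unfold ChevalleyDatum.x
  split_ifs with h
  · exact xMat_map' D σ ⟨s, h⟩ t
  · exact Matrix.map_one σ (map_zero σ) (map_one σ)

/-- entrywise application of a ring endomorphism, on the general linear group -/
def frobGL (D : ChevalleyDatum) (f : K →+* K) : GL D.Idx K →* GL D.Idx K :=
  Units.map (f.mapMatrix : Matrix D.Idx D.Idx K →+* Matrix D.Idx D.Idx K).toMonoidHom

theorem frobGL_val (D : ChevalleyDatum) (f : K →+* K) (g : GL D.Idx K) :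
    ((frobGL D f g : GL D.Idx K) : Matrix D.Idx D.Idx K) = (g : Matrix D.Idx D.Idx K).map f := rfl

theorem frobGL_xGL {D : ChevalleyDatum} (hF : Facts D) (f : K →+* K) (s : ℕ) (t : K) :
    frobGL D f (hF.xGL s t) = hF.xGL s (f t) := by
  apply Units.ext
  rw [frobGL_val, Facts.xGL_val, Facts.xGL_val, x_map']

end basic

/-- tables describing a graph automorphism of a datum -/
structure GraphData (D : ChevalleyDatum) where
  P : ℕ
  P' : ℕ
  R : List ℕ
  ρ : List ℕ
  hinv : invTabOK (D.rank + D.nroots) P P' = true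
  hconj : ∀ s < D.nroots, conjPairOK2 D P s (R.getD s 0) = true
  hfix : simpleFixOK D P R ρ = true

namespace GraphData

variable {K : Type*} [Field K] {D : ChevalleyDatum} (Γ : GraphData D)

/-- the monomial matrix of the graph automorphism -/
def g0 (K : Type*) [Field K] : GL D.Idx K :=
  ⟨cMat D (mcolP Γ.P (D.rank + D.nroots)), cMat D (mcolP Γ.P' (D.rank + D.nroots)),
    cMat_mul_cMat_eq_one (F := K) D Γ.P Γ.P' Γ.hinv,
    _root_.mul_eq_one_comm.mp (cMat_mul_cMat_eq_one (F := K) D Γ.P Γ.P' Γ.hinv)⟩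

/-- the sign attached to a root -/
def eta (K : Type*) [Field K] (s : ℕ) : K :=
  ((etaOf (mcolP Γ.P (D.rank + D.nroots) (D.rank + s)) : ℤ) : K)

theorem conj_xGL (hF : Facts D) (s : ℕ) (hs : s < D.nroots) (t : K) :
    Γ.g0 K * hF.xGL s t * (Γ.g0 K)⁻¹ = hF.xGL (Γ.R.getD s 0) (Γ.eta K s * t) := by
  rw [mul_inv_eq_iff_eq_mul]
  apply Units.ext
  rw [Units.val_mul, Units.val_mul, Facts.xGL_val, Facts.xGL_val]
  exact conj_of_conjPairOK2 D hF.table Γ.P s _ hs (Γ.hconj s hs) t

/-- the facts about the fundamental roots -/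
theorem simple_spec (i : ℕ) (hi : i < D.rank) :
    D.simple i < D.nroots ∧ D.neg (D.simple i) < D.nroots ∧
      Γ.R.getD (D.simple i) 0 = D.simple (Γ.ρ.getD i 0) ∧
      Γ.R.getD (D.neg (D.simple i)) 0 = D.neg (D.simple (Γ.ρ.getD i 0)) ∧
      Γ.eta K (D.simple i) = 1 ∧ Γ.eta K (D.neg (D.simple i)) = 1 := by
  have hfix := Γ.hfix
  simp only [simpleFixOK, List.all_eq_true, List.mem_range, Bool.and_eq_true,
    decide_eq_true_eq, nbeq_true] at hfix
  obtain ⟨⟨⟨⟨⟨h1, h2⟩, h3⟩, h4⟩, h5⟩, h6⟩ := hfix i hi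
  refine ⟨h1, h2, h3, h4, ?_, ?_⟩
  · unfold eta; rw [h5, Int.cast_one]
  · unfold eta; rw [h6, Int.cast_one]

/-- the twisting endomorphism of the general linear group -/
def sigma (f : K →+* K) : GL D.Idx K →* GL D.Idx K :=
  ((MulAut.conj (Γ.g0 K) : GL D.Idx K ≃* GL D.Idx K) : GL D.Idx K →* GL D.Idx K).comp (frobGL D f)

theorem sigma_apply (f : K →+* K) (g : GL D.Idx K) :
    Γ.sigma f g = Γ.g0 K * frobGL D f g * (Γ.g0 K)⁻¹ := rfl

theorem sigma_xGL (hF : Facts D) (f : K →+* K) (s : ℕ) (hs : s < D.nroots) (t : K) :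
    Γ.sigma f (hF.xGL s t) = hF.xGL (Γ.R.getD s 0) (Γ.eta K s * f t) := by
  rw [sigma_apply, frobGL_xGL, conj_xGL Γ hF s hs]

/-- the image of a word under the twisting endomorphism -/
def twistWord (f : K →+* K) (w : List (ℕ × K)) : List (ℕ × K) :=
  w.map fun p => (Γ.R.getD p.1 0, Γ.eta K p.1 * f p.2)

theorem sigma_wordGL (hF : Facts D) (f : K →+* K) (w : List (ℕ × K))
    (hw : ∀ p ∈ w, p.1 < D.nroots) :
    Γ.sigma f (hF.wordGL w) = hF.wordGL (Γ.twistWord f w) := by
  induction w with
  | nil => simp [Facts.wordGL, twistWord]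
  | cons p rest ih =>
    have h1 : hF.wordGL (p :: rest) = hF.xGL p.1 p.2 * hF.wordGL rest := by
      simp [Facts.wordGL]
    have h2 : hF.wordGL (Γ.twistWord f (p :: rest)) =
        hF.xGL (Γ.R.getD p.1 0) (Γ.eta K p.1 * f p.2) * hF.wordGL (Γ.twistWord f rest) := by
      simp [Facts.wordGL, twistWord]
    rw [h1, map_mul, h2, ih (fun q hq => hw q (List.mem_cons_of_mem _ hq)),
      sigma_xGL Γ hF f p.1 (hw p List.mem_cons_self)]

/-- `σ(h_{p_i}(γ)) = h_{p_{ρ i}}(f γ)` at the level of words -/
theorem twistWord_hWord_simple (f : K →+* K) (i : ℕ) (hi : i < D.rank) (γ : K) :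
    Γ.twistWord f (D.hWord (D.simple i) γ) = D.hWord (D.simple (Γ.ρ.getD i 0)) (f γ) := by
  obtain ⟨_, _, h3, h4, h5, h6⟩ := Γ.simple_spec (K := K) i hi
  simp only [twistWord, ChevalleyDatum.hWord, ChevalleyDatum.nWord, List.cons_append,
    List.nil_append, List.map_cons, List.map_nil, h3, h4, h5, h6, one_mul, map_neg, map_inv₀,
    map_one]

theorem sigma_hWord_simple (hF : Facts D) (f : K →+* K) (i : ℕ) (hi : i < D.rank) (γ : K) :
    Γ.sigma f (hF.wordGL (D.hWord (D.simple i) γ)) =
      hF.wordGL (D.hWord (D.simple (Γ.ρ.getD i 0)) (f γ)) := by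
  obtain ⟨h1, h2, _, _, _, _⟩ := Γ.simple_spec (K := K) i hi
  rw [sigma_wordGL Γ hF f, twistWord_hWord_simple Γ f i hi]
  intro p hp
  simp only [ChevalleyDatum.hWord, ChevalleyDatum.nWord, List.cons_append, List.nil_append,
    List.mem_cons, List.not_mem_nil, or_false] at hp
  rcases hp with rfl | rfl | rfl | rfl | rfl | rfl <;> assumption

end GraphData

section torus

variable {K : Type*} [Field K] {D : ChevalleyDatum}

/-- the torus generator `h_{p_i}(γ)` as a word -/
theorem torusHom_mulSingle_eq (hF : Facts D) (hS : simpleOK D = true) (i : Fin D.rank) (γ : Kˣ) :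
    torusHom D (Pi.mulSingle i γ) = hF.wordGL (D.hWord (D.simple i) (γ : K)) := by
  apply Units.ext
  rw [torusHom_mulSingle_val hF hS, hF.wordGL_val]
  rfl

/-- the twisting map on torus parameters -/
def twHom (f : K →+* K) {l : ℕ} (π : Equiv.Perm (Fin l)) : (Fin l → Kˣ) →* (Fin l → Kˣ) where
  toFun c j := Units.map (f : K →* K) (c (π.symm j))
  map_one' := by funext j; simp
  map_mul' c c' := by funext j; simp

@[simp] theorem twHom_apply (f : K →+* K) {l : ℕ} (π : Equiv.Perm (Fin l)) (c : Fin l → Kˣ)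
    (j : Fin l) : twHom f π c j = Units.map (f : K →* K) (c (π.symm j)) := rfl

theorem twHom_mulSingle (f : K →+* K) {l : ℕ} (π : Equiv.Perm (Fin l)) (i : Fin l) (γ : Kˣ) :
    twHom f π (Pi.mulSingle i γ) = Pi.mulSingle (π i) (Units.map (f : K →* K) γ) := by
  funext j
  rw [twHom_apply]
  by_cases h : j = π i
  · subst h
    simp
  · have h' : π.symm j ≠ i := fun e => h (by rw [← e, Equiv.apply_symm_apply])
    rw [Pi.mulSingle_eq_of_ne h', Pi.mulSingle_eq_of_ne h, map_one]

theorem hom_pi_ext {l : ℕ} {M N : Type*} [CommMonoid M] [Monoid N] (g h : (Fin l → M) →* N)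
    (H : ∀ i x, g (Pi.mulSingle i x) = h (Pi.mulSingle i x)) : g = h := by
  apply MonoidHom.ext
  intro c
  have hc : c = (List.ofFn fun i => Pi.mulSingle i (c i)).prod := by
    rw [Fin.prod_ofFn]; exact (Finset.univ_prod_mulSingle c).symm
  rw [hc, map_list_prod, map_list_prod, List.map_ofFn, List.map_ofFn]
  exact congrArg List.prod (congrArg List.ofFn (funext fun i => H i (c i)))

theorem sigma_torusHom (Γ : GraphData D) (hF : Facts D) (hS : simpleOK D = true) (f : K →+* K)
    (π : Equiv.Perm (Fin D.rank)) (hπ : ∀ i : Fin D.rank, ((π i : Fin D.rank) : ℕ) = Γ.ρ.getD i 0)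
    (c : Fin D.rank → Kˣ) :
    Γ.sigma f (torusHom D c) = torusHom D (twHom f π c) := by
  have key : (Γ.sigma f).comp (torusHom D) = (torusHom D).comp (twHom f π) := by
    apply hom_pi_ext
    intro i γ
    rw [MonoidHom.comp_apply, MonoidHom.comp_apply, twHom_mulSingle,
      torusHom_mulSingle_eq hF hS, torusHom_mulSingle_eq hF hS,
      Γ.sigma_hWord_simple hF f i i.2, hπ i]
    rfl
  exact DFunLike.congr_fun key c

end torus

section lists

variable {G : Type*} [Group G]

/-- interleaving two lists of pairwise commuting elements -/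
theorem prod_mul_prod_eq_zipWith : ∀ (A B : List G), A.length = B.length →
    (∀ a ∈ A, ∀ b ∈ B, Commute a b) → A.prod * B.prod = (List.zipWith (· * ·) A B).prod
  | [], [], _, _ => by simp
  | [], _ :: _, h, _ => by simp at h
  | _ :: _, [], h, _ => by simp at h
  | a :: A, b :: B, h, hc => by
    have hlen : A.length = B.length := by simpa using h
    have hAb : Commute A.prod b := by
      apply Commute.list_prod_left
      intro x hx
      exact hc x (List.mem_cons_of_mem _ hx) b List.mem_cons_self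
    have ih := prod_mul_prod_eq_zipWith A B hlen
      (fun x hx y hy => hc x (List.mem_cons_of_mem _ hx) y (List.mem_cons_of_mem _ hy))
    rw [List.prod_cons, List.prod_cons, List.zipWith_cons_cons, List.prod_cons, ← ih]
    calc a * A.prod * (b * B.prod) = a * (A.prod * b) * B.prod := by group
      _ = a * (b * A.prod) * B.prod := by rw [hAb.eq]
      _ = a * b * (A.prod * B.prod) := by group

end lists

end Cfsg.Agent.Lib.Helper76.Twist
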